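/-
helper72: Bender–Glauberman, Corollary 12.10 (a), (b), (d), (e) (= S1420) as consequences of
Proposition 12.4 (S1416) and Theorem 12.5 (S1417), whose statements are taken as hypotheses
`B12P4 G` and `B12T5 G` (together with `BGUniq G` = S1403).
Everything lives in `Cfsg.Agent.Helper72`.
-/
import Cfsg.Agent.Helper22.BG11a

set_option autoImplicit false

namespace Cfsg.Agent.Helper72

open Cfsg Subgroup Cfsg.Agent.Helper22 Cfsg.Agent.Helper23 Cfsg.Agent.Helper35
open scoped Pointwise commutatorElement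

universe u

variable {G : Type u} [Group G] [Finite G]

/-- The statement of S1416 (B&G Proposition 12.4) as a hypothesis on `G`. -/
def B12P4 (G : Type u) [Group G] : Prop :=
  ∀ (M : Subgroup G), IsCoatom M → ∀ (p : ℕ) [Fact p.Prime] (A : Subgroup G),
    (A ≤ M ∧ IsElementaryAbelian p A ∧ Nat.card A = p ^ 2) →
    centralizer (A : Set G) ≤ M ∧
      ((∀ A₀ : Subgroup G, A₀ ≤ A → Nat.card A₀ = p →
          ¬ (normalizer (A₀ : Set G) ≤ M ∧
            ∀ L : Subgroup G, IsCoatom L → normalizer (A₀ : Set G) ≤ L → L = M)) →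
        p ∈ sigma M ∧ alphaCore M = ⊥ ∧ Group.IsNilpotent (sigmaCore M))

/-- The statement of S1417 (B&G Theorem 12.5) as a hypothesis on `G`. -/
def B12T5 (G : Type u) [Group G] : Prop :=
  ∀ (M : Subgroup G), IsCoatom M → ∀ (p : ℕ) [Fact p.Prime], p ∈ tau2 M → ∀ (A : Subgroup G),
    (A ≤ M ∧ IsElementaryAbelian p A ∧ Nat.card A = p ^ 2) →
    Group.IsNilpotent (sigmaCore M) ∧
      (∀ P : Sylow p M, IsMulCommutative (P : Subgroup M) ∧
        (A ≤ (P : Subgroup M).map M.subtype →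
          (∀ x ∈ (P : Subgroup M).map M.subtype, x ^ p = 1 ↔ x ∈ A) ∧
          ¬ normalizer ((((P : Subgroup M).map M.subtype : Subgroup G)) : Set G) ≤ M)) ∧
      M ≤ normalizer ((sigmaCore M ⊔ A : Subgroup G) : Set G) ∧
      sigmaCore M ⊓ centralizer (A : Set G) = ⊥ ∧
      (∀ Mstar : Subgroup G, IsCoatom Mstar → Mstar ≠ M → A ≤ Mstar →
        sigmaCore M ⊓ Mstar = ⊥) ∧
      ∃ A₁ : Subgroup G, A₁ ≤ A ∧ Nat.card A₁ = p ∧
        sigmaCore M ⊓ centralizer (A₁ : Set G) = ⊥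

omit [Finite G] in
theorem b12c_elemAb_of {p : ℕ} {A : Subgroup G} (hc : ∀ x ∈ A, ∀ y ∈ A, x * y = y * x)
    (he : ∀ x ∈ A, x ^ p = 1) : IsElementaryAbelian p A :=
  ⟨⟨⟨fun a b => Subtype.ext (hc a a.2 b b.2)⟩⟩, he⟩

/-- For `q ∈ τ₂(M)` there is an elementary abelian subgroup of order `q ^ 2` in `M`. -/
theorem b12c_exists_elemAb {M : Subgroup G} {q : ℕ} (hq : q ∈ tau2 M) :
    ∃ A : Subgroup G, A ≤ M ∧ IsElementaryAbelian q A ∧ Nat.card A = q ^ 2 := by
  obtain ⟨A, hAM, hAc, hAe, hAcard⟩ := bg10_exists_elemAb_sq hq.1 hq.2.2.2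
  exact ⟨A, hAM, b12c_elemAb_of hAc hAe, hAcard⟩

/-- `q`-subgroups of `M` are abelian for `q ∈ τ₂(M)`. -/
theorem b12c_tau2_comm (hT : B12T5 G) {M : Subgroup G} (hM : IsCoatom M) {q : ℕ}
    [Fact q.Prime] (hq : q ∈ tau2 M) {X : Subgroup G} (hXM : X ≤ M) (hX : IsPGroup q X) :
    ∀ a ∈ X, ∀ b ∈ X, a * b = b * a := by
  obtain ⟨A, hAM, hA, hAcard⟩ := b12c_exists_elemAb hq
  obtain ⟨-, hP, -⟩ := hT M hM q hq A ⟨hAM, hA, hAcard⟩
  obtain ⟨P, hXP⟩ := (hX.comap_subtype (K := M)).exists_le_sylow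
  intro a ha b hb
  have h1 := (hP P).1
  have ha' : (⟨a, hXM ha⟩ : M) ∈ (P : Subgroup M) := hXP (mem_subgroupOf.mpr ha)
  have hb' : (⟨b, hXM hb⟩ : M) ∈ (P : Subgroup M) := hXP (mem_subgroupOf.mpr hb)
  have h2 := h1.is_comm.comm ⟨⟨a, hXM ha⟩, ha'⟩ ⟨⟨b, hXM hb⟩, hb'⟩
  have h3 := congrArg (fun z : (P : Subgroup M) => ((z : M) : G)) h2
  simpa using h3

/-- **B&G Corollary 12.10(a)**: a nilpotent `σ(M)'`-subgroup of `M` is abelian. -/
theorem b12c_nil_abelian (hG : IsMinSimpleOddOrder G) (hU : BGUniq G) (hT : B12T5 G)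
    {M : Subgroup G} (hM : IsCoatom M) {N : Subgroup G} (hNM : N ≤ M)
    (hnil : Group.IsNilpotent N)
    (hσ : ∀ p : ℕ, p.Prime → p ∣ Nat.card N → p ∉ sigma M) : IsMulCommutative N := by
  have hodd : Odd (Nat.card G) := hG.1
  have key : ∀ (q : ℕ) [Fact q.Prime], q ∣ Nat.card N → ∀ (Q : Sylow q N),
      ∀ a ∈ (Q : Subgroup N), ∀ b ∈ (Q : Subgroup N), a * b = b * a := by
    intro q _ hd Q a ha b hb
    have hq : q.Prime := Fact.out
    have hqσ := hσ q hq hd
    obtain ⟨K, hKdef⟩ : ∃ K : Subgroup G, K = (Q : Subgroup N).map N.subtype := ⟨_, rfl⟩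
    have hKp : IsPGroup q K := by rw [hKdef]; exact Q.2.map _
    have hKM : K ≤ M := by rw [hKdef]; exact (map_subtype_le _).trans hNM
    have haK : (a : G) ∈ K := by rw [hKdef]; exact ⟨a, ha, rfl⟩
    have hbK : (b : G) ∈ K := by rw [hKdef]; exact ⟨b, hb, rfl⟩
    have hcomm : ∀ x ∈ K, ∀ y ∈ K, x * y = y * x := by
      by_cases hr1 : PRankLE q 1 ↥M
      · have hR : RankLE 1 ↥K := by
          apply bg12_rankLE_one_of_primes hKM
          intro r hr hrd
          obtain ⟨n, hn⟩ := IsPGroup.iff_card.mp hKp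
          rw [hn] at hrd
          have : r = q := (Nat.prime_dvd_prime_iff_eq hr hq).mp (hr.dvd_of_dvd_pow hrd)
          rw [this]; exact hr1
        have hKnil : Group.IsNilpotent ↥K := hKp.isNilpotent
        have hcyc : IsCyclic ↥K := bg12_isCyclic_of_comm hodd hR hKnil
        intro x hx y hy
        have h1 := (IsCyclic.isMulCommutative (α := ↥K)).is_comm.comm ⟨x, hx⟩ ⟨y, hy⟩
        exact congrArg Subtype.val h1
      · have hq2 : q ∈ tau2 M := ⟨hq, hqσ, bg10_pRank_of_not_alpha M q hq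
          (fun hα => hqσ (bg10_alpha_sub_sigma hG hU hM hα)), hr1⟩
        exact b12c_tau2_comm hT hM hq2 hKM hKp
    exact Subtype.ext (hcomm a haK b hbK)
  obtain ⟨e⟩ := ((Group.isNilpotent_of_finite_tfae (G := N)).out 0 4).mp hnil
  refine ⟨⟨fun a b => ?_⟩⟩
  apply e.symm.injective
  rw [map_mul, map_mul]
  funext p P
  apply Subtype.ext
  have hp : (p : ℕ).Prime := Nat.prime_of_mem_primeFactors p.2
  have hd : (p : ℕ) ∣ Nat.card N := Nat.dvd_of_mem_primeFactors p.2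
  have := Fact.mk hp
  have := key p hd P _ (e.symm a p P).2 _ (e.symm b p P).2
  simpa using this

/-- **B&G Corollary 12.10(b)**: the derived subgroup of a complement of `M_σ` is abelian. -/
theorem b12c_der_abelian (hG : IsMinSimpleOddOrder G) (hU : BGUniq G) (hT : B12T5 G)
    {M : Subgroup G} (hM : IsCoatom M) {E : Subgroup G} (hE : IsComplIn E (sigmaCore M) M) :
    IsMulCommutative ↥⁅E, E⁆ := by
  have hle : ⁅E, E⁆ ≤ E := Subgroup.commutator_le_self E
  apply b12c_nil_abelian hG hU hT hM (hle.trans hE.1) (bg12_E_structure hG hU hM hE).1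
  intro p hp hd
  exact bg12_not_sigma_of_dvd hG hU hM hE hp (hd.trans (Subgroup.card_dvd_of_le hle))

/-- **B&G Corollary 12.10(d)**: for `p ∈ σ(M)` the normalizer of a noncyclic `p`-subgroup of `M`
lies in `M`. -/
theorem b12c_norm_noncyclic (hG : IsMinSimpleOddOrder G) (hU : BGUniq G) (hP4 : B12P4 G)
    {M : Subgroup G} (hM : IsCoatom M) {p : ℕ} {P : Subgroup G} (hp : p ∈ sigma M)
    (hP : IsPGroup p P) (hPM : P ≤ M) (hnc : ¬ IsCyclic P) :
    normalizer (P : Set G) ≤ M := by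
  have hodd : Odd (Nat.card G) := hG.1
  have hpp : p.Prime := hp.1
  have := Fact.mk hpp
  have hP1 : P ≠ ⊥ := by
    rintro rfl
    exact hnc inferInstance
  have hr : ¬ PRankLE p 1 ↥P := by
    intro hr1
    apply hnc
    have hR : RankLE 1 ↥P := by
      intro r hr
      by_cases hrp : r = p
      · rw [hrp]; exact hr1
      · apply bg12_pRankLE_of_not_dvd hr
        intro hrd
        obtain ⟨n, hn⟩ := IsPGroup.iff_card.mp hP
        rw [hn] at hrd
        exact hrp ((Nat.prime_dvd_prime_iff_eq hr hpp).mp (hr.dvd_of_dvd_pow hrd))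
    exact bg12_isCyclic_of_comm hodd hR hP.isNilpotent
  obtain ⟨A, hAP, hAc, hAe, hAcard⟩ := bg10_exists_elemAb_sq hpp hr
  have hCA := (hP4 M hM p A ⟨hAP.trans hPM, b12c_elemAb_of hAc hAe, hAcard⟩).1
  have hfus := (bg10_sigma_fusion hG hU hM hp hP hP1 hPM).2
  rw [hfus]
  refine sup_le inf_le_left ?_
  exact (centralizer_le (by exact_mod_cast hAP)).trans hCA

omit [Finite G] in
theorem b12c_conj_elemAb {p : ℕ} {A : Subgroup G} (hA : IsElementaryAbelian p A) (g : G) :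
    IsElementaryAbelian p (MulAut.conj g • A) := by
  apply b12c_elemAb_of
  · intro x hx y hy
    rw [mem_conj_smul] at hx hy
    have h := bg11_elemAb_comm hA _ hx _ hy
    have e1 : x * y = g * ((g⁻¹ * x * g) * (g⁻¹ * y * g)) * g⁻¹ := by group
    have e2 : y * x = g * ((g⁻¹ * y * g) * (g⁻¹ * x * g)) * g⁻¹ := by group
    rw [e1, e2, h]
  · intro x hx
    rw [mem_conj_smul] at hx
    have h := hA.2 _ hx
    have e : x = g * (g⁻¹ * x * g) * g⁻¹ := by group
    rw [e, conj_pow, h]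
    group

omit [Finite G] in
theorem b12c_mem_of_pow_mem {x : G} {m n : ℕ} (h : Nat.Coprime m n) {C : Subgroup G}
    (hu : x ^ m ∈ C) (hy : x ^ n ∈ C) : x ∈ C := by
  have h1 := Nat.gcd_eq_gcd_ab m n
  rw [h] at h1
  have e : x = (x ^ m) ^ (Nat.gcdA m n) * (x ^ n) ^ (Nat.gcdB m n) := by
    rw [← zpow_natCast x m, ← zpow_natCast x n, ← zpow_mul, ← zpow_mul, ← zpow_add, ← h1]
    simp
  rw [e]
  exact C.mul_mem (C.zpow_mem hu _) (C.zpow_mem hy _)

/-- A `q`-subgroup `A` of `K` is a Sylow subgroup when `|K|` divides `c * |A|` with `q ∤ c`. -/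
theorem b12c_mem_sylowSet {q : ℕ} [Fact q.Prime] {A K : Subgroup G} (hAK : A ≤ K) {n c : ℕ}
    (hA : Nat.card A = q ^ n) (hK : Nat.card K ∣ c * q ^ n) (hc : ¬ q ∣ c) :
    A ∈ sylowSet q K := by
  have hq : q.Prime := Fact.out
  refine ⟨hAK, ?_⟩
  rw [hA]
  congr 1
  obtain ⟨t, ht⟩ := Subgroup.card_dvd_of_le hAK
  rw [hA] at ht
  have ht0 : t ≠ 0 := by
    rintro rfl
    rw [mul_zero] at ht
    exact Nat.card_pos.ne' ht
  have htc : t ∣ c := by
    rw [ht, mul_comm c] at hK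
    exact Nat.dvd_of_mul_dvd_mul_left (pow_pos hq.pos n) hK
  have hqt : ¬ q ∣ t := fun h => hc (h.trans htc)
  rw [ht, Nat.factorization_mul (pow_ne_zero n hq.ne_zero) ht0, Nat.Prime.factorization_pow hq,
    Finsupp.add_apply, Finsupp.single_eq_same, Nat.factorization_eq_zero_of_not_dvd hqt,
    add_zero]

/-- A subgroup `Y` of a proper subgroup `M` whose order involves only primes larger than `r`
centralizes every `r`-subgroup of order at most `r ^ 2` of `M` which it normalizes. -/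
theorem b12c_primes_gt_centralizes (hG : IsMinSimpleOddOrder G) {M : Subgroup G} (hM : M ≠ ⊤)
    {r : ℕ} [Fact r.Prime] {R Y : Subgroup G} (hRM : R ≤ M) (hYM : Y ≤ M) (hR : IsPGroup r R)
    (hr : Nat.card R ≤ r ^ 2) (hYR : Y ≤ normalizer (R : Set G))
    (hY : ∀ q : ℕ, q.Prime → q ∣ Nat.card Y → r < q) :
    ∀ y ∈ Y, ∀ a ∈ R, a * y = y * a := by
  have hsolv : Group.IsSolvable ↥M := uq_isSolvable hG hM
  have hrk : PRankLE r 2 ↥(R.subgroupOf M) := by
    intro B _ _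
    calc Nat.card B ≤ Nat.card (R.subgroupOf M) := Subgroup.card_le_card_group B
      _ = Nat.card R := Helper35.card_subgroupOf_of_le hRM
      _ ≤ r ^ 2 := hr
  have hnorm : Y.subgroupOf M ≤ normalizer ((R.subgroupOf M : Subgroup ↥M) : Set ↥M) := by
    intro z hz
    rw [mem_subgroupOf] at hz
    rw [mem_normalizer_iff]
    intro w
    rw [mem_subgroupOf, mem_subgroupOf]
    exact mem_normalizer_iff.mp (hYR hz) w
  have hprimes : ∀ q : ℕ, q.Prime → q ∣ Nat.card (Y.subgroupOf M) → r < q := by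
    intro q hq hd
    rw [Helper35.card_subgroupOf_of_le hYM] at hd
    exact hY q hq hd
  have h := le_centralizer_of_primes_gt (uq_odd hG M) r (R.subgroupOf M) (Y.subgroupOf M)
    hR.comap_subtype hrk hnorm hprimes
  intro y hy a ha
  have h1 : (⟨y, hYM hy⟩ : ↥M) ∈ centralizer ((R.subgroupOf M : Subgroup ↥M) : Set ↥M) :=
    h (mem_subgroupOf.mpr hy)
  have h2 := mem_centralizer_iff.mp h1 ⟨a, hRM ha⟩ (mem_subgroupOf.mpr ha)
  exact congrArg Subtype.val h2

/-- **B&G Corollary 12.10(e)**: a `τ₂(M)`-element `x ≠ 1` of `M` centralizing a non-identity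
element of `M_σ` has `M` as the unique maximal subgroup containing `C_G(x)`. -/
theorem b12c_cent_uniq (hG : IsMinSimpleOddOrder G) (hU : BGUniq G) (hT : B12T5 G)
    {M : Subgroup G} (hM : IsCoatom M) {x : G} (hxM : x ∈ M) (hx1 : x ≠ 1)
    (hx2 : ∀ p : ℕ, p.Prime → p ∣ orderOf x → p ∈ tau2 M) (hxσ : x ∈ sigmaHat M) :
    centralizer ({x} : Set G) ≤ M ∧
      ∀ L : Subgroup G, IsCoatom L → centralizer ({x} : Set G) ≤ L → L = M := by
  suffices huniq : ∀ L : Subgroup G, IsCoatom L → centralizer ({x} : Set G) ≤ L → L = M by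
    refine ⟨?_, huniq⟩
    obtain ⟨L, hL, hle⟩ := uq_exists_coatom_ge (centralizer_singleton_ne_top hG.2 hx1)
    rw [← huniq L hL hle]; exact hle
  obtain ⟨-, y₀, hy₀σ, hy₀1, hy₀x⟩ := hxσ
  have hn1 : orderOf x ≠ 1 := fun h => hx1 (orderOf_eq_one_iff.mp h)
  have hn0 : orderOf x ≠ 0 := (orderOf_pos x).ne'
  obtain ⟨q, hqdef⟩ : ∃ q, q = (orderOf x).minFac := ⟨_, rfl⟩
  have hq : q.Prime := by rw [hqdef]; exact Nat.minFac_prime hn1
  have hqd : q ∣ orderOf x := by rw [hqdef]; exact Nat.minFac_dvd _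
  have hq2 : q ∈ tau2 M := hx2 q hq hqd
  have := Fact.mk hq
  obtain ⟨k, m, hqm, hnkm⟩ := Nat.exists_eq_pow_mul_and_not_dvd hn0 q hq.ne_one
  obtain ⟨u, hu⟩ : ∃ u, u = x ^ m := ⟨_, rfl⟩
  obtain ⟨y, hy⟩ : ∃ y, y = x ^ (q ^ k) := ⟨_, rfl⟩
  have huM : u ∈ M := by rw [hu]; exact M.pow_mem hxM m
  have hyM : y ∈ M := by rw [hy]; exact M.pow_mem hxM _
  have hcop : Nat.Coprime m (q ^ k) :=
    (Nat.Coprime.pow_left k ((Nat.Prime.coprime_iff_not_dvd hq).mpr hqm)).symm
  -- `zpowers u` is a `q`-group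
  have huq : u ^ (q ^ k) = 1 := by
    rw [hu, ← pow_mul, mul_comm, ← hnkm, pow_orderOf_eq_one]
  have hUp : IsPGroup q (zpowers u) := by
    rintro ⟨z, hz⟩
    obtain ⟨i, rfl⟩ := mem_zpowers_iff.mp hz
    refine ⟨k, Subtype.ext ?_⟩
    show (u ^ i) ^ (q ^ k) = 1
    rw [← zpow_natCast, ← zpow_mul, mul_comm, zpow_mul, zpow_natCast, huq, one_zpow]
  have hUM : zpowers u ≤ M := zpowers_le.mpr huM
  -- the primes of `zpowers y` are larger than `q`
  have hym : y ^ m = 1 := by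
    rw [hy, ← pow_mul, ← hnkm, pow_orderOf_eq_one]
  have hYprimes : ∀ r : ℕ, r.Prime → r ∣ Nat.card (zpowers y) → q < r ∧ r ∈ tau2 M := by
    intro r hr hrd
    rw [Nat.card_zpowers] at hrd
    have hrm : r ∣ m := hrd.trans (orderOf_dvd_of_pow_eq_one hym)
    have hrx : r ∣ orderOf x := by rw [hnkm]; exact hrm.mul_left _
    refine ⟨lt_of_le_of_ne ?_ ?_, hx2 r hr hrx⟩
    · rw [hqdef]; exact Nat.minFac_le_of_dvd hr.two_le hrx
    · rintro rfl; exact hqm hrm
  have hYM : zpowers y ≤ M := zpowers_le.mpr hyM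
  -- a Sylow `q`-subgroup `Q ≥ ⟨u⟩` of `M` and `A ≤ Q` elementary abelian of order `q ^ 2`
  obtain ⟨Q, hQ, hUQ⟩ := exists_isSylowOf_ge hUp hUM
  obtain ⟨A₀, hA₀M, hA₀, hA₀card⟩ := b12c_exists_elemAb hq2
  obtain ⟨Q₁, hQ₁, hA₀Q₁⟩ := exists_isSylowOf_ge (bg11_isPGroup_of_elemAb hA₀) hA₀M
  obtain ⟨h, hhM, hQeq⟩ := bg10_sylow_conj hQ₁ hQ
  obtain ⟨A, hAdef⟩ : ∃ A, A = MulAut.conj h • A₀ := ⟨_, rfl⟩
  have hAQ : A ≤ Q := by rw [hAdef, hQeq]; exact conj_smul_le_conj_smul hA₀Q₁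
  have hAM : A ≤ M := hAQ.trans hQ.1
  have hA : IsElementaryAbelian q A := by rw [hAdef]; exact b12c_conj_elemAb hA₀ h
  have hAcard : Nat.card A = q ^ 2 := by rw [hAdef, card_conj_smul, hA₀card]
  obtain ⟨-, -, hnorm, -, -, -⟩ := hT M hM q hq2 A ⟨hAM, hA, hAcard⟩
  have hQcomm := b12c_tau2_comm hT hM hq2 hQ.1 hQ.2.1
  -- `K = C_{M_σ A}(u)`
  obtain ⟨K, hKdef⟩ : ∃ K, K = (sigmaCore M ⊔ A) ⊓ centralizer ((zpowers u : Subgroup G) : Set G) :=
    ⟨_, rfl⟩
  have hσM : sigmaCore M ≤ M := (map_subtype_le _)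
  have hKM : K ≤ M := by rw [hKdef]; exact inf_le_left.trans (sup_le hσM hAM)
  have hAK : A ≤ K := by
    rw [hKdef]
    refine le_inf le_sup_right ?_
    intro a ha
    rw [mem_centralizer_iff]
    intro z hz
    exact hQcomm z (hUQ hz) a (hAQ ha)
  have hyu : zpowers y ≤ centralizer ((zpowers u : Subgroup G) : Set G) := by
    rw [zpowers_le, mem_centralizer_iff]
    intro z hz
    obtain ⟨i, rfl⟩ := mem_zpowers_iff.mp hz
    rw [hu, hy]
    exact (((Commute.refl x).pow_pow m (q ^ k)).zpow_left i).eq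
  have hYK : zpowers y ≤ normalizer (K : Set G) := by
    rw [hKdef]
    exact bg10_le_normalizer_inf_centralizer (hYM.trans hnorm) hyu
  -- orders
  have hall := (bg10_sigma_hall hG hU hM).1
  have hqσ : ¬ q ∣ Nat.card (sigmaCore M) := fun hd => hq2.2.1 (hall.2.1 q hq hd)
  have hσA : sigmaCore M ⊓ A = ⊥ := by
    apply Subgroup.card_eq_one.mp
    have h1 : Nat.card ↥(sigmaCore M ⊓ A) ∣ Nat.card (sigmaCore M) :=
      Subgroup.card_dvd_of_le inf_le_left
    have h2 : Nat.card ↥(sigmaCore M ⊓ A) ∣ q ^ 2 := hAcard ▸ Subgroup.card_dvd_of_le inf_le_right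
    have h3 : Nat.Coprime (Nat.card (sigmaCore M)) (q ^ 2) :=
      (Nat.Coprime.pow_left 2 ((Nat.Prime.coprime_iff_not_dvd hq).mpr hqσ)).symm
    exact Nat.eq_one_of_dvd_coprimes h3 h1 h2
  have hSn : M ≤ normalizer ((sigmaCore M : Subgroup G) : Set G) :=
    le_normalizer_piCoreOf (sigma M) M
  have hcardσA : Nat.card ↥(sigmaCore M ⊔ A) = Nat.card (sigmaCore M) * q ^ 2 := by
    rw [card_sup_of_le_normalizer (hAM.trans hSn) hσA, hAcard]
  have hKcard : Nat.card K ∣ Nat.card (sigmaCore M) * q ^ 2 := by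
    rw [← hcardσA, hKdef]; exact Subgroup.card_dvd_of_le inf_le_left
  have hAsyl : A ∈ sylowSet q K := b12c_mem_sylowSet hAK hAcard hKcard hqσ
  have hcopYK : (Nat.card (zpowers y)).Coprime (Nat.card K) := by
    apply Nat.Coprime.symm
    apply Nat.coprime_of_dvd
    intro r hr hrK hrY
    obtain ⟨hqr, hr2⟩ := hYprimes r hr hrY
    have h1 : r ∣ Nat.card (sigmaCore M) * q ^ 2 := hrK.trans hKcard
    rcases (Nat.Prime.dvd_mul hr).mp h1 with h2 | h2
    · exact hr2.2.1 (hall.2.1 r hr h2)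
    · have := (Nat.prime_dvd_prime_iff_eq hr hq).mp (hr.dvd_of_dvd_pow h2)
      omega
  have hKsolv : Group.IsSolvable ↥K :=
    uq_isSolvable hG (fun e => hM.1 (top_le_iff.mp (e ▸ hKM)))
  obtain ⟨A', hA'syl, hYA'⟩ := exists_invariant_sylow hYK hcopYK (Or.inr hKsolv) q
  obtain ⟨c, hcK, hcA'⟩ := sylowSet_trans hAsyl hA'syl
  have hA'K : A' ≤ K := hA'syl.1
  have hA'M : A' ≤ M := hA'K.trans hKM
  have hA' : IsElementaryAbelian q A' := by rw [← hcA']; exact b12c_conj_elemAb hA c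
  have hA'card : Nat.card A' = q ^ 2 := by rw [← hcA', card_conj_smul, hAcard]
  -- `y` centralizes `A'`
  have hyA' := b12c_primes_gt_centralizes hG hM.1 hA'M hYM (bg11_isPGroup_of_elemAb hA')
    hA'card.le hYA' (fun r hr hrd => (hYprimes r hr hrd).1)
  -- `x` centralizes `A'`
  have hxA' : x ∈ centralizer (A' : Set G) := by
    apply b12c_mem_of_pow_mem hcop
    · rw [← hu, mem_centralizer_iff]
      intro a ha
      have h1 := hA'K ha
      rw [hKdef] at h1
      exact (mem_centralizer_iff.mp h1.2 u (mem_zpowers u)).symm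
    · rw [← hy, mem_centralizer_iff]
      intro a ha
      exact hyA' y (mem_zpowers y) a ha
  intro L hL hle
  by_contra hne
  obtain ⟨-, -, -, -, huq', -⟩ := hT M hM q hq2 A' ⟨hA'M, hA', hA'card⟩
  have hA'L : A' ≤ L := by
    intro a ha
    apply hle
    rw [mem_centralizer_iff]
    intro z hz
    rw [Set.mem_singleton_iff.mp hz]
    exact (mem_centralizer_iff.mp hxA' a ha).symm
  have h0 := huq' L hL hne hA'L
  have hy₀L : y₀ ∈ L := by
    apply hle
    rw [mem_centralizer_iff]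
    intro z hz
    rw [Set.mem_singleton_iff.mp hz]
    exact hy₀x
  have hmem : y₀ ∈ sigmaCore M ⊓ L := ⟨hy₀σ, hy₀L⟩
  rw [h0] at hmem
  exact hy₀1 (mem_bot.mp hmem)

/-- **B&G Corollary 12.10 (a), (b), (d), (e)** in the shape of S1420. -/
theorem b12c_main (hG : IsMinSimpleOddOrder G) (hU : BGUniq G) (hP4 : B12P4 G) (hT : B12T5 G)
    (M : Subgroup G) (hM : IsCoatom M) (E : Subgroup G) (hE : IsComplIn E (sigmaCore M) M) :
    (∀ N : Subgroup G, N ≤ M → Group.IsNilpotent N →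
        (∀ p : ℕ, p.Prime → p ∣ Nat.card N → p ∉ sigma M) → IsMulCommutative N) ∧
      IsMulCommutative ↥⁅E, E⁆ ∧
      (∀ (p : ℕ) (P : Subgroup G), p ∈ sigma M → IsPGroup p P → P ≤ M → ¬ IsCyclic P →
        normalizer (P : Set G) ≤ M) ∧
      ∀ x ∈ M, x ≠ 1 → (∀ p : ℕ, p.Prime → p ∣ orderOf x → p ∈ tau2 M) → x ∈ sigmaHat M →
        centralizer ({x} : Set G) ≤ M ∧
          ∀ L : Subgroup G, IsCoatom L → centralizer ({x} : Set G) ≤ L → L = M :=
  ⟨fun _ hNM hnil hσ => b12c_nil_abelian hG hU hT hM hNM hnil hσ,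
    b12c_der_abelian hG hU hT hM hE,
    fun _ _ hp hP hPM hnc => b12c_norm_noncyclic hG hU hP4 hM hp hP hPM hnc,
    fun _ hxM hx1 hx2 hxσ => b12c_cent_uniq hG hU hT hM hxM hx1 hx2 hxσ⟩

/-! ### Corollary 12.6 (= S1418) -/

/-- **B&G Corollary 12.6** in the shape of S1418. -/
theorem b12c_cor6 (hG : IsMinSimpleOddOrder G) (hP4 : B12P4 G) (hT : B12T5 G)
    (M : Subgroup G) (hM : IsCoatom M) (E : Subgroup G) (hE : IsComplIn E (sigmaCore M) M)
    (p : ℕ) [Fact p.Prime] (hp : p ∈ tau2 M) (A : Subgroup G)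
    (hA : A ≤ E ∧ IsElementaryAbelian p A ∧ Nat.card A = p ^ 2) :
    (E ≤ normalizer (A : Set G) ∧ ∀ X : Subgroup G, X ≤ E → Nat.card X = p → X ≤ A) ∧
      (centralizer (A : Set G) ≤ M ⊓ normalizer (A : Set G) ∧
        M ⊓ normalizer (A : Set G) = E ∧ ¬ normalizer (A : Set G) ≤ M) ∧
      ∀ X : Subgroup G, X ≤ A → Nat.card X = p →
        sigmaCore M ⊓ centralizer (X : Set G) ≠ ⊥ →
          (centralizer (X : Set G) ≤ M ∧
            ∀ L : Subgroup G, IsCoatom L → centralizer (X : Set G) ≤ L → L = M) := by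
  have hpp : p.Prime := Fact.out
  obtain ⟨hAE, hAel, hAcard⟩ := hA
  have hEM : E ≤ M := hE.1
  have hAM : A ≤ M := hAE.trans hEM
  have hAp : IsPGroup p A := bg11_isPGroup_of_elemAb hAel
  have hSn : M ≤ normalizer ((sigmaCore M : Subgroup G) : Set G) :=
    le_normalizer_piCoreOf (sigma M) M
  have hEσ : E ⊓ sigmaCore M = ⊥ := hE.2.2.1
  obtain ⟨-, hP, hnorm, hfix, huq, -⟩ := hT M hM p hp A ⟨hAM, hAel, hAcard⟩
  have hCA := (hP4 M hM p A ⟨hAM, hAel, hAcard⟩).1
  -- `(M_σ A) ∩ E = A`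
  have hDed : ∀ z ∈ sigmaCore M ⊔ A, z ∈ E → z ∈ A := by
    intro z hz hzE
    obtain ⟨s, hs, a, ha, rfl⟩ := exists_mul_of_mem_sup_of_le_normalizer (hAM.trans hSn) hz
    have hsE : s ∈ E := by
      have e : s = s * a * a⁻¹ := by group
      rw [e]; exact E.mul_mem hzE (E.inv_mem (hAE ha))
    have hs1 : s ∈ E ⊓ sigmaCore M := ⟨hsE, hs⟩
    rw [hEσ, mem_bot] at hs1
    rw [hs1, one_mul]; exact ha
  have hEA : E ≤ normalizer (A : Set G) := by
    apply le_normalizer_of_forall_conj_mem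
    intro e he a ha
    apply hDed
    · exact (mem_normalizer_iff.mp (hnorm (hEM he)) a).mp (mem_sup_right ha)
    · exact E.mul_mem (E.mul_mem he (hAE ha)) (E.inv_mem he)
  refine ⟨⟨hEA, ?_⟩, ⟨le_inf hCA (centralizer_le_normalizer _), ?_, ?_⟩, ?_⟩
  · -- subgroups of order `p` of `E` lie in `A`
    intro X hXE hXcard
    have hXp : IsPGroup p X := IsPGroup.of_card (n := 1) (by rw [hXcard, pow_one])
    have hTp : IsPGroup p ↥(X ⊔ A) := IsPGroup.to_sup_of_normal_right' hXp hAp (hXE.trans hEA)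
    have hTM : X ⊔ A ≤ M := sup_le (hXE.trans hEM) hAM
    obtain ⟨P, hTP⟩ := (hTp.comap_subtype (K := M)).exists_le_sylow
    have hle : X ⊔ A ≤ (P : Subgroup M).map M.subtype := by
      intro t ht
      exact ⟨⟨t, hTM ht⟩, hTP (mem_subgroupOf.mpr ht), rfl⟩
    obtain ⟨hiff, -⟩ := (hP P).2 (le_sup_right.trans hle)
    intro x hx
    apply (hiff x (hle (mem_sup_left hx))).mp
    have h1 : (⟨x, hx⟩ : X) ^ Nat.card X = 1 := pow_card_eq_one'
    rw [hXcard] at h1
    exact congrArg Subtype.val h1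
  · -- `M ∩ N_G(A) = E`
    apply le_antisymm
    · rintro m ⟨hmM, hmN⟩
      obtain ⟨e, he, s, hs, rfl⟩ := hE.2.2.2 m hmM
      have hsN : s ∈ normalizer (A : Set G) := by
        have e1 : s = e⁻¹ * (e * s) := by group
        rw [e1]; exact mul_mem (inv_mem (hEA he)) hmN
      have hsC : s ∈ centralizer (A : Set G) := by
        rw [mem_centralizer_iff]
        intro a ha
        have h1 : s * a * s⁻¹ * a⁻¹ ∈ A :=
          A.mul_mem ((mem_normalizer_iff.mp hsN a).mp ha) (A.inv_mem ha)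
        have h2 : s * a * s⁻¹ * a⁻¹ ∈ sigmaCore M := by
          have h3 : a * s⁻¹ * a⁻¹ ∈ sigmaCore M :=
            (mem_normalizer_iff.mp (hSn (hAM ha)) s⁻¹).mp (inv_mem hs)
          have e2 : s * a * s⁻¹ * a⁻¹ = s * (a * s⁻¹ * a⁻¹) := by group
          rw [e2]; exact mul_mem hs h3
        have h4 : s * a * s⁻¹ * a⁻¹ ∈ E ⊓ sigmaCore M := ⟨hAE h1, h2⟩
        rw [hEσ, mem_bot] at h4
        have e3 : a * s = (s * a * s⁻¹ * a⁻¹)⁻¹ * (s * a) := by group
        rw [e3, h4, inv_one, one_mul]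
      have hs1 : s ∈ sigmaCore M ⊓ centralizer (A : Set G) := ⟨hs, hsC⟩
      rw [hfix, mem_bot] at hs1
      rw [hs1, mul_one]; exact he
    · exact le_inf hEM hEA
  · -- `N_G(A)` is not contained in `M`
    obtain ⟨P, hAP⟩ := (hAp.comap_subtype (K := M)).exists_le_sylow
    have hle : A ≤ (P : Subgroup M).map M.subtype := by
      intro t ht
      exact ⟨⟨t, hAM ht⟩, hAP (mem_subgroupOf.mpr ht), rfl⟩
    obtain ⟨hiff, hN⟩ := (hP P).2 hle
    intro hNA
    apply hN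
    refine le_trans ?_ hNA
    intro g hg
    apply bg10_mem_normalizer
    intro a ha
    have h1 : g * a * g⁻¹ ∈ (P : Subgroup M).map M.subtype :=
      (mem_normalizer_iff.mp hg a).mp (hle ha)
    apply (hiff _ h1).mp
    rw [conj_pow, hAel.2 a ha]
    group
  · -- centralizers of subgroups of order `p` with fixed points on `M_σ`
    intro X hXA hXcard hXfix
    have hAX : A ≤ centralizer (X : Set G) := by
      intro a ha
      rw [mem_centralizer_iff]
      intro z hz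
      exact bg11_elemAb_comm hAel z (hXA hz) a ha
    have huniq : ∀ L : Subgroup G, IsCoatom L → centralizer (X : Set G) ≤ L → L = M := by
      intro L hL hle
      by_contra hne
      have h0 := huq L hL hne (hAX.trans hle)
      apply hXfix
      rw [eq_bot_iff, ← h0]
      exact inf_le_inf_left _ hle
    refine ⟨?_, huniq⟩
    have hX1 : X ≠ ⊥ := by
      rintro rfl
      rw [Subgroup.card_bot] at hXcard
      exact hpp.one_lt.ne hXcard
    obtain ⟨b, hb, hb1⟩ := bg11_exists_ne_one hX1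
    have hne : centralizer (X : Set G) ≠ ⊤ := by
      intro e
      apply centralizer_singleton_ne_top hG.2 hb1
      rw [eq_top_iff, ← e]
      exact centralizer_le (Set.singleton_subset_iff.mpr hb)
    obtain ⟨L, hL, hle⟩ := uq_exists_coatom_ge hne
    rw [← huniq L hL hle]; exact hle

end Cfsg.Agent.Helper72
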