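/-
helper72: Bender–Glauberman, Lemma 12.12/12.13-type consequence (= S1424) of Corollary 12.10(d):
for `q ∈ σ(M)`, a nontrivial `q`-subgroup `X` of `M`, a maximal subgroup `M* ≠ M` containing
`N_G(X)` and a Sylow `q`-subgroup `S ≥ X` of `M ∩ M*`: `M*` is not conjugate to `M`,
`N_G(S) ≤ M` and `S` is a Sylow subgroup of `M*`.  Hypotheses `BGUniq G` (S1403) and `B12P4 G`
(the statement of S1416).
-/
import Cfsg.Agent.Helper72.BG12Cor

set_option autoImplicit false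

namespace Cfsg.Agent.Helper72

open Cfsg Subgroup Cfsg.Agent.Helper22 Cfsg.Agent.Helper23 Cfsg.Agent.Helper35
open scoped Pointwise commutatorElement

universe u

variable {G : Type u} [Group G] [Finite G]

/-- The normalizer of a cyclic subgroup normalizes each of its subgroups. -/
theorem b12c_normalizer_cyclic_le {S X : Subgroup G} (hS : IsCyclic S) (hXS : X ≤ S) :
    normalizer (S : Set G) ≤ normalizer (X : Set G) := by
  obtain ⟨⟨s, hs⟩, hgen⟩ := hS.exists_generator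
  intro g hg
  apply bg10_mem_normalizer
  intro x hx
  have h1 : g * s * g⁻¹ ∈ S := (mem_normalizer_iff.mp hg s).mp hs
  obtain ⟨m, hm⟩ := mem_zpowers_iff.mp (hgen ⟨g * s * g⁻¹, h1⟩)
  obtain ⟨i, hi⟩ := mem_zpowers_iff.mp (hgen ⟨x, hXS hx⟩)
  have hm' : s ^ m = g * s * g⁻¹ := by simpa using congrArg Subtype.val hm
  have hi' : s ^ i = x := by simpa using congrArg Subtype.val hi
  have e : g * x * g⁻¹ = x ^ m := by
    rw [← hi', ← conj_zpow, ← hm', ← zpow_mul, ← zpow_mul, mul_comm]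
  rw [e]; exact X.zpow_mem hx m

/-- A Sylow subgroup of `K` has index prime to `p` in `K`. -/
theorem b12c_not_dvd_relIndex {p : ℕ} [Fact p.Prime] {S K : Subgroup G} (hS : IsSylowOf p S K) :
    ¬ p ∣ S.relIndex K := by
  obtain ⟨P, hP⟩ := hS.exists_sylow
  have h1 : S.relIndex K = (P : Subgroup ↥K).index := by rw [hP]; rfl
  rw [h1]; exact P.not_dvd_index

/-- For `q ∈ σ(M)`, every Sylow `q`-subgroup of `M` has its normalizer in `M`. -/
theorem b12c_sigma_normalizer {M : Subgroup G} {q : ℕ} [Fact q.Prime] (hq : q ∈ sigma M)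
    {S : Subgroup G} (hS : IsSylowOf q S M) : normalizer (S : Set G) ≤ M := by
  obtain ⟨-, -, P₀, hN⟩ := hq
  obtain ⟨m, hm, rfl⟩ := bg10_sylow_conj (isSylowOf_map P₀) hS
  exact bg11_normalizer_conj_le hm hN

/-- **S1424**. -/
theorem b12c_sylow_inter (hG : IsMinSimpleOddOrder G) (hU : BGUniq G) (hP4 : B12P4 G)
    (M : Subgroup G) (hM : IsCoatom M) (q : ℕ) [Fact q.Prime] (hq : q ∈ sigma M)
    (X : Subgroup G) (hXq : IsPGroup q X) (hX1 : X ≠ ⊥) (hXM : X ≤ M)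
    (Mstar : Subgroup G) (_hMs : IsCoatom Mstar) (hne : Mstar ≠ M)
    (hNX : normalizer (X : Set G) ≤ Mstar)
    (S : Sylow q ↥(M ⊓ Mstar)) (hXS : X ≤ (S : Subgroup ↥(M ⊓ Mstar)).map (M ⊓ Mstar).subtype) :
    (∀ g : G, Mstar ≠ M.map (MulAut.conj g).toMonoidHom) ∧
      normalizer (((S : Subgroup ↥(M ⊓ Mstar)).map (M ⊓ Mstar).subtype : Subgroup G) : Set G) ≤ M ∧
      ¬ q ∣ ((S : Subgroup ↥(M ⊓ Mstar)).map (M ⊓ Mstar).subtype).relIndex Mstar := by
  obtain ⟨S', hS'def⟩ : ∃ S' : Subgroup G,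
      S' = (S : Subgroup ↥(M ⊓ Mstar)).map (M ⊓ Mstar).subtype := ⟨_, rfl⟩
  rw [← hS'def] at hXS ⊢
  have hS : IsSylowOf q S' (M ⊓ Mstar) := by rw [hS'def]; exact isSylowOf_map S
  have hS'M : S' ≤ M := hS.1.trans inf_le_left
  have hS'Ms : S' ≤ Mstar := hS.1.trans inf_le_right
  -- (ii)
  have hNS : normalizer (S' : Set G) ≤ M := by
    by_cases hc : IsCyclic S'
    · have h1 : normalizer (S' : Set G) ≤ Mstar := (b12c_normalizer_cyclic_le hc hXS).trans hNX
      have h2 : IsSylowOf q S' M :=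
        hS.of_normalizer_inf_le hS'M (le_inf inf_le_right (inf_le_left.trans h1))
      exact b12c_sigma_normalizer hq h2
    · exact b12c_norm_noncyclic hG hU hP4 hM hq hS.2.1 hS'M hc
  refine ⟨?_, hNS, ?_⟩
  · -- (i)
    intro g hg
    apply hne
    have hfus := (bg10_sigma_fusion hG hU hM hq hXq hX1 hXM).1
    have hXMs : X ≤ Mstar := le_normalizer.trans hNX
    have h1 : X.map (MulAut.conj g⁻¹).toMonoidHom ≤ M := by
      rintro _ ⟨x, hx, rfl⟩
      have h2 := hXMs hx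
      rw [hg] at h2
      obtain ⟨m, hm, hmx⟩ := h2
      have h3 : g * m * g⁻¹ = x := hmx
      show g⁻¹ * x * g⁻¹⁻¹ ∈ M
      rw [← h3]
      have e : g⁻¹ * (g * m * g⁻¹) * g⁻¹⁻¹ = m := by group
      rw [e]; exact hm
    obtain ⟨m, hm, c, hc, hgmc⟩ := hfus g⁻¹ h1
    have hcMs : c ∈ Mstar := hNX (centralizer_le_normalizer _ hc)
    have hg' : g = c⁻¹ * m⁻¹ := by
      have : g = (g⁻¹)⁻¹ := by group
      rw [this, hgmc]; group
    -- `c ∈ M`
    rw [hg] at hcMs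
    obtain ⟨m', hm', hm'c⟩ := hcMs
    have h4 : g * m' * g⁻¹ = c := hm'c
    have hcM : c ∈ M := by
      have h5 : c⁻¹ * m⁻¹ * m' * (c⁻¹ * m⁻¹)⁻¹ = c := by rw [← hg']; exact h4
      have e : m⁻¹ * m' * m = c * (c⁻¹ * m⁻¹ * m' * (c⁻¹ * m⁻¹)⁻¹) * c⁻¹ := by group
      rw [h5] at e
      have e2 : c * c * c⁻¹ = c := by group
      rw [e2] at e
      rw [← e]; exact M.mul_mem (M.mul_mem (M.inv_mem hm) hm') hm
    have hgM : g ∈ M := by rw [hg']; exact M.mul_mem (M.inv_mem hcM) (M.inv_mem hm)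
    rw [hg]
    ext z
    constructor
    · rintro ⟨m₀, hm₀, rfl⟩
      show g * m₀ * g⁻¹ ∈ M
      exact M.mul_mem (M.mul_mem hgM hm₀) (M.inv_mem hgM)
    · intro hz
      refine ⟨g⁻¹ * z * g, M.mul_mem (M.mul_mem (M.inv_mem hgM) hz) hgM, ?_⟩
      show g * (g⁻¹ * z * g) * g⁻¹ = z
      group
  · -- (iii)
    have h2 : IsSylowOf q S' Mstar :=
      hS.of_normalizer_inf_le hS'Ms (le_inf (inf_le_left.trans hNS) inf_le_right)
    exact b12c_not_dvd_relIndex h2

end Cfsg.Agent.Helper72
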