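import Cfsg.Agent.S1403
import Cfsg.Agent.S1404
import Cfsg.Agent.Helper22.BG12b
import Cfsg.Agent.Helper24.BG11b
import Cfsg.Agent.Helper49.OddCyclic
import Cfsg.Agent.Helper72.CaminaHerzog

/-!
# B&G section 13: the `τ₁` Frattini trick (LEMMA K of the S1428 proof)

If `p ∈ τ₁(M)`, a nontrivial `q`-subgroup `Y` of `M_σ` centralizes a Sylow `p`-subgroup `S₀` of `G`
and `C_G(Y) ≤ M`, we get a contradiction (Burnside's transfer theorem).
-/

set_option autoImplicit false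

open Cfsg Subgroup

namespace Cfsg.Agent.Helper72

universe u
variable {G : Type u} [Group G] [Finite G]

/-- A `p`-subgroup of a group whose order is prime to `p` is trivial (subgroup form). -/
theorem bg13k_eq_bot_of_not_dvd {p : ℕ} [Fact p.Prime] {X K : Subgroup G} (hX : IsPGroup p X)
    (hXK : X ≤ K) (hK : ¬ p ∣ Nat.card K) : X = ⊥ := by
  by_contra hne
  have h1 : p ∣ Nat.card X := by
    obtain ⟨n, hn⟩ := IsPGroup.iff_card.mp hX
    have hn0 : n ≠ 0 := by
      rintro rfl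
      rw [pow_zero] at hn
      exact hne (Subgroup.card_eq_one.mp hn)
    rw [hn]
    exact dvd_pow_self p hn0
  exact hK (h1.trans (Subgroup.card_dvd_of_le hXK))

/-- Frattini-type step: if `D` is a maximal `q`-subgroup of `C` (every `q`-subgroup of `C`
containing `D` is `D`) and `x` normalizes `C`, then `x = c⁻¹ * n` with `c ∈ C` and `n` normalizing
`D`. -/
theorem bg13k_frattini {q : ℕ} [Fact q.Prime] {C D : Subgroup G} (hDC : D ≤ C)
    (hDq : IsPGroup q D)
    (hmax : ∀ Q : Subgroup G, Q ≤ C → IsPGroup q Q → D ≤ Q → Q = D)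
    {x : G} (hx : x ∈ normalizer (C : Set G)) :
    ∃ c ∈ C, c * x ∈ normalizer (D : Set G) := by
  classical
  -- `D` as a Sylow `q`-subgroup of `↥C`
  let D' : Subgroup ↥C := D.subgroupOf C
  have hD'q : IsPGroup q D' := hDq.comap_subtype
  obtain ⟨P, hP⟩ := hD'q.exists_le_sylow
  have hPD : ∀ c : ↥C, c ∈ (P : Subgroup ↥C) → (c : G) ∈ D := by
    have h1 : (P : Subgroup ↥C).map C.subtype = D := by
      apply hmax
      · exact Subgroup.map_subtype_le _
      · exact P.isPGroup'.map _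
      · intro d hd
        exact ⟨⟨d, hDC hd⟩, hP (Subgroup.mem_subgroupOf.mpr hd), rfl⟩
    intro c hc
    have : (c : G) ∈ (P : Subgroup ↥C).map C.subtype := ⟨c, hc, rfl⟩
    rwa [h1] at this
  have hxC : ∀ c : G, c ∈ C → x * c * x⁻¹ ∈ C := fun c hc =>
    (Subgroup.mem_normalizer_iff.mp hx c).mp hc
  -- the conjugate `x D x⁻¹` as a subgroup of `C`
  let Dx : Subgroup G := D.map (MulAut.conj x).toMonoidHom
  have hDxq : IsPGroup q Dx := hDq.map _
  let Dx' : Subgroup ↥C := Dx.subgroupOf C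
  have hDx'q : IsPGroup q Dx' := hDxq.comap_subtype
  obtain ⟨P2, hP2⟩ := hDx'q.exists_le_sylow
  -- `P2` is conjugate to `P` in `C`
  obtain ⟨c, hc⟩ := MulAction.exists_smul_eq ↥C P2 P
  refine ⟨(c : G), c.2, ?_⟩
  apply mem_normalizer_of_conj_mem
  intro d hd
  have h1 : (⟨x * d * x⁻¹, hxC d (hDC hd)⟩ : ↥C) ∈ (P2 : Subgroup ↥C) := by
    apply hP2
    exact Subgroup.mem_subgroupOf.mpr ⟨d, hd, rfl⟩
  have h2 : c * (⟨x * d * x⁻¹, hxC d (hDC hd)⟩ : ↥C) * c⁻¹ ∈ (P : Subgroup ↥C) := by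
    rw [← hc, Sylow.coe_subgroup_smul]
    have := Subgroup.smul_mem_pointwise_smul _ (MulAut.conj c) _ h1
    simpa [MulAut.smul_def] using this
  have h3 := hPD _ h2
  simp only [Subgroup.coe_mul, Subgroup.coe_inv] at h3
  have e : (c : G) * x * d * ((c : G) * x)⁻¹ = (c : G) * (x * d * x⁻¹) * (c : G)⁻¹ := by group
  rw [e]
  exact h3

/-- **LEMMA K** (the `τ₁` Frattini trick). Let `p ∈ τ₁(M)`, `S₀` a Sylow `p`-subgroup of `G`,
`Y ≠ 1` a `q`-subgroup of `M_σ` centralizing `S₀`, with `C_G(Y) ≤ M`. Contradiction. -/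
theorem bg13_lemmaK (hG : IsMinSimpleOddOrder G) {M : Subgroup G} (hM : IsCoatom M)
    {p : ℕ} [Fact p.Prime] (hp : p ∈ tau1 M) (S₀ : Sylow p G)
    {q : ℕ} [Fact q.Prime] {Y : Subgroup G} (hY1 : Y ≠ ⊥) (hYq : IsPGroup q Y)
    (hYσ : Y ≤ sigmaCore M) (hYS : ∀ y ∈ Y, ∀ s ∈ (S₀ : Subgroup G), y * s = s * y)
    (hC : centralizer (Y : Set G) ≤ M) : False := by
  classical
  have hpp : p.Prime := Fact.out
  have hqp : q.Prime := Fact.out
  have hU : Helper22.BGUniq G := fun K hK h1 h2 => Cfsg.Agent.S1403.result hG K hK h1 h2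
  obtain ⟨hσhall, -, -⟩ := Helper22.bg10_sigma_hall hG hU hM
  -- `q ∈ σ(M)`
  have hqσ : q ∈ sigma M := by
    apply hσhall.2.1 q hqp
    have h1 : q ∣ Nat.card Y := by
      obtain ⟨n, hn⟩ := IsPGroup.iff_card.mp hYq
      have hn0 : n ≠ 0 := by
        rintro rfl
        rw [pow_zero] at hn
        exact hY1 (Subgroup.card_eq_one.mp hn)
      rw [hn]
      exact dvd_pow_self q hn0
    exact h1.trans (Subgroup.card_dvd_of_le hYσ)
  -- `S₀ ≤ M`
  have hS₀M : (S₀ : Subgroup G) ≤ M := fun s hs =>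
    hC (Subgroup.mem_centralizer_iff.mpr fun y hy => hYS y hy s hs)
  -- `p` is odd
  have hpG : p ∣ Nat.card G := hp.2.2.1.trans (Subgroup.card_subgroup_dvd_card M)
  have hodd : p ≠ 2 := by
    rintro rfl
    exact (Nat.not_even_iff_odd.mpr hG.1) (even_iff_two_dvd.mpr hpG)
  -- `S₀` is commutative
  have hScomm : ∀ s ∈ (S₀ : Subgroup G), ∀ t ∈ (S₀ : Subgroup G), s * t = t * s := by
    let S' : Subgroup ↥M := (S₀ : Subgroup G).subgroupOf M
    have hS'p : IsPGroup p ↥S' := S₀.isPGroup'.comap_subtype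
    have hcyc : IsCyclic ↥S' :=
      Helper49.isCyclic_of_pRankLE_one hodd hS'p (Helper49.pRankLE_subgroup hp.2.2.2.2 S')
    intro s hs t ht
    have h1 : (⟨⟨s, hS₀M hs⟩, Subgroup.mem_subgroupOf.mpr hs⟩ : ↥S') *
        ⟨⟨t, hS₀M ht⟩, Subgroup.mem_subgroupOf.mpr ht⟩ =
        ⟨⟨t, hS₀M ht⟩, Subgroup.mem_subgroupOf.mpr ht⟩ * ⟨⟨s, hS₀M hs⟩, Subgroup.mem_subgroupOf.mpr hs⟩ :=
      Std.Commutative.comm _ _
    have h2 := congrArg (fun z : ↥S' => ((z : ↥M) : G)) h1
    simpa using h2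
  -- `N_M(S₀) ≤ C_G(S₀)`
  have hNC : ∀ n ∈ M, n ∈ normalizer ((S₀ : Subgroup G) : Set G) →
      ∀ s ∈ (S₀ : Subgroup G), n * s = s * n := by
    intro n hnM hnN s hs
    have hc1 : n * s * n⁻¹ * s⁻¹ ∈ (S₀ : Subgroup G) :=
      mul_mem ((Subgroup.mem_normalizer_iff.mp hnN s).mp hs) (inv_mem hs)
    have hc2 : n * s * n⁻¹ * s⁻¹ ∈ ⁅M, M⁆ :=
      Subgroup.commutator_mem_commutator hnM (hS₀M hs)
    have hX : (S₀ : Subgroup G) ⊓ ⁅M, M⁆ = ⊥ :=
      bg13k_eq_bot_of_not_dvd (S₀.isPGroup'.to_le inf_le_left) inf_le_right hp.2.2.2.1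
    have hc3 : n * s * n⁻¹ * s⁻¹ ∈ (S₀ : Subgroup G) ⊓ ⁅M, M⁆ := ⟨hc1, hc2⟩
    rw [hX, Subgroup.mem_bot] at hc3
    have : n * s = s * n := by
      have h4 : n * s * n⁻¹ = s := by
        have := congrArg (· * s) hc3
        simpa using this
      calc n * s = n * s * n⁻¹ * n := by group
        _ = s * n := by rw [h4]
    exact this
  -- the centralizer `C` of `S₀` and `D = M_σ ∩ C`
  set C : Subgroup G := centralizer ((S₀ : Subgroup G) : Set G) with hCdef
  have hYC : Y ≤ C := fun y hy =>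
    Subgroup.mem_centralizer_iff.mpr fun s hs => (hYS y hy s hs).symm
  set D : Subgroup G := sigmaCore M ⊓ C with hDdef
  have hYD : Y ≤ D := le_inf hYσ hYC
  have hσM : sigmaCore M ≤ M := hσhall.1
  -- a maximal `q`-subgroup `Dq` of `D` containing `Y`
  have hY'q : IsPGroup q ↥(Y.subgroupOf D) := hYq.comap_subtype
  obtain ⟨P, hP⟩ := hY'q.exists_le_sylow
  set Dq : Subgroup G := (P : Subgroup ↥D).map D.subtype with hDqdef
  have hDqD : Dq ≤ D := Subgroup.map_subtype_le _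
  have hDqq : IsPGroup q Dq := P.isPGroup'.map _
  have hYDq : Y ≤ Dq := fun y hy =>
    ⟨⟨y, hYD hy⟩, hP (Subgroup.mem_subgroupOf.mpr hy), rfl⟩
  have hDq1 : Dq ≠ ⊥ := fun h => hY1 (le_bot_iff.mp (h ▸ hYDq))
  have hDqM : Dq ≤ M := hDqD.trans (inf_le_left.trans hσM)
  have hmaxD : ∀ Q : Subgroup G, Q ≤ D → IsPGroup q Q → Dq ≤ Q → Q = Dq := by
    intro Q hQD hQq hle
    have h1 : Q.subgroupOf D = (P : Subgroup ↥D) := by
      apply P.3 hQq.comap_subtype
      intro d hd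
      exact Subgroup.mem_subgroupOf.mpr (hle ⟨d, hd, rfl⟩)
    apply le_antisymm _ hle
    intro x hx
    have : (⟨x, hQD hx⟩ : ↥D) ∈ Q.subgroupOf D := Subgroup.mem_subgroupOf.mpr hx
    rw [h1] at this
    exact ⟨_, this, rfl⟩
  -- `N_G(Dq) ≤ M`
  have hNDq : normalizer (Dq : Set G) ≤ M := by
    have h1 := (Cfsg.Agent.S1404.result hG M hM q hqσ Dq hDqq hDq1 hDqM).2
    rw [h1]
    refine sup_le inf_le_left ?_
    exact (Subgroup.centralizer_le (fun y hy => hYDq hy)).trans hC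
  -- `Dq` is a maximal `q`-subgroup of `C`
  have hmaxC : ∀ Q : Subgroup G, Q ≤ C → IsPGroup q Q → Dq ≤ Q → Q = Dq := by
    intro Q hQC hQq hle
    by_contra hne
    obtain ⟨x, hxQ, hxD, hxn⟩ :=
      Helper24.bg11b_exists_normalizing hQq hle (fun h => hne h.symm)
    have hxN : x ∈ normalizer (Dq : Set G) := mem_normalizer_of_conj_mem Dq x hxn
    have hle2 : Q ⊓ normalizer (Dq : Set G) ≤ D := by
      refine le_inf ?_ (inf_le_left.trans hQC)
      exact Helper22.bg12_le_sigmaCore hG hU hM hqp hqσ (inf_le_right.trans hNDq)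
        (hQq.to_le inf_le_left)
    have h3 := hmaxD _ hle2 (hQq.to_le inf_le_left) (le_inf hle Subgroup.le_normalizer)
    have : x ∈ Q ⊓ normalizer (Dq : Set G) := ⟨hxQ, hxN⟩
    rw [h3] at this
    exact hxD this
  -- `N_G(S₀) ≤ C_G(S₀)`
  have hNle : normalizer ((S₀ : Subgroup G) : Set G) ≤ C := by
    intro x hx
    have hxC : x ∈ normalizer (C : Set G) := by
      apply mem_normalizer_of_conj_mem
      intro c hc
      rw [hCdef, Subgroup.mem_centralizer_iff]
      intro s hs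
      have hs' : x⁻¹ * s * x ∈ (S₀ : Subgroup G) := by
        have := (Subgroup.mem_normalizer_iff.mp (inv_mem hx) s).mp hs
        simpa using this
      have hcs : (x⁻¹ * s * x) * c = c * (x⁻¹ * s * x) :=
        Subgroup.mem_centralizer_iff.mp hc _ hs'
      calc s * (x * c * x⁻¹) = x * ((x⁻¹ * s * x) * c) * x⁻¹ := by group
        _ = x * (c * (x⁻¹ * s * x)) * x⁻¹ := by rw [hcs]
        _ = x * c * x⁻¹ * s := by group
    obtain ⟨c, hc, hcx⟩ := bg13k_frattini (hDqD.trans inf_le_right) hDqq hmaxC hxC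
    have hcN : c ∈ normalizer ((S₀ : Subgroup G) : Set G) := by
      apply mem_normalizer_of_conj_mem
      intro s hs
      have : s * c = c * s := Subgroup.mem_centralizer_iff.mp hc s hs
      have e : c * s * c⁻¹ = s := by
        rw [← this]; group
      rw [e]; exact hs
    have hcxC : c * x ∈ C := by
      rw [hCdef, Subgroup.mem_centralizer_iff]
      intro s hs
      exact (hNC (c * x) (hNDq hcx) (mul_mem hcN hx) s hs).symm
    have : x = c⁻¹ * (c * x) := by group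
    rw [this]
    exact mul_mem (inv_mem hc) hcxC
  -- Burnside
  have hB := MonoidHom.ker_transferSylow_isComplement' S₀ hNle
  have : IsSimpleGroup G := hG.2.1
  rcases Subgroup.Normal.eq_bot_or_eq_top
    (MonoidHom.normal_ker (MonoidHom.transferSylow S₀ hNle)) with h | h
  · rw [h, Subgroup.isComplement'_bot_left] at hB
    apply hG.2.2.1
    refine ⟨⟨fun a b => ?_⟩⟩
    exact hScomm a (hB ▸ Subgroup.mem_top a) b (hB ▸ Subgroup.mem_top b)
  · rw [h, Subgroup.isComplement'_top_left] at hB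
    exact S₀.ne_bot_of_dvd_card hpG hB

end Cfsg.Agent.Helper72
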