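import Cfsg.Agent.S1403
import Cfsg.Agent.S1414
import Cfsg.Agent.Helper22.BG12b
import Cfsg.Agent.Helper24.BG1217
import Cfsg.Agent.Helper25.CN
import Cfsg.Agent.Helper49.BG1216

/-!
# B&G section 13: block (E) of the S1428 proof

If `p ∈ σ(H) \ β(H)`, `T ≤ H'` is a `β(H)'`-group of order prime to `p` and `P ≤ C_H(T)` is a
`p`-group, then `T` centralizes a Sylow `p`-subgroup `S₀` of `G` with `P ≤ S₀ ≤ H'`.
-/

set_option autoImplicit false

open Cfsg Subgroup
open scoped Pointwise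

namespace Cfsg.Agent.Helper72

universe u
variable {G : Type u} [Group G] [Finite G]

omit [Finite G] in
/-- The join of two elementwise commuting subgroups has order dividing the product of the
orders. -/
theorem bg13e_card_sup_dvd {T P : Subgroup G} (hTP : ∀ t ∈ T, ∀ x ∈ P, t * x = x * t) :
    Nat.card ↥(T ⊔ P) ∣ Nat.card T * Nat.card P := by
  have hcomm : ∀ (m : ↥T) (n : ↥P), Commute (T.subtype m) (P.subtype n) := fun m n =>
    hTP m m.2 n n.2
  have h1 := MonoidHom.noncommCoprod_range T.subtype P.subtype hcomm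
  rw [Subgroup.range_subtype, Subgroup.range_subtype] at h1
  have h2 := Subgroup.card_range_dvd (MonoidHom.noncommCoprod T.subtype P.subtype hcomm)
  rw [h1, Nat.card_prod] at h2
  exact h2

/-- **Block (E)**. -/
theorem bg13_blockE (hG : IsMinSimpleOddOrder G) {H : Subgroup G} (hH : IsCoatom H) {p : ℕ}
    [Fact p.Prime] (hpσ : p ∈ sigma H) (hpβ : p ∉ beta H) {T P : Subgroup G} (hTH : T ≤ ⁅H, H⁆)
    (hTβ : ∀ q : ℕ, q.Prime → q ∣ Nat.card T → q ∉ beta H) (hTp : ¬ p ∣ Nat.card T)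
    (hPH : P ≤ H) (hP : IsPGroup p P) (hTP : ∀ t ∈ T, ∀ x ∈ P, t * x = x * t) :
    ∃ S₀ : Sylow p G, P ≤ (S₀ : Subgroup G) ∧ (S₀ : Subgroup G) ≤ ⁅H, H⁆ ∧
      ∀ t ∈ T, ∀ s ∈ (S₀ : Subgroup G), t * s = s * t := by
  classical
  have hpp : p.Prime := Fact.out
  have hU : Helper22.BGUniq G := fun K hK h1 h2 => Cfsg.Agent.S1403.result hG K hK h1 h2
  obtain ⟨hσhall, hσG, -⟩ := Helper22.bg10_sigma_hall hG hU hH
  have hPσ : P ≤ sigmaCore H := Helper22.bg12_le_sigmaCore hG hU hH hpp hpσ hPH hP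
  have hσL : sigmaCore H ≤ ⁅H, H⁆ := Helper24.bg1217_sigmaCore_le_comm hG hU hH
  set L : Subgroup G := ⁅H, H⁆ with hLdef
  have hLH : L ≤ H := Subgroup.commutator_le_self H
  have hLtop : L ≠ ⊤ := fun h => hH.1 (top_le_iff.mp (h ▸ hLH))
  have : Group.IsSolvable ↥L := hG.2.2.2 L hLtop
  obtain ⟨N0, hN0hall, hN0nil⟩ := (Cfsg.Agent.S1414.result hG H hH).2.2.1
  -- the subgroup `Y = T P`
  set Y : Subgroup G := T ⊔ P with hYdef
  have hYL : Y ≤ L := sup_le hTH (hPσ.trans hσL)
  have hYprime : ∀ q : ℕ, q.Prime → q ∣ Nat.card Y → q ∉ beta H := by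
    intro q hq hqY
    have h1 := hqY.trans (bg13e_card_sup_dvd hTP)
    rcases (Nat.Prime.dvd_mul hq).mp h1 with h | h
    · exact hTβ q hq h
    · obtain ⟨n, hn⟩ := IsPGroup.iff_card.mp hP
      rw [hn] at h
      have := (Nat.prime_dvd_prime_iff_eq hq hpp).mp (hq.dvd_of_dvd_pow h)
      rw [this]; exact hpβ
  -- Hall containment in `L`
  let N0' : Subgroup ↥L := N0.subgroupOf L
  let Y' : Subgroup ↥L := Y.subgroupOf L
  have hcardY' : Nat.card Y' = Nat.card Y :=
    Nat.card_congr (Subgroup.subgroupOfEquivOfLe hYL).toEquiv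
  have hcop : (Nat.card Y').Coprime N0'.index := by
    by_contra h
    obtain ⟨q, hq, h1, h2⟩ := Nat.Prime.not_coprime_iff_dvd.mp h
    rw [hcardY'] at h1
    exact hN0hall.2.2 q hq ⟨hq, hYprime q hq h1⟩ h2
  obtain ⟨l, hl⟩ := Helper49.bg1216_hall_conj N0' Y' hcop
  -- the conjugate `N1` of `N0`
  set N1 : Subgroup G := N0.map (MulAut.conj (l : G)).toMonoidHom with hN1def
  have hN1L : N1 ≤ L := by
    rintro _ ⟨n, hn, rfl⟩
    exact mul_mem (mul_mem l.2 (hN0hall.1 hn)) (inv_mem l.2)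
  have hN1nil : Group.IsNilpotent ↥N1 := by
    have := hN0nil
    exact Group.nilpotent_of_mulEquiv
      (N0.equivMapOfInjective (MulAut.conj (l : G)).toMonoidHom (MulAut.conj (l : G)).injective)
  have hcardN1 : Nat.card N1 = Nat.card N0 :=
    (Nat.card_congr (N0.equivMapOfInjective (MulAut.conj (l : G)).toMonoidHom
      (MulAut.conj (l : G)).injective).toEquiv).symm
  have hYN1 : Y ≤ N1 := by
    intro y hy
    have h1 : (⟨y, hYL hy⟩ : ↥L) ∈ MulAut.conj l • N0' := hl (Subgroup.mem_subgroupOf.mpr hy)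
    obtain ⟨n, hn, hny⟩ := h1
    refine ⟨(n : G), Subgroup.mem_subgroupOf.mp hn, ?_⟩
    have := congrArg (Subtype.val) hny
    simpa [MulAut.smul_def] using this
  -- the Sylow `p`-subgroup of `N1` containing `P`
  have hPN1 : P ≤ N1 := le_sup_right.trans hYN1
  have hP'p : IsPGroup p ↥(P.subgroupOf N1) := hP.comap_subtype
  obtain ⟨S', hS'⟩ := hP'p.exists_le_sylow
  set S1 : Subgroup G := (S' : Subgroup ↥N1).map N1.subtype with hS1def
  have hS1N1 : S1 ≤ N1 := Subgroup.map_subtype_le _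
  have hS1p : IsPGroup p S1 := S'.isPGroup'.map _
  have hPS1 : P ≤ S1 := fun x hx =>
    ⟨⟨x, hPN1 hx⟩, hS' (Subgroup.mem_subgroupOf.mpr hx), rfl⟩
  -- `p ∤ |G : S1|`
  have hnd : ¬ p ∣ S1.index := by
    have e1 : S1.relIndex N1 * N1.index = S1.index := Subgroup.relIndex_mul_index hS1N1
    have e2 : N1.relIndex L * L.index = N1.index := Subgroup.relIndex_mul_index hN1L
    have h1 : ¬ p ∣ S1.relIndex N1 := by
      have : S1.subgroupOf N1 = (S' : Subgroup ↥N1) :=
        Subgroup.comap_map_eq_self_of_injective (Subgroup.subtype_injective _) _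
      rw [Subgroup.relIndex, this]
      exact S'.not_dvd_index
    have h2 : ¬ p ∣ N1.relIndex L := by
      have e3 : Nat.card (N1.subgroupOf L) * N1.relIndex L = Nat.card L :=
        Subgroup.card_mul_index (N1.subgroupOf L)
      have e4 : Nat.card (N0.subgroupOf L) * N0.relIndex L = Nat.card L :=
        Subgroup.card_mul_index (N0.subgroupOf L)
      have e5 : Nat.card (N1.subgroupOf L) = Nat.card N1 :=
        Nat.card_congr (Subgroup.subgroupOfEquivOfLe hN1L).toEquiv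
      have e6 : Nat.card (N0.subgroupOf L) = Nat.card N0 :=
        Nat.card_congr (Subgroup.subgroupOfEquivOfLe hN0hall.1).toEquiv
      have e7 : N1.relIndex L = N0.relIndex L := by
        rw [e5, hcardN1] at e3
        rw [e6, ← e3] at e4
        exact (Nat.eq_of_mul_eq_mul_left Nat.card_pos e4).symm
      rw [e7]
      exact hN0hall.2.2 p hpp ⟨hpp, hpβ⟩
    have h3 : ¬ p ∣ L.index := fun h =>
      hσG.2 p hpp hpσ (h.trans (Subgroup.index_dvd_of_le hσL))
    rw [← e1, ← e2]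
    intro h
    rcases (Nat.Prime.dvd_mul hpp).mp h with h | h
    · exact h1 h
    · rcases (Nat.Prime.dvd_mul hpp).mp h with h | h
      · exact h2 h
      · exact h3 h
  refine ⟨hS1p.toSylow hnd, ?_, ?_, ?_⟩
  · rw [IsPGroup.toSylow_coe]; exact hPS1
  · rw [IsPGroup.toSylow_coe]; exact hS1N1.trans hN1L
  · intro t ht s hs
    rw [IsPGroup.toSylow_coe] at hs
    have htN1 : t ∈ N1 := hYN1 (Subgroup.mem_sup_left ht)
    have hsN1 : s ∈ N1 := hS1N1 hs
    have ho1 : orderOf t ∣ Nat.card T := by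
      have := orderOf_dvd_natCard (⟨t, ht⟩ : ↥T)
      rwa [Subgroup.orderOf_mk] at this
    obtain ⟨k, hk⟩ := hS1p ⟨s, hs⟩
    have ho2 : orderOf s ∣ p ^ k := by
      apply orderOf_dvd_of_pow_eq_one
      have := congrArg (Subtype.val) hk
      simpa using this
    have hc : (Nat.card T).Coprime (p ^ k) :=
      Nat.Coprime.pow_right k ((Nat.Prime.coprime_iff_not_dvd hpp).mpr hTp).symm
    exact (Helper25.commute_of_coprime_of_mem_nilpotent N1 hN1nil htN1 hsN1
      (Nat.Coprime.coprime_dvd_left ho1 (Nat.Coprime.coprime_dvd_right ho2 hc))).eq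

end Cfsg.Agent.Helper72
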