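import Cfsg.Agent.Helper2.BG13Defs
import Cfsg.Agent.Helper68.BG134Defs
import Cfsg.Agent.Helper41.BG13P1
import Cfsg.Agent.Helper24.BG13A1
import Cfsg.Agent.Helper72.BG13K
import Cfsg.Agent.Helper72.BG13E

/-!
# B&G section 13, CALL S1428 (helper2's skeleton): pieces NB2 and NB4 and shared facts of BLOCK NB
-/

set_option autoImplicit false

open Cfsg Subgroup Cfsg.Agent.Helper2 Cfsg.Agent.Helper23
open scoped Pointwise commutatorElement

namespace Cfsg.Agent.Helper72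

universe u
variable {G : Type u} [Group G] [Finite G]

/-- In the situation `NBCtx`, `H` is not conjugate to `M`. -/
theorem bg13nb_not_conj {M P H : Subgroup G} {p : ℕ} (n : NBCtx M P H p) :
    ∀ g : G, H ≠ M.map (MulAut.conj g).toMonoidHom := by
  intro g hg
  have h1 := Helper41.bg13_sigma_conj n.hpσ g⁻¹
  have h2 : MulAut.conj g⁻¹ • H = M := by
    rw [hg]
    ext x
    simp only [Subgroup.mem_pointwise_smul_iff_inv_smul_mem, Subgroup.mem_map,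
      MulEquiv.coe_toMonoidHom, MulAut.smul_def, MulAut.conj_apply, inv_inv, map_inv]
    constructor
    · rintro ⟨y, hy, hyx⟩
      have : y = x := by
        have := congrArg (fun z => g⁻¹ * z * g) hyx
        simpa [mul_assoc] using this
      rw [← this]; exact hy
    · intro hx
      exact ⟨x, hx, by simp [mul_assoc]⟩
  rw [h2] at h1
  exact n.hp.2.1 h1

omit [Finite G] in
/-- `M ∩ H` normalizes `M_σ ∩ H`. -/
theorem bg13nb_norm_K (M H : Subgroup G) :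
    M ⊓ H ≤ normalizer ((sigmaCore M ⊓ H : Subgroup G) : Set G) := by
  intro x hx
  have h1 : x ∈ normalizer ((sigmaCore M : Subgroup G) : Set G) :=
    le_normalizer_piCoreOf (sigma M) M hx.1
  rw [Subgroup.mem_normalizer_iff] at h1 ⊢
  intro y
  constructor
  · rintro ⟨hy1, hy2⟩
    exact ⟨(h1 y).mp hy1, H.mul_mem (H.mul_mem hx.2 hy2) (H.inv_mem hx.2)⟩
  · rintro ⟨hy1, hy2⟩
    refine ⟨(h1 y).mpr hy1, ?_⟩
    have := H.mul_mem (H.mul_mem (H.inv_mem hx.2) hy2) hx.2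
    simpa [mul_assoc] using this

omit [Finite G] in
/-- `T = [M_σ ∩ H, M ∩ H] ≤ M_σ ∩ H`. -/
theorem bg13nb_T_le (M H : Subgroup G) :
    (⁅sigmaCore M ⊓ H, M ⊓ H⁆ : Subgroup G) ≤ sigmaCore M ⊓ H := by
  rw [Subgroup.commutator_le]
  intro k hk m hm
  have h1 := (Subgroup.mem_normalizer_iff.mp (bg13nb_norm_K M H hm) k⁻¹).mp (inv_mem hk)
  have e : ⁅k, m⁆ = k * (m * k⁻¹ * m⁻¹) := by
    rw [commutatorElement_def]; group
  rw [e]
  exact mul_mem hk h1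

/-- Lemma P in the situation `NBCtx`: `M_σ ∩ H` centralizes `P`. -/
theorem bg13nb_K_cent (hG : IsMinSimpleOddOrder G) {M P H : Subgroup G} {p : ℕ}
    (n : NBCtx M P H p) : ∀ d ∈ sigmaCore M ⊓ H, ∀ x ∈ P, x * d = d * x := by
  have hpp : p.Prime := n.hp.1
  have : Fact p.Prime := ⟨hpp⟩
  have hPH : P ≤ H := le_normalizer.trans n.hNP
  have hPp : IsPGroup p P := IsPGroup.of_card (n := 1) (by rw [n.hP, pow_one])
  exact Helper54.bg13_prime_action_sigma hG (Helper68.bg134_uniq hG) (Helper68.bg134_sigmaCompl hG)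
    n.hM n.hH n.hp.2.1 n.hpσ hPp hPH inf_le_left inf_le_right
    ((le_inf n.hPM hPH).trans (bg13nb_norm_K M H))

/-- Step (5) of BLOCK NB in a strong form: no nontrivial `q`-subgroup of `M_σ ∩ H'` has its
centralizer inside `M`. -/
theorem bg13nb_five (hG : IsMinSimpleOddOrder G) {M P H : Subgroup G} {p : ℕ}
    (n : NBCtx M P H p) {q : ℕ} (hq : q.Prime) {Y : Subgroup G} (hYq : IsPGroup q Y)
    (hY1 : Y ≠ ⊥) (hYM : Y ≤ sigmaCore M) (hYH : Y ≤ ⁅H, H⁆) :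
    ¬ centralizer (Y : Set G) ≤ M := by
  intro hC
  have hpp : p.Prime := n.hp.1
  have : Fact p.Prime := ⟨hpp⟩
  have : Fact q.Prime := ⟨hq⟩
  have hU := Helper68.bg134_uniq hG
  have hnc := bg13nb_not_conj n
  have hYβ : ∀ s : ℕ, s.Prime → s ∣ Nat.card Y → s ∉ beta H := by
    intro s hs hsY hβ
    exact Helper49.bg1216_alpha_disjoint hU n.hM n.hH hnc hβ.1
      (Helper23.mem_of_dvd_card_piCoreOf (sigma M) M hs (hsY.trans (Subgroup.card_dvd_of_le hYM)))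
  have hYp : ¬ p ∣ Nat.card Y := fun h =>
    n.hp.2.1 (Helper23.mem_of_dvd_card_piCoreOf (sigma M) M hpp
      (h.trans (Subgroup.card_dvd_of_le hYM)))
  obtain ⟨S₀, -, -, hS₀⟩ := bg13_blockE hG n.hH n.hpσ n.hpβ hYH hYβ hYp
    (P := ⊥) bot_le IsPGroup.of_bot (by
      intro t _ x hx
      rw [Subgroup.mem_bot] at hx
      rw [hx]; simp)
  exact bg13_lemmaK hG n.hM n.hp S₀ hY1 hYq hYM hS₀ hC

/-- **PIECE NB2** (step (E)). -/
theorem bg13_nb_sylow (hG : IsMinSimpleOddOrder G) {M P H : Subgroup G} {p : ℕ}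
    (n : NBCtx M P H p) :
    (⁅sigmaCore M ⊓ H, M ⊓ H⁆ : Subgroup G) ≤ sigmaCore M ⊓ H ∧
    ∃ S₀ : Subgroup G, IsSylowOf p S₀ ⊤ ∧ P ≤ S₀ ∧ S₀ ≤ H ∧
      (⁅sigmaCore M ⊓ H, M ⊓ H⁆ : Subgroup G) ≤ centralizer (S₀ : Set G) := by
  have hpp : p.Prime := n.hp.1
  have : Fact p.Prime := ⟨hpp⟩
  have hU := Helper68.bg134_uniq hG
  have hnc := bg13nb_not_conj n
  have hTK := bg13nb_T_le M H
  refine ⟨hTK, ?_⟩
  have hPH : P ≤ H := le_normalizer.trans n.hNP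
  have hPp : IsPGroup p P := IsPGroup.of_card (n := 1) (by rw [n.hP, pow_one])
  have hTM : (⁅sigmaCore M ⊓ H, M ⊓ H⁆ : Subgroup G) ≤ sigmaCore M := hTK.trans inf_le_left
  have hTH : (⁅sigmaCore M ⊓ H, M ⊓ H⁆ : Subgroup G) ≤ ⁅H, H⁆ :=
    Subgroup.commutator_mono inf_le_right inf_le_right
  have hTβ : ∀ s : ℕ, s.Prime → s ∣ Nat.card (⁅sigmaCore M ⊓ H, M ⊓ H⁆ : Subgroup G) →
      s ∉ beta H := by
    intro s hs hsT hβ
    exact Helper49.bg1216_alpha_disjoint hU n.hM n.hH hnc hβ.1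
      (Helper23.mem_of_dvd_card_piCoreOf (sigma M) M hs (hsT.trans (Subgroup.card_dvd_of_le hTM)))
  have hTp : ¬ p ∣ Nat.card (⁅sigmaCore M ⊓ H, M ⊓ H⁆ : Subgroup G) := fun h =>
    n.hp.2.1 (Helper23.mem_of_dvd_card_piCoreOf (sigma M) M hpp
      (h.trans (Subgroup.card_dvd_of_le hTM)))
  have hTP : ∀ t ∈ (⁅sigmaCore M ⊓ H, M ⊓ H⁆ : Subgroup G), ∀ x ∈ P, t * x = x * t :=
    fun t ht x hx => (bg13nb_K_cent hG n t (hTK ht) x hx).symm
  obtain ⟨S₀, hPS, hSH, hS₀⟩ := bg13_blockE hG n.hH n.hpσ n.hpβ hTH hTβ hTp hPH hPp hTP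
  refine ⟨(S₀ : Subgroup G), isSylowOf_top S₀, hPS, hSH.trans (Subgroup.commutator_le_self H), ?_⟩
  intro t ht
  rw [Subgroup.mem_centralizer_iff]
  intro s hs
  exact (hS₀ t ht s hs).symm

/-- **PIECE NB4** (LEMMA K, in the shape of the skeleton; the name `bg13_lemmaK` is taken by the
`Sylow`-typed version in `BG13K`). -/
theorem bg13_nb_lemmaK (hG : IsMinSimpleOddOrder G) {M Y S₀ : Subgroup G} {p q : ℕ}
    (hM : IsCoatom M) (hp : p ∈ tau1 M) (hq : q.Prime) (hYq : IsPGroup q Y) (hY1 : Y ≠ ⊥)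
    (hYM : Y ≤ sigmaCore M) (hS₀ : IsSylowOf p S₀ ⊤) (hYS : Y ≤ centralizer (S₀ : Set G))
    (hCY : centralizer (Y : Set G) ≤ M) : False := by
  have : Fact p.Prime := ⟨hp.1⟩
  have : Fact q.Prime := ⟨hq⟩
  obtain ⟨S, hS⟩ := hS₀.exists_sylow_top
  refine bg13_lemmaK hG hM hp S hY1 hYq hYM ?_ hCY
  intro y hy s hs
  rw [hS] at hs
  exact (Subgroup.mem_centralizer_iff.mp (hYS hy) s hs).symm

end Cfsg.Agent.Helper72
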