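import Cfsg.Agent.Helper72.BG13NB9
import Cfsg.Agent.Helper1.Hall
import Cfsg.Agent.Helper35.HallCoprime
import Cfsg.Agent.Helper35.CoprimeSylow
import Cfsg.Agent.Helper51.Replace
import Cfsg.Agent.S1415
import Cfsg.Agent.S1426
import Cfsg.Agent.S4022

/-!
# B&G section 13, CALL S1428 (helper2's skeleton): piece NB8 (case (D2), `q ∈ τ₃(H)`)
-/

set_option autoImplicit false
set_option linter.unusedVariables false

open Cfsg Subgroup Cfsg.Agent.Helper2 Cfsg.Agent.Helper23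
open scoped Pointwise commutatorElement

namespace Cfsg.Agent.Helper72

universe u
variable {G : Type u} [Group G] [Finite G]

/-- In a solvable subgroup `E`, every `π`-subgroup lies in a Hall `π`-subgroup of `E`. -/
theorem bg13nb_exists_hall_ge {E X : Subgroup G} (hE : Group.IsSolvable ↥E) (π : Set ℕ)
    (hXE : X ≤ E) (hX : ∀ p : ℕ, p.Prime → p ∣ Nat.card X → p ∈ π) :
    ∃ E₃ : Subgroup G, IsPiHallOf π E₃ E ∧ X ≤ E₃ := by
  obtain ⟨m, n, hN, hmn, hm, hn⟩ :=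
    Helper35.exists_pi_factorization π (Nat.card E) Nat.card_pos.ne'
  have hXn : (Nat.card (X.subgroupOf E)).Coprime n := by
    rw [Nat.card_congr (Subgroup.subgroupOfEquivOfLe hXE).toEquiv]
    by_contra h
    obtain ⟨p, hp, h1, h2⟩ := Nat.Prime.not_coprime_iff_dvd.mp h
    exact hn p hp (hX p hp h1) h2
  obtain ⟨H', hH', hXH'⟩ :=
    Helper1.hall_le_aux (Nat.card E) ↥E m n rfl hN hmn (X.subgroupOf E) hXn
  have hcard : Nat.card (H'.map E.subtype) = m := by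
    rw [← hH']
    exact (Nat.card_congr (H'.equivMapOfInjective E.subtype E.subtype_injective).toEquiv).symm
  refine ⟨H'.map E.subtype, ⟨map_subtype_le _, ?_, ?_⟩, ?_⟩
  · intro p hp hpd
    rw [hcard] at hpd
    exact hm p hp hpd
  · intro p hp hpπ hpd
    rw [Helper22.bg10_relIndex_map_subtype, Helper1.hall_index hN H' hH'] at hpd
    exact hn p hp hpπ hpd
  · intro x hx
    exact ⟨⟨x, hXE hx⟩, hXH' (mem_subgroupOf.mpr hx), rfl⟩

/-- For `q ∈ τ₃(H)`, a subgroup of order `q` of a complement `E` of `H_σ` is normal in `E`. -/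
theorem bg13nb_tau3_normal (hG : IsMinSimpleOddOrder G) {H E X : Subgroup G} (hH : IsCoatom H)
    (hE : IsComplIn E (sigmaCore H) H) {q : ℕ} (hq3 : q ∈ tau3 H) (hX : Nat.card X = q)
    (hXE : X ≤ E) : E ≤ normalizer (X : Set G) := by
  have hq : q.Prime := hq3.1
  have hEtop : E ≠ ⊤ := fun h => hH.1 (top_le_iff.mp (h ▸ hE.1))
  have hsolv : Group.IsSolvable ↥E := uq_isSolvable hG hEtop
  have hXπ : ∀ p : ℕ, p.Prime → p ∣ Nat.card X → p ∈ tau3 H := by
    intro p hp hpd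
    rw [hX] at hpd
    rw [(Nat.prime_dvd_prime_iff_eq hp hq).mp hpd]
    exact hq3
  obtain ⟨E₃, hE₃, hXE₃⟩ := bg13nb_exists_hall_ge hsolv (tau3 H) hXE hXπ
  obtain ⟨hcyc, -, hnorm⟩ := (Cfsg.Agent.S1415.result hG H hH E hE).2.2 E₃ hE₃
  intro e he
  apply Helper22.bg10_mem_normalizer
  intro x hx
  have hJ : X.map (MulAut.conj e).toMonoidHom ≤ E₃ := by
    rintro _ ⟨y, hy, rfl⟩
    exact (mem_normalizer_iff.mp (hnorm he) y).mp (hXE₃ hy)
  have hJc : Nat.card (X.map (MulAut.conj e).toMonoidHom) = Nat.card X :=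
    (Nat.card_congr (X.equivMapOfInjective (MulAut.conj e).toMonoidHom
      (MulAut.conj e).injective).toEquiv).symm
  have hJX : X.map (MulAut.conj e).toMonoidHom = X :=
    Cfsg.Agent.S4022.cyc_unique hcyc hJ hXE₃ hJc
  have h1 : e * x * e⁻¹ ∈ X.map (MulAut.conj e).toMonoidHom := ⟨x, hx, rfl⟩
  rwa [hJX] at h1

/-- For `p ∈ σ(H) \ β(H)`, a complement `E` of `H_σ` in `H` and an `E`-invariant Sylow
`p`-subgroup `S` of `G` inside `H`: `S = [S, E]` (S1426 and the normal `p`-complement of `H_σ`,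
S1414). -/
theorem bg13nb_sylow_comm (hG : IsMinSimpleOddOrder G) {H E S : Subgroup G} (hH : IsCoatom H)
    (hE : IsComplIn E (sigmaCore H) H) {p : ℕ} [Fact p.Prime] (hpσ : p ∈ sigma H)
    (hpβ : p ∉ beta H) (hS : IsSylowOf p S ⊤) (hSH : S ≤ H)
    (hES : E ≤ normalizer (S : Set G)) : S ≤ ⁅S, E⁆ := by
  classical
  have hpp : p.Prime := Fact.out
  have hU := Helper68.bg134_uniq hG
  have hSσ : S ≤ sigmaCore H := Helper22.bg12_le_sigmaCore hG hU hH hpp hpσ hSH hS.2.1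
  have h26 : ⁅sigmaCore H, E⁆ = sigmaCore H := (Cfsg.Agent.S1426.result hG H hH E hE).2.1
  have hEH : E ≤ H := hE.1
  obtain ⟨Hσ, hHσ⟩ : ∃ K : Subgroup G, K = sigmaCore H := ⟨_, rfl⟩
  have hcomp : HasNormalPComplement p ↥Hσ := by
    rw [hHσ]
    exact ((Cfsg.Agent.S1414.result hG H hH).2.2.2.2 p hpp hpσ.2.1 hpβ).2.1
  rw [← hHσ] at hSσ h26
  obtain ⟨P₁, N, hNn, hNc⟩ := hcomp
  obtain ⟨O, hOdef⟩ : ∃ O : Subgroup G, O = N.map Hσ.subtype := ⟨_, rfl⟩
  have hOH : O ≤ Hσ := hOdef ▸ map_subtype_le _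
  have hHσn : H ≤ normalizer (Hσ : Set G) := hHσ ▸ le_normalizer_piCoreOf (sigma H) H
  -- `H_σ` normalizes `O`
  have hHO : Hσ ≤ normalizer (O : Set G) := by
    intro h hh
    apply Helper22.bg10_mem_normalizer
    rw [hOdef]
    rintro _ ⟨y, hy, rfl⟩
    exact ⟨⟨h, hh⟩ * y * ⟨h, hh⟩⁻¹, hNn.conj_mem y hy ⟨h, hh⟩, rfl⟩
  -- cardinalities
  have hcO : Nat.card O = Nat.card N := by
    rw [hOdef]
    exact (Nat.card_congr (N.equivMapOfInjective Hσ.subtype Hσ.subtype_injective).toEquiv).symm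
  have hcard : Nat.card N * Nat.card (P₁ : Subgroup ↥Hσ) = Nat.card Hσ := hNc.card_mul_card
  obtain ⟨v, hv⟩ : ∃ v : ℕ, v = (Nat.card Hσ).factorization p := ⟨_, rfl⟩
  have hP₁card : Nat.card (P₁ : Subgroup ↥Hσ) = p ^ v := by
    rw [hv]; exact P₁.card_eq_multiplicity
  have hpO : ¬ p ∣ Nat.card O := by
    rw [hcO]
    rintro ⟨k, hk⟩
    have h1 : p ^ ((Nat.card Hσ).factorization p + 1) ∣ Nat.card Hσ := by
      refine ⟨k, ?_⟩
      rw [← hv, ← hcard, hk, hP₁card]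
      ring
    exact Nat.pow_succ_factorization_not_dvd Nat.card_pos.ne' hpp h1
  have hOS : S ⊓ O = ⊥ :=
    bg13k_eq_bot_of_not_dvd (hS.2.1.to_le inf_le_left) inf_le_right hpO
  -- `|S| = |P₁|`
  have hScard : Nat.card S = Nat.card (P₁ : Subgroup ↥Hσ) := by
    have h1 : IsSylowOf p S Hσ := hS.of_le hSσ le_top
    have h2 : IsSylowOf p ((P₁ : Subgroup ↥Hσ).map Hσ.subtype) Hσ := isSylowOf_map P₁
    rw [Helper22.bg10_sylow_card h2 h1]
    exact (Nat.card_congr ((P₁ : Subgroup ↥Hσ).equivMapOfInjective Hσ.subtype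
      Hσ.subtype_injective).toEquiv).symm
  -- `E` normalizes `O`
  have hrel : O.relIndex Hσ = Nat.card (P₁ : Subgroup ↥Hσ) := by
    rw [hOdef, Helper22.bg10_relIndex_map_subtype]
    exact hNc.symm.index_eq_card
  have hEO : E ≤ normalizer (O : Set G) := by
    intro e he
    apply Helper22.bg10_mem_normalizer
    have hJ : O.map (MulAut.conj e).toMonoidHom ≤ Hσ := by
      rintro _ ⟨y, hy, rfl⟩
      exact (mem_normalizer_iff.mp (hHσn (hEH he)) y).mp (hOH hy)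
    have hJc : Nat.card (O.map (MulAut.conj e).toMonoidHom) = Nat.card O :=
      (Nat.card_congr (O.equivMapOfInjective (MulAut.conj e).toMonoidHom
        (MulAut.conj e).injective).toEquiv).symm
    have hcop : (Nat.card (O.map (MulAut.conj e).toMonoidHom)).Coprime (O.relIndex Hσ) := by
      rw [hJc, hrel, hP₁card]
      exact Nat.Coprime.pow_right _ ((Nat.Prime.coprime_iff_not_dvd hpp).mpr hpO).symm
    have hle := Helper22.bg12_le_of_coprime_relIndex hOH hJ (hJ.trans hHO) hcop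
    intro x hx
    exact hle ⟨x, hx, rfl⟩
  -- `H_σ = S O`
  have hSO : S ≤ normalizer (O : Set G) := hSσ.trans hHO
  have hsup : S ⊔ O = Hσ := by
    apply Subgroup.eq_of_le_of_card_ge (sup_le hSσ hOH)
    have h1 := Helper51.card_sup_mul_card_inf_of_le_normalizer S O hSO
    rw [hOS, Subgroup.card_bot, mul_one] at h1
    rw [h1, hScard, hcO, ← hcard, mul_comm]
  have hdec : ∀ h ∈ Hσ, ∃ s ∈ S, ∃ o ∈ O, h = s * o := by
    intro h hh
    have h1 : S ⊔ O ≤ Helper24.bg1217Prod S O hSO :=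
      sup_le (Helper24.bg1217_le_prod_left S O hSO) (Helper24.bg1217_le_prod_right S O hSO)
    rw [← hsup] at hh
    exact h1 hh
  -- `W = [S, E] ≤ S`
  have hWS : ⁅S, E⁆ ≤ S := by
    rw [Subgroup.commutator_le]
    intro s hs e he
    have h1 := (mem_normalizer_iff.mp (hES he) s⁻¹).mp (inv_mem hs)
    have e1 : ⁅s, e⁆ = s * (e * s⁻¹ * e⁻¹) := by rw [commutatorElement_def]; group
    rw [e1]; exact mul_mem hs h1
  have hWO : ⁅S, E⁆ ≤ normalizer (O : Set G) := hWS.trans hSO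
  -- `[H_σ, E] ≤ W O`
  have hcomm : ⁅Hσ, E⁆ ≤ Helper24.bg1217Prod ⁅S, E⁆ O hWO := by
    rw [Subgroup.commutator_le]
    intro h hh e he
    obtain ⟨s, hs, o, ho, rfl⟩ := hdec h hh
    have ht : e * s * e⁻¹ ∈ S := (mem_normalizer_iff.mp (hES he) s).mp hs
    have ho1 : e * o⁻¹ * e⁻¹ ∈ O := (mem_normalizer_iff.mp (hEO he) o⁻¹).mp (inv_mem ho)
    have ho2 : (e * s * e⁻¹) * (o * (e * o⁻¹ * e⁻¹)) * (e * s * e⁻¹)⁻¹ ∈ O :=
      (mem_normalizer_iff.mp (hSO ht) _).mp (mul_mem ho ho1)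
    refine ⟨⁅s, e⁆, Subgroup.commutator_mem_commutator hs he, _, ho2, ?_⟩
    simp only [commutatorElement_def]; group
  -- conclusion
  intro s hs
  have hsσ : s ∈ ⁅Hσ, E⁆ := by rw [h26]; exact hSσ hs
  obtain ⟨w, hw, o, ho, hswo⟩ := hcomm hsσ
  have ho' : o ∈ S ⊓ O := by
    refine Subgroup.mem_inf.mpr ⟨?_, ho⟩
    have : o = w⁻¹ * s := by rw [hswo]; group
    rw [this]; exact mul_mem (inv_mem (hWS hw)) hs
  rw [hOS, Subgroup.mem_bot] at ho'
  rw [hswo, ho', mul_one]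
  exact hw

/-- **PIECE NB8** (case (D2)): `q ∈ τ₃(H)`. -/
theorem bg13_nb_tau3 (hG : IsMinSimpleOddOrder G) {M P H : Subgroup G} {p : ℕ}
    (n : NBCtx M P H p) (h5 : NBFive M H) {q : ℕ} {X L S₀ : Subgroup G} (hq3 : q ∈ tau3 H)
    (hX : Nat.card X = q) (hXT : X ≤ ⁅sigmaCore M ⊓ H, M ⊓ H⁆)
    (hXN : M ⊓ H ≤ normalizer (X : Set G)) (hL : IsCoatom L) (hNX : normalizer (X : Set G) ≤ L)
    (hS₀ : IsSylowOf p S₀ ⊤) (hPS : P ≤ S₀) (hS₀H : S₀ ≤ H)
    (hTS : (⁅sigmaCore M ⊓ H, M ⊓ H⁆ : Subgroup G) ≤ centralizer (S₀ : Set G)) : False := by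
  classical
  have hpp : p.Prime := n.hp.1
  have hq : q.Prime := hq3.1
  have : Fact p.Prime := ⟨hpp⟩
  have : Fact q.Prime := ⟨hq⟩
  have hU := Helper68.bg134_uniq hG
  refine bg13nb_key hG n hq hX hXT hL hNX ?_ (Or.inr hq3)
  have hTK := bg13nb_T_le M H
  have hXH : X ≤ H := hXT.trans (hTK.trans inf_le_right)
  -- a complement `E ≥ X` of `H_σ`
  have hcopX : (Nat.card X).Coprime (Nat.card (sigmaCore H)) := by
    rw [hX]
    exact (Nat.Prime.coprime_iff_not_dvd hq).mpr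
      (fun h => hq3.2.1 (mem_of_dvd_card_piCoreOf (sigma H) H hq h))
  obtain ⟨E, hE, hXE⟩ := Helper20.bg13_exists_compl_ge hG hU n.hH hXH hcopX
  have hEX : E ≤ normalizer (X : Set G) := bg13nb_tau3_normal hG n.hH hE hq3 hX hXE
  have hEL : E ≤ L := hEX.trans hNX
  -- `C = C_{H_σ}(X)`
  set C : Subgroup G := sigmaCore H ⊓ centralizer (X : Set G) with hCdef
  have hCL : C ≤ L := inf_le_right.trans ((Subgroup.centralizer_le_normalizer _).trans hNX)
  have hHσn : H ≤ normalizer ((sigmaCore H : Subgroup G) : Set G) :=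
    le_normalizer_piCoreOf (sigma H) H
  have hEC : E ≤ normalizer (C : Set G) := by
    intro e he
    apply Helper22.bg10_mem_normalizer
    intro y hy
    have hy1 : y ∈ sigmaCore H := (Subgroup.mem_inf.mp hy).1
    have hy2 : y ∈ centralizer (X : Set G) := (Subgroup.mem_inf.mp hy).2
    refine Subgroup.mem_inf.mpr ⟨(mem_normalizer_iff.mp (hHσn (hE.1 he)) y).mp hy1, ?_⟩
    rw [Subgroup.mem_centralizer_iff] at hy2 ⊢
    intro x hx
    have hx' : e⁻¹ * x * e ∈ X := by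
      have := (mem_normalizer_iff.mp (inv_mem (hEX he)) x).mp hx
      simpa using this
    have h1 := hy2 _ hx'
    calc x * (e * y * e⁻¹) = e * ((e⁻¹ * x * e) * y) * e⁻¹ := by group
      _ = e * (y * (e⁻¹ * x * e)) * e⁻¹ := by rw [h1]
      _ = e * y * e⁻¹ * x := by group
  have hS₀C : S₀ ≤ C := by
    refine le_inf (Helper22.bg12_le_sigmaCore hG hU n.hH hpp n.hpσ hS₀H hS₀.2.1) ?_
    intro s hs
    rw [Subgroup.mem_centralizer_iff]
    intro x hx
    exact ((Subgroup.mem_centralizer_iff.mp (hTS (hXT hx))) s hs).symm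
  -- an `E`-invariant Sylow `p`-subgroup `S₁` of `C`
  have hcopE : (Nat.card E).Coprime (Nat.card C) :=
    (Helper24.bg1217_coprime hG hU n.hH hE).coprime_dvd_right
      (Subgroup.card_dvd_of_le inf_le_left)
  have hEtop : E ≠ ⊤ := fun h => n.hH.1 (top_le_iff.mp (h ▸ hE.1))
  have hsolvE : Group.IsSolvable ↥E := uq_isSolvable hG hEtop
  obtain ⟨S₁, hS₁, hES₁⟩ := Helper35.exists_invariant_sylow hEC hcopE (Or.inl hsolvE) p
  have hS₁C : IsSylowOf p S₁ C := Helper22.bg10_isSylowOf_of_sylowSet le_rfl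
    (by rw [Subgroup.relIndex_self]; exact hpp.not_dvd_one) hS₁
  have hS₀C' : IsSylowOf p S₀ C := hS₀.of_le hS₀C le_top
  obtain ⟨c, hc, hcS⟩ := Helper22.bg10_sylow_conj hS₁C hS₀C'
  have hS₁top : IsSylowOf p S₁ ⊤ :=
    Helper22.bg10_isSylowOf_of_card hS₀ hS₁C.2.1 le_top (Helper22.bg10_sylow_card hS₁C hS₀C').le
  have hS₁H : S₁ ≤ H := hS₁C.1.trans (inf_le_left.trans (piCoreOf_le _ _))
  have hZ : S₁ ≤ ⁅S₁, E⁆ := bg13nb_sylow_comm hG n.hH hE n.hpσ n.hpβ hS₁top hS₁H hES₁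
  have hS₁L' : S₁ ≤ ⁅L, L⁆ :=
    hZ.trans (Subgroup.commutator_mono (hS₁C.1.trans hCL) hEL)
  have hLn : L ≤ normalizer ((⁅L, L⁆ : Subgroup G) : Set G) :=
    Helper24.bg1217_normalizer_commutator le_normalizer le_normalizer
  intro x hx
  have hxS₀ := hPS hx
  rw [hcS, Subgroup.mem_pointwise_smul_iff_inv_smul_mem] at hxS₀
  have hy : c⁻¹ * x * c ∈ S₁ := by simpa [MulAut.smul_def] using hxS₀
  have h1 := (mem_normalizer_iff.mp (hLn (hCL hc)) _).mp (hS₁L' hy)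
  have e1 : c * (c⁻¹ * x * c) * c⁻¹ = x := by group
  rwa [e1] at h1

end Cfsg.Agent.Helper72
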