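import Cfsg.Agent.Helper72.BG13NB
import Cfsg.Agent.Helper72.BG12Cor
import Cfsg.Agent.Helper62.BG12c

/-!
# B&G section 13, CALL S1428 (helper2's skeleton): piece NB9 (cases (D1)(a)-(d)) and the common
setup of the pieces NB8-NB10
-/

set_option autoImplicit false
set_option linter.unusedVariables false

open Cfsg Subgroup Cfsg.Agent.Helper2 Cfsg.Agent.Helper23
open scoped Pointwise commutatorElement

namespace Cfsg.Agent.Helper72

universe u
variable {G : Type u} [Group G] [Finite G]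

/-- A `q`-subgroup of `L` whose index in `L` is prime to `q` is a Sylow `q`-subgroup of `L`. -/
theorem bg13nb_isSylowOf_of_not_dvd {q : ℕ} [Fact q.Prime] {S L : Subgroup G} (hSL : S ≤ L)
    (hS : IsPGroup q S) (hnd : ¬ q ∣ S.relIndex L) : IsSylowOf q S L := by
  refine ⟨hSL, hS, fun T hTL hT hle => ?_⟩
  have h1 := Subgroup.relIndex_mul_relIndex S T L hle hTL
  have h2 : ¬ q ∣ S.relIndex T := fun h => hnd (h1 ▸ Dvd.dvd.mul_right h _)
  obtain ⟨k, hk⟩ := IsPGroup.iff_card.mp hT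
  have h3 : S.relIndex T ∣ Nat.card T := Subgroup.relIndex_dvd_card S T
  rw [hk] at h3
  obtain ⟨j, -, hj⟩ := (Nat.dvd_prime_pow Fact.out).mp h3
  have hj0 : j = 0 := by
    by_contra h
    exact h2 (hj ▸ dvd_pow_self q h)
  rw [hj0, pow_zero] at hj
  exact le_antisymm (Subgroup.relIndex_eq_one.mp hj) hle

/-- Common setup of NB8-NB10: for `X ≤ T` of order `q` and a maximal subgroup `L ≥ N_G(X)`:
`q ∈ σ(M)`, `L ≠ M`, `L` is not conjugate to `M`, and there is a Sylow `q`-subgroup `S₁ ≥ X` of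
`L` inside `M_σ ∩ L` with `N_G(S₁) ≤ M` (S1424). -/
theorem bg13nb_setup (hG : IsMinSimpleOddOrder G) {M P H : Subgroup G} {p : ℕ}
    (n : NBCtx M P H p) {q : ℕ} {X L : Subgroup G} (hq : q.Prime) (hX : Nat.card X = q)
    (hXT : X ≤ ⁅sigmaCore M ⊓ H, M ⊓ H⁆) (hL : IsCoatom L)
    (hNX : normalizer (X : Set G) ≤ L) :
    q ∈ sigma M ∧ L ≠ M ∧ (∀ g : G, L ≠ M.map (MulAut.conj g).toMonoidHom) ∧
      ∃ S₁ : Subgroup G, X ≤ S₁ ∧ IsPGroup q S₁ ∧ S₁ ≤ sigmaCore M ⊓ L ∧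
        normalizer (S₁ : Set G) ≤ M ∧ IsSylowOf q S₁ L := by
  classical
  have : Fact q.Prime := ⟨hq⟩
  have hU := Helper68.bg134_uniq hG
  have hTK := bg13nb_T_le M H
  have hXq : IsPGroup q X := IsPGroup.of_card (n := 1) (by rw [hX, pow_one])
  have hX1 : X ≠ ⊥ := by
    intro h
    rw [h, Subgroup.card_bot] at hX
    exact hq.one_lt.ne hX
  have hXM : X ≤ sigmaCore M := hXT.trans (hTK.trans inf_le_left)
  have hXH' : X ≤ ⁅H, H⁆ := hXT.trans (Subgroup.commutator_mono inf_le_right inf_le_right)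
  have hqσ : q ∈ sigma M :=
    mem_of_dvd_card_piCoreOf (sigma M) M hq (by rw [← hX]; exact Subgroup.card_dvd_of_le hXM)
  have hσM : sigmaCore M ≤ M := piCoreOf_le _ _
  have hLM : L ≠ M := by
    intro h
    exact bg13nb_five hG n hq hXq hX1 hXM hXH'
      (h ▸ (Subgroup.centralizer_le_normalizer _).trans hNX)
  have hXML : X ≤ M ⊓ L := le_inf (hXM.trans hσM) (le_normalizer.trans hNX)
  have hX'q : IsPGroup q ↥(X.subgroupOf (M ⊓ L)) := hXq.comap_subtype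
  obtain ⟨S, hS⟩ := hX'q.exists_le_sylow
  have hXS : X ≤ (S : Subgroup ↥(M ⊓ L)).map (M ⊓ L).subtype := fun x hx =>
    ⟨⟨x, hXML hx⟩, hS (mem_subgroupOf.mpr hx), rfl⟩
  obtain ⟨hncL, hNS, hidx⟩ := Cfsg.Agent.S1424.result hG M n.hM q hqσ X hXq hX1 (hXM.trans hσM)
    L hL hLM hNX S hXS
  refine ⟨hqσ, hLM, hncL, _, hXS, S.isPGroup'.map _, ?_, hNS, ?_⟩
  · refine le_inf ?_ ((map_subtype_le _).trans inf_le_right)
    exact Helper22.bg12_le_sigmaCore hG hU n.hM hq hqσ ((map_subtype_le _).trans inf_le_left)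
      (S.isPGroup'.map _)
  · exact bg13nb_isSylowOf_of_not_dvd ((map_subtype_le _).trans inf_le_right)
      (S.isPGroup'.map _) hidx

/-- If `P ≤ L'` (in the setup of NB8-NB10) and either `q ∈ σ(L) ∩ σ(H)` or `q ∈ τ₃(H)`, we get a
contradiction: FACT F puts `S₁` into `C(P) ≤ H`, then `S₁ ≤ H'` and step (5) applies to `S₁`. -/
theorem bg13nb_key (hG : IsMinSimpleOddOrder G) {M P H : Subgroup G} {p : ℕ}
    (n : NBCtx M P H p) {q : ℕ} {X L : Subgroup G} (hq : q.Prime) (hX : Nat.card X = q)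
    (hXT : X ≤ ⁅sigmaCore M ⊓ H, M ⊓ H⁆) (hL : IsCoatom L)
    (hNX : normalizer (X : Set G) ≤ L) (hPL : P ≤ ⁅L, L⁆)
    (hcase : (q ∈ sigma L ∧ q ∈ sigma H) ∨ q ∈ tau3 H) : False := by
  classical
  have hpp : p.Prime := n.hp.1
  have : Fact p.Prime := ⟨hpp⟩
  have : Fact q.Prime := ⟨hq⟩
  have hU := Helper68.bg134_uniq hG
  obtain ⟨hqM, hLM, hncL, S₁, hXS, hS₁q, hS₁K, hNS, hS₁L⟩ := bg13nb_setup hG n hq hX hXT hL hNX
  have hX1 : X ≠ ⊥ := by
    intro h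
    rw [h, Subgroup.card_bot] at hX
    exact hq.one_lt.ne hX
  have hPp : IsPGroup p P := IsPGroup.of_card (n := 1) (by rw [n.hP, pow_one])
  have hPL' : P ≤ L := hPL.trans (Subgroup.commutator_le_self L)
  have hF := Helper24.bg13_factF hG n.hM hL hncL n.hp.2.1 hPp hPL (D := sigmaCore M ⊓ L)
    inf_le_left inf_le_right ((le_inf n.hPM hPL').trans (bg13nb_norm_K M L))
  have hS₁C : S₁ ≤ centralizer (P : Set G) := fun s hs =>
    Subgroup.mem_centralizer_iff.mpr (fun x hx => hF s (hS₁K hs) x hx)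
  have hS₁H : S₁ ≤ H := hS₁C.trans ((Subgroup.centralizer_le_normalizer _).trans n.hNP)
  have hS₁1 : S₁ ≠ ⊥ := fun h => hX1 (le_bot_iff.mp (h ▸ hXS))
  have hS₁comm : S₁ ≤ ⁅H, H⁆ := by
    rcases hcase with ⟨hqL, hqH⟩ | hq3
    · have hS₁top : IsSylowOf q S₁ ⊤ := hS₁L.of_normalizer_inf_le le_top
        (inf_le_left.trans (Helper62.BG12.sigma_sylow_norm_le hqL hS₁L))
      have hS₁H' : IsSylowOf q S₁ H := hS₁top.of_le hS₁H le_top
      have hNH : normalizer (S₁ : Set G) ≤ H := Helper62.BG12.sigma_sylow_norm_le hqH hS₁H'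
      exact Helper22.bg10_sylow_le_commutator hG hU n.hH hS₁H' hNH
    · intro x hx
      obtain ⟨k, hk⟩ := hS₁q ⟨x, hx⟩
      exact Helper24.bg13_tau3_mem_commutator hG n.hH hq3 (hS₁H hx) (k := k)
        (by simpa using congrArg Subtype.val hk)
  exact bg13nb_five hG n hq hS₁q hS₁1 (hS₁K.trans inf_le_left) hS₁comm
    ((Subgroup.centralizer_le_normalizer _).trans hNS)

/-- **PIECE NB9** (cases (D1)(a)-(d)): `q ∈ σ(H)` and `q ∈ σ(L)`. -/
theorem bg13_nb_sigmaL (hG : IsMinSimpleOddOrder G) {M P H : Subgroup G} {p : ℕ}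
    (n : NBCtx M P H p) (h5 : NBFive M H) {q : ℕ} {X L S₀ : Subgroup G} (hqσ : q ∈ sigma H)
    (hqL : q ∈ sigma L) (hX : Nat.card X = q) (hXT : X ≤ ⁅sigmaCore M ⊓ H, M ⊓ H⁆)
    (hXN : M ⊓ H ≤ normalizer (X : Set G)) (hL : IsCoatom L) (hNX : normalizer (X : Set G) ≤ L)
    (hS₀ : IsSylowOf p S₀ ⊤) (hPS : P ≤ S₀) (hS₀H : S₀ ≤ H)
    (hTS : (⁅sigmaCore M ⊓ H, M ⊓ H⁆ : Subgroup G) ≤ centralizer (S₀ : Set G)) : False := by
  classical
  have hpp : p.Prime := n.hp.1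
  have hq : q.Prime := hqσ.1
  have : Fact p.Prime := ⟨hpp⟩
  have : Fact q.Prime := ⟨hq⟩
  have hU := Helper68.bg134_uniq hG
  obtain ⟨hqM, hLM, hncL, -⟩ := bg13nb_setup hG n hq hX hXT hL hNX
  have hXq : IsPGroup q X := IsPGroup.of_card (n := 1) (by rw [hX, pow_one])
  have hX1 : X ≠ ⊥ := by
    intro h
    rw [h, Subgroup.card_bot] at hX
    exact hq.one_lt.ne hX
  have hPH : P ≤ H := le_normalizer.trans n.hNP
  have hPL : P ≤ L := fun x hx => hNX (hXN ⟨n.hPM hx, hPH hx⟩)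
  have hPp : IsPGroup p P := IsPGroup.of_card (n := 1) (by rw [n.hP, pow_one])
  have hXL : X ≤ L := le_normalizer.trans hNX
  have hXLσ : X ≤ sigmaCore L := Helper22.bg12_le_sigmaCore hG hU hL hq hqL hXL hXq
  have key : P ≤ ⁅L, L⁆ → False := fun h =>
    bg13nb_key hG n hq hX hXT hL hNX h (Or.inl ⟨hqL, hqσ⟩)
  have hpL : p ∣ Nat.card L := by
    rw [← n.hP]; exact Subgroup.card_dvd_of_le hPL
  by_cases hpσL : p ∈ sigma L
  · exact key ((Helper22.bg12_le_sigmaCore hG hU hL hpp hpσL hPL hPp).trans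
      (Helper24.bg1217_sigmaCore_le_comm hG hU hL))
  by_cases hr1 : PRankLE p 1 L
  · by_cases hd : p ∣ Nat.card ↥⁅L, L⁆
    · apply key
      intro x hx
      obtain ⟨k, hk⟩ := hPp ⟨x, hx⟩
      exact Helper24.bg13_tau3_mem_commutator hG hL ⟨hpp, hpσL, hd, hr1⟩ (hPL hx) (k := k)
        (by simpa using congrArg Subtype.val hk)
    · exact bg13_nb_lemmaK hG hL ⟨hpp, hpσL, hpL, hd, hr1⟩ hq hXq hX1 hXLσ hS₀ (hXT.trans hTS)
        ((Subgroup.centralizer_le_normalizer _).trans hNX)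
  · have h2 : PRankLE p 2 L := Helper22.bg10_pRank_of_not_alpha L p hpp
      (fun hα => hpσL (Helper22.bg10_alpha_sub_sigma hG hU hL hα))
    have hp2 : p ∈ tau2 L := ⟨hpp, hpσL, h2, hr1⟩
    obtain ⟨A₀, hA₀L, hA₀, hA₀c⟩ := b12c_exists_elemAb hp2
    obtain ⟨hnil, -⟩ := Cfsg.Agent.S1417.result hG L hL p hp2 A₀ ⟨hA₀L, hA₀, hA₀c⟩
    have hqd : q ∣ Nat.card (sigmaCore L) := by
      rw [← hX]; exact Subgroup.card_dvd_of_le hXLσ
    exact Helper49.bg1216_sigma_disjoint hG hU n.hM hL hncL hnil hq hqd hqM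

end Cfsg.Agent.Helper72
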