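import Cfsg.Agent.S1378
import Cfsg.Agent.S1419
import Cfsg.Agent.S1423
import Cfsg.Agent.S1426
import Cfsg.Agent.S1414
import Cfsg.Agent.S1415
import Cfsg.Agent.S1417
import Cfsg.Agent.S1418
import Cfsg.Agent.Helper4.BG127P2
import Cfsg.Agent.Helper24.BG1217
import Cfsg.Agent.Helper98.BG139CARD
import Cfsg.Agent.Helper31.BG139HALL
import Cfsg.Agent.Helper35.CoprimeAbelian
import Cfsg.Agent.Helper20.BG13P4

/-!
# B&G 13.12 (LEMMA Z of the S1353/S1354 analysis): the case `p ∈ τ₁(L)` (helper72)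

`bg14_zt1`: `M`, `L` distinct maximal subgroups, `s ∈ τ₂(M)` with nonabelian Sylow `s`-subgroups
of `G`, `A ≤ E` elementary abelian of order `s²` (`E` a complement of `M_σ`), `A ≤ L`,
`s ∈ σ(L)`, `X ≤ A` of order `s` with `C_{M_σ}(X) ≠ 1`, and `P ≤ L` of order `p ∈ τ₁(L)`
centralizing `X`: contradiction.
-/

set_option autoImplicit false
set_option linter.style.haveILetI false
set_option maxHeartbeats 1000000

namespace Cfsg.Agent.Helper72

open Cfsg Subgroup Cfsg.Agent.Helper23 Cfsg.Agent.Helper35 Cfsg.Agent.Helper22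
open scoped Pointwise commutatorElement

universe u

variable {G : Type u} [Group G] [Finite G]

/-- In a subgroup `L` whose derived subgroup has a normal `s`-complement, the commutator of an
`s'`-element of `L'` with any element of `L` has order prime to `s`. -/
theorem zt1_comm {L : Subgroup G} {s : ℕ} (hs : s.Prime)
    (hnpc : HasNormalPComplement s ↥⁅L, L⁆) {e a : G} (he : e ∈ ⁅L, L⁆) (ha : a ∈ L) {n : ℕ}
    (hen : e ^ n = 1) (hcop : n.Coprime s) : ¬ s ∣ orderOf (e * a * e⁻¹ * a⁻¹) := by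
  haveI := Fact.mk hs
  obtain ⟨P, N, hNn, hNP⟩ := hnpc
  have hidx : N.index = Nat.card (P : Subgroup ↥⁅L, L⁆) := hNP.symm.index_eq_card
  have hcardN : Nat.card N = (P : Subgroup ↥⁅L, L⁆).index := hNP.index_eq_card.symm
  obtain ⟨k, hk⟩ := IsPGroup.iff_card.mp P.2
  have hmemN : ∀ b : ↥⁅L, L⁆, b ^ n = 1 → b ∈ N := by
    intro b hb
    refine Helper68.bg123_mem_of_coprime (T := N) (H := ⊤) ?_ (Subgroup.mem_top b) hb ?_
    · rw [normalizer_eq_top]
    · rw [Subgroup.relIndex_top_right, hidx, hk]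
      exact Nat.Coprime.pow_right k hcop
  have hLn : L ≤ normalizer ((⁅L, L⁆ : Subgroup G) : Set G) :=
    le_normalizer_commutator (A := L) (K := L) le_normalizer
  have hd : a * e⁻¹ * a⁻¹ ∈ ⁅L, L⁆ :=
    (Subgroup.mem_normalizer_iff.mp (hLn ha) e⁻¹).mp (inv_mem he)
  have h1 : (⟨e, he⟩ : ↥⁅L, L⁆) ∈ N := hmemN _ (Subtype.ext (by simpa using hen))
  have h2 : (⟨a * e⁻¹ * a⁻¹, hd⟩ : ↥⁅L, L⁆) ∈ N := by
    apply hmemN
    apply Subtype.ext
    have : (a * e⁻¹ * a⁻¹) ^ n = a * (e ^ n)⁻¹ * a⁻¹ := by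
      rw [← inv_pow, conj_pow]
    simp [this, hen]
  have h3 : (⟨e, he⟩ : ↥⁅L, L⁆) * ⟨a * e⁻¹ * a⁻¹, hd⟩ ∈ N := N.mul_mem h1 h2
  intro hdvd
  have h4 : orderOf ((⟨e, he⟩ : ↥⁅L, L⁆) * ⟨a * e⁻¹ * a⁻¹, hd⟩) ∣ Nat.card N :=
    Subgroup.orderOf_dvd_natCard N h3
  have h5 : orderOf ((⟨e, he⟩ : ↥⁅L, L⁆) * ⟨a * e⁻¹ * a⁻¹, hd⟩) =
      orderOf (e * a * e⁻¹ * a⁻¹) := by
    rw [← Subgroup.orderOf_coe]
    congr 1
    simp [mul_assoc]
  rw [h5, hcardN] at h4
  exact P.not_dvd_index (hdvd.trans h4)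

/-- an element whose order is a power of `s` and prime to `s` is trivial. -/
theorem zt1_eq_one {s : ℕ} (hs : s.Prime) {c : G} {k : ℕ} (hk : c ^ s ^ k = 1)
    (hns : ¬ s ∣ orderOf c) : c = 1 := by
  have h1 : orderOf c ∣ s ^ k := orderOf_dvd_of_pow_eq_one hk
  obtain ⟨j, -, hj⟩ := (Nat.dvd_prime_pow hs).mp h1
  rcases Nat.eq_zero_or_pos j with h0 | h0
  · rw [h0, pow_zero] at hj
    exact orderOf_eq_one_iff.mp hj
  · exact absurd (hj ▸ dvd_pow_self s h0.ne') hns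

/-- an `s'`-element of `L'` centralizes every `s`-subgroup of `L` that it normalizes. -/
theorem zt1_cent {L S : Subgroup G} {s : ℕ} (hs : s.Prime)
    (hnpc : HasNormalPComplement s ↥⁅L, L⁆) {e : G} (he : e ∈ ⁅L, L⁆) {n : ℕ}
    (hen : e ^ n = 1) (hcop : n.Coprime s) (hSL : S ≤ L) (hS : IsPGroup s S)
    (heS : e ∈ normalizer (S : Set G)) : ∀ y ∈ S, e * y = y * e := by
  intro y hy
  have h1 : e * y * e⁻¹ * y⁻¹ ∈ S :=
    S.mul_mem ((Subgroup.mem_normalizer_iff.mp heS y).mp hy) (S.inv_mem hy)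
  obtain ⟨k, hk⟩ := hS ⟨_, h1⟩
  have hk' : (e * y * e⁻¹ * y⁻¹) ^ s ^ k = 1 := by
    have := congrArg Subtype.val hk
    simpa using this
  have h2 := zt1_eq_one hs hk' (zt1_comm hs hnpc he (hSL hy) hen hcop)
  exact Helper68.bg123_comm_of_eq_one h2

/-- in a nilpotent subgroup the quotient of two `s`-elements is an `s`-element. -/
theorem zt1_nilp {K : Subgroup G} (hK : Group.IsNilpotent K) {s : ℕ} (hs : s.Prime) {a b : G}
    (ha : a ∈ K) (hb : b ∈ K) {i j : ℕ} (hai : a ^ s ^ i = 1) (hbj : b ^ s ^ j = 1) :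
    ∃ k, (b * a⁻¹) ^ s ^ k = 1 := by
  haveI := Fact.mk hs
  obtain ⟨P0⟩ : Nonempty (Sylow s ↥K) := inferInstance
  haveI hP0 : (P0 : Subgroup ↥K).Normal :=
    Sylow.normal_of_normalizerCondition Group.normalizerCondition_of_isNilpotent P0
  have key : ∀ (c : ↥K) (m : ℕ), c ^ s ^ m = 1 → c ∈ (P0 : Subgroup ↥K) := by
    intro c m hc
    have hz : IsPGroup s (zpowers c) := by
      rw [IsPGroup]
      rintro ⟨w, hw⟩
      obtain ⟨t, rfl⟩ := Subgroup.mem_zpowers_iff.mp hw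
      refine ⟨m, Subtype.ext ?_⟩
      simp only [Subgroup.coe_pow, Subgroup.coe_one]
      rw [← zpow_natCast, ← zpow_mul, mul_comm, zpow_mul, zpow_natCast, hc, one_zpow]
    have hsup : IsPGroup s (zpowers c ⊔ (P0 : Subgroup ↥K) : Subgroup ↥K) :=
      IsPGroup.to_sup_of_normal_right hz P0.2
    have h1 := P0.3 hsup le_sup_right
    have h2 : zpowers c ≤ (P0 : Subgroup ↥K) := by
      rw [← h1]; exact le_sup_left
    exact h2 (Subgroup.mem_zpowers c)
  have h1 := key ⟨a, ha⟩ i (Subtype.ext (by simpa using hai))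
  have h2 := key ⟨b, hb⟩ j (Subtype.ext (by simpa using hbj))
  have h3 : (⟨b, hb⟩ : ↥K) * (⟨a, ha⟩ : ↥K)⁻¹ ∈ (P0 : Subgroup ↥K) :=
    Subgroup.mul_mem _ h2 (Subgroup.inv_mem _ h1)
  obtain ⟨k, hk⟩ := P0.2 ⟨_, h3⟩
  refine ⟨k, ?_⟩
  have := congrArg Subtype.val (congrArg Subtype.val hk)
  simpa using this

/-- step (2) of `bg14_zt1`: `τ₂(L) ≠ ∅`. -/
theorem zt1_step2 (hG : IsMinSimpleOddOrder G) {L Es : Subgroup G} (hL : IsCoatom L)
    (hEs : IsComplIn Es (sigmaCore L) L) {s : ℕ} (hs : s.Prime) (hsL : s ∈ sigma L)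
    (hnpc : HasNormalPComplement s ↥⁅L, L⁆) {p : ℕ} (hp : p ∈ tau1 L) {x z : G} (hx : x ∈ Es)
    (hxo : orderOf x = p) (hz : z ∈ sigmaCore L) (hzo : orderOf z = s) (hxz : x * z = z * x)
    (hz' : z ∉ ⁅sigmaCore L, sigmaCore L⁆) (h2 : ∀ q : ℕ, q ∉ tau2 L) : False := by
  classical
  haveI := Fact.mk hs
  have hpp : p.Prime := hp.1
  have hU : BGUniq G := fun K hK h1 h2 => Cfsg.Agent.S1403.result hG K hK h1 h2
  have h28 : Helper1.BG1328 G := fun M hM E hE p hp P hPE hP R hRE hR =>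
    Cfsg.Agent.S1428.result hG M hM E hE p hp P hPE hP R hRE hR
  have hx1 : x ≠ 1 := by
    rintro rfl
    rw [orderOf_one] at hxo
    exact hpp.one_lt.ne hxo
  have hEsL : Es ≤ L := hEs.1
  have hEstop : Es ≠ ⊤ := fun h => hL.1 (top_le_iff.mp (h ▸ hEsL))
  haveI hsolv : Group.IsSolvable ↥Es := uq_isSolvable hG hEstop
  -- a Hall `τ₁`-subgroup of `Es` containing `x`
  obtain ⟨m, n, hmn, hcop, hm, hn⟩ :=
    exists_pi_factorization (tau1 L) (Nat.card Es) Nat.card_pos.ne'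
  have hKc : (Nat.card (zpowers (⟨x, hx⟩ : ↥Es))).Coprime n := by
    have h1 : orderOf (⟨x, hx⟩ : ↥Es) = p := by
      rw [← hxo, ← Subgroup.orderOf_coe]
    rw [Nat.card_zpowers, h1]
    exact (Nat.Prime.coprime_iff_not_dvd hpp).mpr (hn p hpp hp)
  obtain ⟨H, hH, hKH⟩ := Helper1.hall_le_aux (Nat.card Es) ↥Es m n rfl hmn hcop _ hKc
  obtain ⟨E1, hE1def⟩ : ∃ E1 : Subgroup G, E1 = H.map Es.subtype := ⟨_, rfl⟩
  have hE1 : IsPiHallOf (tau1 L) E1 Es := by
    rw [isPiHallOf_iff_card hmn hm hn]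
    refine ⟨hE1def ▸ Subgroup.map_subtype_le H, ?_⟩
    rw [hE1def, ← hH]
    exact Nat.card_congr
      (Subgroup.equivMapOfInjective H Es.subtype Es.subtype_injective).symm.toEquiv
  have hxE1 : x ∈ E1 := by
    rw [hE1def]
    exact ⟨⟨x, hx⟩, hKH (Subgroup.mem_zpowers _), rfl⟩
  obtain ⟨-, hcyc1, hcyc3⟩ := Cfsg.Agent.S1415.result hG L hL Es hEs
  have hE1c : IsCyclic E1 := hcyc1 E1 hE1
  obtain ⟨E3, hE3⟩ := Helper31.bg139_exists_hall hG hL hEs (tau3 L)
  obtain ⟨-, hE3der, hE3n⟩ := hcyc3 E3 hE3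
  obtain ⟨hcard, hcop31⟩ := Helper98.bg139_card_E hG hL hEs h2 hE1 hE3
  have hsup : E1 ⊔ E3 = Es := by
    have h1 := Helper51.card_sup_mul_card_inf_of_le_normalizer E1 E3 (hE1.1.trans hE3n)
    rw [Helper68.bg123_inf_eq_bot hcop31.symm, Subgroup.card_bot, mul_one] at h1
    refine Subgroup.eq_of_le_of_card_ge (sup_le hE1.1 hE3.1) ?_
    rw [h1, hcard, mul_comm]
  have hcopE : (Nat.card Es).Coprime (Nat.card (sigmaCore L)) :=
    Helper24.bg1217_coprime hG hU hL hEs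
  have hEsn : Es ≤ normalizer ((sigmaCore L : Subgroup G) : Set G) :=
    hEsL.trans (le_normalizer_piCoreOf (sigma L) L)
  obtain ⟨S1, hS1, hS1E⟩ := exists_invariant_sylow hEsn hcopE (Or.inl hsolv) s
  -- `E1` centralizes `z`
  have hE1z : ∀ y ∈ E1, y * z = z * y := by
    intro y hy
    by_cases hy1 : y = 1
    · rw [hy1, one_mul, mul_one]
    · have hxy : x * y = y * x := by
        have := (IsCyclic.isMulCommutative (α := ↥E1)).is_comm.comm ⟨x, hxE1⟩ ⟨y, hy⟩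
        exact congrArg Subtype.val this
      have hxτ : ∀ q : ℕ, q.Prime → q ∣ orderOf x → q ∈ tau1 L := by
        intro q hq hqd
        rw [hxo] at hqd
        rw [(Nat.prime_dvd_prime_iff_eq hq hpp).mp hqd]
        exact hp
      have hyτ : ∀ q : ℕ, q.Prime → q ∣ orderOf y → q ∈ tau1 L := by
        intro q hq hqd
        exact hE1.2.1 q hq (hqd.trans (Subgroup.orderOf_dvd_natCard E1 hy))
      have h := Helper1.bg139_prime_action hG h28 hL hEs hx (hE1.1 hy) hxy hx1 hy1 hxτ hyτ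
      have hzx : z ∈ sigmaCore L ⊓ centralizer ({x} : Set G) :=
        Subgroup.mem_inf.mpr ⟨hz, Helper49.bg14u_mem_cent_singleton hxz.symm⟩
      rw [h] at hzx
      exact mem_centralizer_iff.mp (Subgroup.mem_inf.mp hzx).2 y rfl
  have hXσ : zpowers z ≤ sigmaCore L := Subgroup.zpowers_le.mpr hz
  have hXp : IsPGroup s (zpowers z) :=
    IsPGroup.of_card (n := 1) (by rw [Nat.card_zpowers, hzo, pow_one])
  have hE1X : E1 ≤ normalizer ((zpowers z : Subgroup G) : Set G) := by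
    intro y hy
    apply Subgroup.centralizer_le_normalizer
    rw [mem_centralizer_iff]
    intro w hw
    obtain ⟨t, rfl⟩ := Subgroup.mem_zpowers_iff.mp hw
    exact (Commute.zpow_left (show Commute z y from (hE1z y hy).symm) t).eq
  have hE1n : E1 ≤ normalizer ((sigmaCore L : Subgroup G) : Set G) := hE1.1.trans hEsn
  have hcopE1 : (Nat.card E1).Coprime (Nat.card (sigmaCore L)) :=
    Nat.Coprime.coprime_dvd_left (Subgroup.card_dvd_of_le hE1.1) hcopE
  have hsolv1 : Group.IsSolvable ↥E1 := isSolvable_of_le hE1.1 hsolv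
  obtain ⟨S', hS', hXS', hS'E1⟩ :=
    exists_invariant_sylow_ge hE1n hcopE1 (Or.inl hsolv1) hXσ hXp hE1X
  obtain ⟨c, hc, hconj⟩ := exists_conj_invariant_sylow hE1n hcopE1 (Or.inl hsolv1) hS' hS1
    hS'E1 (hE1.1.trans hS1E)
  have hz'S1 : c * z * c⁻¹ ∈ S1 := by
    rw [← hconj]
    have := Subgroup.smul_mem_pointwise_smul z (MulAut.conj c) S' (hXS' (Subgroup.mem_zpowers z))
    simpa [MulAut.smul_def] using this
  have hS1L : S1 ≤ L := hS1.1.trans (piCoreOf_le (sigma L) L)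
  have hS1p : IsPGroup s S1 := isPGroup_of_mem_sylowSet hS1
  have hcopEs : (Nat.card Es).Coprime s := by
    rw [Nat.coprime_comm]
    exact (Nat.Prime.coprime_iff_not_dvd hs).mpr
      (fun h => bg12_not_sigma_of_dvd hG hU hL hEs hs h hsL)
  have hcE1 : ∀ y ∈ E1, y * (c * z * c⁻¹) = (c * z * c⁻¹) * y := by
    intro y hy
    have h1 : Commute y c := mem_centralizer_iff.mp hc.2 y hy
    have h2 : Commute y z := hE1z y hy
    exact ((h1.mul_right h2).mul_right h1.inv_right).eq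
  have hcE3 : ∀ e ∈ E3, e * (c * z * c⁻¹) = (c * z * c⁻¹) * e := by
    intro e he
    have heE : e ∈ Es := hE3.1 he
    have heL' : e ∈ ⁅L, L⁆ := Subgroup.commutator_mono hEsL hEsL (hE3der he)
    have hen : e ^ Nat.card Es = 1 := by
      have h := pow_card_eq_one' (G := ↥Es) (x := ⟨e, heE⟩)
      have h' := congrArg Subtype.val h
      rw [Subgroup.coe_pow] at h'
      exact h'
    exact zt1_cent hs hnpc heL' hen hcopEs hS1L hS1p (hS1E heE) _ hz'S1
  have hall : Es ≤ centralizer ({c * z * c⁻¹} : Set G) := by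
    rw [← hsup]
    refine sup_le ?_ ?_
    · intro y hy; exact Helper49.bg14u_mem_cent_singleton (hcE1 y hy)
    · intro e he; exact Helper49.bg14u_mem_cent_singleton (hcE3 e he)
  have hzc : c * z * c⁻¹ ∈ sigmaCore L ⊓ centralizer (Es : Set G) := by
    refine Subgroup.mem_inf.mpr ⟨hS1.1 hz'S1, ?_⟩
    rw [mem_centralizer_iff]
    intro e he
    exact (mem_centralizer_iff.mp (hall he) (c * z * c⁻¹) rfl).symm
  have h26 := (Cfsg.Agent.S1426.result hG L hL Es hEs).1 hzc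
  have hσn : sigmaCore L ≤ normalizer ((⁅sigmaCore L, sigmaCore L⁆ : Subgroup G) : Set G) :=
    le_normalizer_commutator (A := sigmaCore L) (K := sigmaCore L) le_normalizer
  have h3 := (Subgroup.mem_normalizer_iff.mp (hσn (inv_mem hc.1)) (c * z * c⁻¹)).mp h26
  apply hz'
  have e1 : c⁻¹ * (c * z * c⁻¹) * c⁻¹⁻¹ = z := by group
  rw [e1] at h3
  exact h3

/-- **LEMMA Z, case `p ∈ τ₁(L)`.**  `M ≠ L` maximal, `s ∈ τ₂(M)`, Sylow `s`-subgroups of `G`
nonabelian, `A ≤ E` elementary abelian of order `s²`, `A ≤ L`, `s ∈ σ(L)`, `X ≤ A` of order `s`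
with `C_{M_σ}(X) ≠ 1`, `P ≤ L` of order `p ∈ τ₁(L)` centralizing `X`: contradiction. -/
theorem bg14_zt1 (hG : IsMinSimpleOddOrder G) {M L E A X P : Subgroup G} (hM : IsCoatom M)
    (hL : IsCoatom L) (hne : L ≠ M) (hE : IsComplIn E (sigmaCore M) M) {s : ℕ} [Fact s.Prime]
    (hs : s ∈ tau2 M) (hS : ∀ S : Sylow s G, ¬ IsMulCommutative (S : Subgroup G))
    (hA : A ≤ E ∧ IsElementaryAbelian s A ∧ Nat.card A = s ^ 2) (hAL : A ≤ L)
    (hsL : s ∈ sigma L) (hXA : X ≤ A) (hX : Nat.card X = s)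
    (hXσ : sigmaCore M ⊓ centralizer (X : Set G) ≠ ⊥) {p : ℕ} (hp : p ∈ tau1 L) (hPL : P ≤ L)
    (hP : Nat.card P = p) (hPX : P ≤ centralizer (X : Set G)) : False := by
  classical
  have hsp : s.Prime := Fact.out
  have hpp : p.Prime := hp.1
  have hU : BGUniq G := fun K hK h1 h2 => Cfsg.Agent.S1403.result hG K hK h1 h2
  -- facts about `M`
  obtain ⟨-, ⟨hCA, -, -⟩, hXuniq⟩ := Cfsg.Agent.S1418.result hG M hM E hE s hs A hA
  obtain ⟨hCXM, -⟩ := hXuniq X hXA hX hXσ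
  have hML : sigmaCore M ⊓ L = ⊥ :=
    (Cfsg.Agent.S1417.result hG M hM s hs A ⟨hA.1.trans hE.1, hA.2.1, hA.2.2⟩).2.2.2.2.1
      L hL hne hAL
  have hτ2 : tau2 M = {s} := (Cfsg.Agent.S1419.result hG M hM E hE s hs hS A hA).1
  -- generators of `X` and `P`
  have hXL : X ≤ L := hXA.trans hAL
  have hXp : IsPGroup s X := IsPGroup.of_card (n := 1) (by rw [hX, pow_one])
  have hAp : IsPGroup s A := IsPGroup.of_card hA.2.2
  obtain ⟨z, hzX, hz1⟩ : ∃ z ∈ X, z ≠ 1 := by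
    by_contra hcon
    push Not at hcon
    have : X = ⊥ := (Subgroup.eq_bot_iff_forall X).mpr hcon
    rw [this, Subgroup.card_bot] at hX
    exact hsp.one_lt.ne hX
  have hzo : orderOf z = s := by
    have h1 : orderOf z ∣ s := hX ▸ Subgroup.orderOf_dvd_natCard X hzX
    rcases (Nat.dvd_prime hsp).mp h1 with h | h
    · exact absurd (orderOf_eq_one_iff.mp h) hz1
    · exact h
  have hzpow : zpowers z = X :=
    Subgroup.eq_of_le_of_card_ge (Subgroup.zpowers_le.mpr hzX) (by rw [Nat.card_zpowers, hzo, hX])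
  obtain ⟨x, hxP, hx1⟩ : ∃ x ∈ P, x ≠ 1 := by
    by_contra hcon
    push Not at hcon
    have : P = ⊥ := (Subgroup.eq_bot_iff_forall P).mpr hcon
    rw [this, Subgroup.card_bot] at hP
    exact hpp.one_lt.ne hP
  have hxo : orderOf x = p := by
    have h1 : orderOf x ∣ p := hP ▸ Subgroup.orderOf_dvd_natCard P hxP
    rcases (Nat.dvd_prime hpp).mp h1 with h | h
    · exact absurd (orderOf_eq_one_iff.mp h) hx1
    · exact h
  have hxz : x * z = z * x := (mem_centralizer_iff.mp (hPX hxP) z hzX).symm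
  have hzσ : z ∈ sigmaCore L := bg12_le_sigmaCore hG hU hL hsp hsL hXL hXp hzX
  -- `S1423` for `L`
  have h23 : s ∉ beta L ∧ ¬ X ≤ ⁅sigmaCore L, sigmaCore L⁆ := by
    obtain ⟨P0⟩ : Nonempty (Sylow s ↥(sigmaCore L)) := inferInstance
    by_contra hcon
    have hor : s ∈ beta L ∨ X ≤ ⁅sigmaCore L, sigmaCore L⁆ := by tauto
    exact hne ((Cfsg.Agent.S1423.result hG L hL s hsL X hXL hX P0 hor).1.2 M hM hCXM).symm
  have hz' : z ∉ ⁅sigmaCore L, sigmaCore L⁆ :=
    fun h => h23.2 (hzpow ▸ Subgroup.zpowers_le.mpr h)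
  have hnpc : HasNormalPComplement s ↥⁅L, L⁆ :=
    ((Cfsg.Agent.S1414.result hG L hL).2.2.2.2 s hsp hsL.2.1 h23.1).1
  -- a complement `Es` of `L_σ` containing `P`
  have hcopP : (Nat.card P).Coprime (Nat.card (sigmaCore L)) := by
    rw [hP]
    exact (Nat.Prime.coprime_iff_not_dvd hpp).mpr
      (fun h => hp.2.1 (mem_of_dvd_card_piCoreOf (sigma L) L hpp h))
  obtain ⟨Es, hEs, hPEs⟩ := Helper20.bg13_exists_compl_ge hG hU hL hPL hcopP
  have hEsL : Es ≤ L := hEs.1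
  -- step (2)
  have hτ : ∃ r, r ∈ tau2 L := by
    by_contra hcon
    push Not at hcon
    exact zt1_step2 hG hL hEs hsp hsL hnpc hp (hPEs hxP) hxo hzσ hzo hxz hz' hcon
  obtain ⟨r, hr⟩ := hτ
  haveI : Fact r.Prime := ⟨hr.1⟩
  obtain ⟨B, hBE, hB, hBc⟩ := Helper4.bg127_exists_in_compl hEs hr
  have hBL : B ≤ L := hBE.trans hEsL
  have hnil : Group.IsNilpotent (sigmaCore L) :=
    (Cfsg.Agent.S1417.result hG L hL r hr B ⟨hBL, hB, hBc⟩).1
  have hcopEs : (Nat.card Es).Coprime s := by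
    rw [Nat.coprime_comm]
    exact (Nat.Prime.coprime_iff_not_dvd hsp).mpr
      (fun h => bg12_not_sigma_of_dvd hG hU hL hEs hsp h hsL)
  have hLσn : L ≤ normalizer ((sigmaCore L : Subgroup G) : Set G) :=
    le_normalizer_piCoreOf (sigma L) L
  -- step (3): `Es'` centralizes `A`, hence lies in `M`
  have hE'M : (⁅Es, Es⁆ : Subgroup G) ≤ M := by
    intro e he
    have heEs : e ∈ Es := commutator_le_of_le_normalizer (A := Es) (K := Es) le_normalizer he
    have heL' : e ∈ ⁅L, L⁆ := Subgroup.commutator_mono hEsL hEsL he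
    have hen : e ^ Nat.card Es = 1 := by
      have h := pow_card_eq_one' (G := ↥Es) (x := ⟨e, heEs⟩)
      have h' := congrArg Subtype.val h
      rw [Subgroup.coe_pow] at h'
      exact h'
    refine (hCA ?_).1
    rw [mem_centralizer_iff]
    intro a ha
    have haσ : a ∈ sigmaCore L := bg12_le_sigmaCore hG hU hL hsp hsL hAL hAp ha
    have hbσ : e * a * e⁻¹ ∈ sigmaCore L :=
      (Subgroup.mem_normalizer_iff.mp (hLσn (hEsL heEs)) a).mp haσ
    have has : a ^ s ^ 1 = 1 := by rw [pow_one]; exact hA.2.1.2 a ha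
    have hbs : (e * a * e⁻¹) ^ s ^ 1 = 1 := by
      rw [conj_pow, has, mul_one, mul_inv_cancel]
    obtain ⟨k, hk⟩ := zt1_nilp hnil hsp haσ hbσ has hbs
    have h1 := zt1_eq_one hsp hk (zt1_comm hsp hnpc heL' (hAL ha) hen hcopEs)
    exact (Helper68.bg123_comm_of_eq_one h1).symm
  -- step (4): `B ≤ M`
  have hpr : p ≠ r := by
    rintro rfl
    exact hr.2.2.2 hp.2.2.2.2
  have hPnB : P ≤ normalizer (B : Set G) :=
    hPEs.trans (Cfsg.Agent.S1418.result hG L hL Es hEs r hr B ⟨hBE, hB, hBc⟩).1.1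
  have hcopPB : (Nat.card P).Coprime (Nat.card B) := by
    rw [hP, hBc]
    exact Nat.Coprime.pow_right 2 ((Nat.coprime_primes hpp hr.1).mpr hpr)
  have hPtop : P ≠ ⊤ := fun h => hL.1 (top_le_iff.mp (h ▸ hPL))
  have hPsolv : Group.IsSolvable ↥P := uq_isSolvable hG hPtop
  have hzP : z ∈ sigmaCore L ⊓ centralizer (P : Set G) := by
    refine Subgroup.mem_inf.mpr ⟨hzσ, ?_⟩
    rw [mem_centralizer_iff]
    intro w hw
    exact (mem_centralizer_iff.mp (hPX hw) z hzX).symm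
  have hBM : B ≤ M := by
    intro b hb
    obtain ⟨n, hn, c, hc, rfl⟩ :=
      exists_commutator_mul_fixed hPnB hcopPB (Or.inl hPsolv) hb
    have hnM : n ∈ M := hE'M (Subgroup.commutator_mono hBE hPEs hn)
    have hcB : c ∈ B := (Subgroup.mem_inf.mp hc).1
    have hcP : c ∈ centralizer (P : Set G) := (Subgroup.mem_inf.mp hc).2
    have hcM : c ∈ M := by
      by_cases hc1 : c = 1
      · rw [hc1]; exact M.one_mem
      · have hco : orderOf c = r := orderOf_eq_prime (hB.2 c hcB) hc1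
        have hR : (Nat.card (zpowers c)).Prime := by
          rw [Nat.card_zpowers, hco]; exact hr.1
        have hRE : zpowers c ≤ Es ⊓ centralizer (P : Set G) :=
          Subgroup.zpowers_le.mpr (Subgroup.mem_inf.mpr ⟨hBE hcB, hcP⟩)
        have h28 := Cfsg.Agent.S1428.result hG L hL Es hEs p hp P hPEs hP (zpowers c) hRE hR
        have hz2 := (Subgroup.mem_inf.mp (h28 hzP)).2
        have hcz : c * z = z * c := mem_centralizer_iff.mp hz2 c (Subgroup.mem_zpowers c)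
        apply hCXM
        rw [← hzpow, mem_centralizer_iff]
        intro w hw
        obtain ⟨t, rfl⟩ := Subgroup.mem_zpowers_iff.mp hw
        exact (Commute.zpow_left (show Commute z c from hcz.symm) t).eq
    exact M.mul_mem hnM hcM
  -- step (5)
  have hBp : IsPGroup r B := IsPGroup.of_card hBc
  have hrσM : r ∉ sigma M := by
    intro hrσ
    have h1 : B ≤ sigmaCore M ⊓ L := le_inf (bg12_le_sigmaCore hG hU hM hr.1 hrσ hBM hBp) hBL
    rw [hML, le_bot_iff] at h1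
    rw [h1, Subgroup.card_bot] at hBc
    have := Nat.one_lt_pow (n := 2) (by norm_num) hr.1.one_lt
    omega
  have hrτ : r ∈ tau2 M := by
    refine ⟨hr.1, hrσM, bg10_pRank_of_not_alpha M r hr.1
      (fun h => hrσM (bg10_alpha_sub_sigma hG hU hM h)), ?_⟩
    intro h1
    have h2 := bg12_card_le_of_pRankLE h1 hBM hB
    rw [hBc, pow_one] at h2
    have := hr.1.one_lt
    nlinarith
  rw [hτ2] at hrτ
  have hrs : r = s := hrτ
  exact hr.2.1 (hrs ▸ hsL)

end Cfsg.Agent.Helper72
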