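/-
CALL BG38 (helper22, row S1538), piece ZM (double by helper72): no element of
`Ẑ = K K* \ (K ∪ K*)` (up to `M`-conjugacy) is conjugated into `M` by an element outside `M`.
-/
import Mathlib
import Cfsg.Agent.S1366
import Cfsg.Agent.S1434
import Cfsg.Agent.Helper54.BG14T

set_option autoImplicit false

namespace Cfsg.Agent.Helper72

open Cfsg Subgroup

universe u

variable {G : Type u} [Group G] [Finite G]

/-- ZM. -/
theorem bg38_Z_not_conj (hG : IsMinSimpleOddOrder G) {M K U : Subgroup G} (hM : IsCoatom M)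
    (hKU : IsSigmaDecomposition M K U) (hK1 : K ≠ ⊥) {n w h : G} (hn : n ∈ M)
    (hz : n⁻¹ * w * n ∈ (↑(K ⊔ (sigmaCore M ⊓ centralizer (K : Set G))) : Set G) \
      (↑K ∪ ↑(sigmaCore M ⊓ centralizer (K : Set G))))
    (hh : h ∉ M) (hhw : h * w * h⁻¹ ∈ M) : False := by
  classical
  obtain ⟨Mstar, ⟨hMs, hKst, hKstH⟩, -⟩ := Cfsg.Agent.S1366.result hG M hM K U hKU hK1
  have h34 := (Cfsg.Agent.S1434.result hG M hM K U hKU hK1 Mstar hMs hKst hKstH).2.2.2.1
  have hg : (h * n)⁻¹ ∉ M := by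
    intro hc
    apply hh
    have h1 : h * n ∈ M := by
      have := M.inv_mem hc
      rwa [inv_inv] at this
    have h2 : h = h * n * n⁻¹ := by group
    rw [h2]
    exact M.mul_mem h1 (M.inv_mem hn)
  apply h34 (h * n)⁻¹ hg (n⁻¹ * w * n) hz
  rw [Cfsg.Agent.Helper54.bg14t_mem_map_conj]
  have h3 : (h * n)⁻¹⁻¹ * (n⁻¹ * w * n) * (h * n)⁻¹ = h * w * h⁻¹ := by group
  rw [h3]
  exact hhw

end Cfsg.Agent.Helper72
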