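/-
CALL BG17 (helper25), piece EXB (helper72): if `N_G(U)` normalizes `<w>`, `w ∈ U#`, then `w` has
no fixed point `≠ 1` on `M_σ`.
-/
import Cfsg.Agent.S1363
import Cfsg.Agent.Helper23.Trans
import Cfsg.Agent.Helper42.BG17EXA

set_option autoImplicit false

namespace Cfsg.Agent.Helper72

open Cfsg Subgroup

universe u

variable {G : Type u} [Group G] [Finite G]

/-- EXB. If `N_G(U)` normalizes `<w>`, `w ∈ U#`, then `w` has no fixed point `≠ 1` on `M_σ`. -/
theorem bg17_char_fpf (hG : IsMinSimpleOddOrder G) {M K U : Subgroup G} (hM : IsCoatom M)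
    (hKU : IsSigmaDecomposition M K U) (hK1 : K ≠ ⊥) {w : G} (hw : w ∈ U) (hw1 : w ≠ 1)
    (hN : normalizer (U : Set G) ≤ normalizer ((zpowers w : Subgroup G) : Set G)) :
    ∀ x ∈ sigmaCore M, w * x = x * w → x = 1 := by
  classical
  intro x hx hwx
  by_contra hx1
  obtain ⟨-, -, huniq⟩ := Cfsg.Agent.Helper42.bg17_fix_tau2 hG hM hKU hw hw1 hx hx1 hwx
  have hS : IsSimpleGroup G := hG.2.1
  have hz1 : zpowers w ≠ ⊥ := by
    rw [Ne, zpowers_eq_bot]
    exact hw1
  have hz2 : zpowers w ≠ ⊤ := by
    intro h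
    apply Cfsg.Agent.Helper23.centralizer_singleton_ne_top hG.2 hw1
    rw [eq_top_iff]
    intro g _
    rw [mem_centralizer_iff]
    intro y hy
    rw [Set.mem_singleton_iff] at hy
    subst hy
    have hg : g ∈ zpowers y := h ▸ mem_top g
    obtain ⟨n, rfl⟩ := mem_zpowers_iff.mp hg
    exact ((Commute.refl y).zpow_right n).eq
  have hNtop := Cfsg.Agent.Helper23.normalizer_ne_top_of_simple hz1 hz2
  obtain ⟨L, hL, hNL⟩ :=
    (eq_top_or_exists_le_coatom (normalizer ((zpowers w : Subgroup G) : Set G))).resolve_left hNtop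
  have hcN : centralizer ({w} : Set G) ≤ normalizer ((zpowers w : Subgroup G) : Set G) := by
    intro g hg
    have hgw : Commute g w := by
      have := mem_centralizer_iff.mp hg w (Set.mem_singleton w)
      exact this.symm
    rw [mem_normalizer_iff]
    intro h
    constructor
    · intro hh
      obtain ⟨n, rfl⟩ := mem_zpowers_iff.mp hh
      have h1 : g * w ^ n * g⁻¹ = w ^ n := by
        rw [(hgw.zpow_right n).eq]
        group
      rw [h1]
      exact hh
    · intro hh
      obtain ⟨n, hn⟩ := mem_zpowers_iff.mp hh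
      have h1 : h = w ^ n := by
        have h2 : g * h = g * w ^ n := by
          rw [(hgw.zpow_right n).eq, hn]
          group
        exact mul_left_cancel h2
      rw [h1]
      exact zpow_mem_zpowers w n
  have hLM : L = M := huniq L hL (hcN.trans hNL)
  have h3 : normalizer (U : Set G) ≤ M := hN.trans (hLM ▸ hNL)
  exact (Cfsg.Agent.S1363.result hG M hM K U hKU hK1).2 h3

end Cfsg.Agent.Helper72
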