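import Cfsg.Statements.S1383
import Cfsg.Agent.S1374
import Cfsg.Agent.S1375
import Cfsg.Agent.Helper7.BG90CJ

set_option autoImplicit false

namespace Cfsg.Agent.Helper72

open Cfsg Subgroup

universe u

variable {G : Type u} [Group G] [Finite G]

/-- NEWN (CALL BG83). -/
theorem bg83_N (hG : IsMinSimpleOddOrder G) {M : Subgroup G} (hM : IsCoatom M) {x g : G}
    (hx : x ∈ sigmaCore M) (hx1 : x ≠ 1) (hg : g ∉ M)
    (hxg : x ∈ M.map (MulAut.conj g).toMonoidHom) :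
    ∃ N : Subgroup G, IsCoatom N ∧ centralizer ({x} : Set G) ≤ N ∧
      sigmaCore N ⊓ centralizer ({x} : Set G) ≠ ⊥ ∧ IsComplIn (M ⊓ N) (sigmaCore N) N := by
  obtain ⟨_, R, _, hRc, huniq⟩ := Cfsg.Agent.S1374.result hG M hM x hx hx1
  obtain ⟨r, ⟨hrR, hrM⟩, _⟩ := huniq g hxg
  have hrC : r ∈ centralizer ({x} : Set G) := hRc.2.1 hrR
  have hrnM : r ∉ M := by
    intro hr
    apply hg
    apply Cfsg.Agent.Helper7.bg90cj_mem_of_map_conj_eq hG hM
    rw [← hrM]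
    ext y
    constructor
    · rintro ⟨a, ha, rfl⟩
      exact M.mul_mem (M.mul_mem hr ha) (M.inv_mem hr)
    · intro hy
      refine ⟨r⁻¹ * y * r, M.mul_mem (M.mul_mem (M.inv_mem hr) hy) hr, ?_⟩
      show r * (r⁻¹ * y * r) * r⁻¹ = y
      group
  have hxM : ¬ centralizer ({x} : Set G) ≤ M := fun h => hrnM (h hrC)
  obtain ⟨N, ⟨hN, hCN⟩, _, _, _, hc1, hc2, _⟩ := Cfsg.Agent.S1375.result hG M hM x hx hx1 hxM
  refine ⟨N, hN, hCN, ?_, hc2⟩
  intro hbot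
  apply hxM
  intro c hc
  obtain ⟨a, ha, b, hb, hcab⟩ := hc1.2.2.2 c hc
  rw [hbot, mem_bot] at hb
  rw [hcab, hb, mul_one]
  exact ha.1

end Cfsg.Agent.Helper72
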