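import Mathlib

/-!
# Subnormal subgroups: Wielandt's join theorem and the zipper lemma (helper72)

The first part (relative subnormality `SubnIn`, `MinOver`, `minOver_le_normalizer`) follows
helper63's development in `S3802.lean` (copied here so that this library is self-contained).
-/

set_option autoImplicit false

namespace Cfsg.Agent.Helper72

variable {X : Type*} [Group X]

theorem map_conj_mul (H : Subgroup X) (a b : X) :
    H.map (MulAut.conj (a * b)).toMonoidHom =
      (H.map (MulAut.conj b).toMonoidHom).map (MulAut.conj a).toMonoidHom := by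
  rw [Subgroup.map_map]
  congr 1
  ext y
  simp [MulAut.conj_apply, mul_assoc]

theorem map_conj_one (H : Subgroup X) :
    H.map (MulAut.conj (1 : X)).toMonoidHom = H := by
  ext y
  simp

theorem mem_normalizer_of_map_conj_eq (S : Subgroup X) (n : X)
    (h : S.map (MulAut.conj n).toMonoidHom = S) : n ∈ Subgroup.normalizer (S : Set X) := by
  rw [Subgroup.mem_normalizer_iff]
  intro y
  constructor
  · intro hy
    rw [← h]
    exact ⟨y, hy, by simp [MulAut.conj_apply]⟩
  · intro hy
    rw [← h] at hy
    obtain ⟨s, hs, hse⟩ := hy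
    have : s = y := by
      simpa [MulAut.conj_apply] using hse
    rw [← this]; exact hs

theorem map_conj_eq_of_mem_normalizer (S : Subgroup X) (n : X)
    (h : n ∈ Subgroup.normalizer (S : Set X)) : S.map (MulAut.conj n).toMonoidHom = S := by
  rw [Subgroup.mem_normalizer_iff] at h
  ext y
  rw [Subgroup.mem_map]
  constructor
  · rintro ⟨s, hs, rfl⟩
    simpa [MulAut.conj_apply] using (h s).mp hs
  · intro hy
    refine ⟨n⁻¹ * y * n, ?_, by simp [MulAut.conj_apply, mul_assoc]⟩
    rw [h]
    simpa [mul_assoc] using hy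

theorem le_normalizer_of_map_conj_le (D T : Subgroup X)
    (h : ∀ s ∈ T, D.map (MulAut.conj s).toMonoidHom ≤ D) :
    T ≤ Subgroup.normalizer (D : Set X) := by
  intro s hs
  rw [Subgroup.mem_normalizer_iff]
  intro x
  constructor
  · intro hx
    exact h s hs ⟨x, hx, by simp [MulAut.conj_apply]⟩
  · intro hx
    have := h s⁻¹ (T.inv_mem hs) ⟨s * x * s⁻¹, hx, rfl⟩
    simpa [MulAut.conj_apply, mul_assoc] using this

theorem map_symm_map (φ : X ≃* X) (S : Subgroup X) :
    (S.map φ.toMonoidHom).map φ.symm.toMonoidHom = S := by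
  rw [Subgroup.map_map]
  have : φ.symm.toMonoidHom.comp φ.toMonoidHom = MonoidHom.id X := by
    ext y; simp
  rw [this, Subgroup.map_id]

theorem map_map_symm (φ : X ≃* X) (S : Subgroup X) :
    (S.map φ.symm.toMonoidHom).map φ.toMonoidHom = S := by
  rw [Subgroup.map_map]
  have : φ.toMonoidHom.comp φ.symm.toMonoidHom = MonoidHom.id X := by
    ext y; simp
  rw [this, Subgroup.map_id]

/-- `SubnIn T N`: `N` is subnormal in `T`, by a chain descending from `T`. -/
inductive SubnIn : Subgroup X → Subgroup X → Prop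
  | refl (T : Subgroup X) : SubnIn T T
  | step (T T₁ N : Subgroup X) (h1 : T₁ ≤ T) (h2 : T ≤ Subgroup.normalizer (T₁ : Set X))
      (h3 : SubnIn T₁ N) : SubnIn T N

theorem SubnIn.le {T N : Subgroup X} (h : SubnIn T N) : N ≤ T := by
  induction h with
  | refl T => exact le_rfl
  | step T T₁ N h1 h2 h3 ih => exact ih.trans h1

theorem SubnIn.of_normal {T K N : Subgroup X} (h : SubnIn T K) (hNK : N ≤ K)
    (hK : K ≤ Subgroup.normalizer (N : Set X)) : SubnIn T N := by
  induction h with
  | refl T => exact SubnIn.step T N N hNK hK (SubnIn.refl N)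
  | step T T₁ K h1 h2 h3 ih => exact SubnIn.step T T₁ N h1 h2 (ih hNK hK)

theorem subnIn_of_isSubnormal {N : Subgroup X} (h : N.IsSubnormal) : SubnIn ⊤ N := by
  induction h with
  | top => exact SubnIn.refl ⊤
  | step H K h_le hSubn hN ih =>
    exact ih.of_normal h_le ((Subgroup.normal_subgroupOf_iff_le_normalizer h_le).mp hN)

theorem SubnIn.sup {T N : Subgroup X} (K : Subgroup X) [K.Normal] (h : SubnIn T N) :
    SubnIn (T ⊔ K) (N ⊔ K) := by
  induction h with
  | refl T => exact SubnIn.refl _
  | step T T₁ N h1 h2 h3 ih =>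
    refine SubnIn.step _ (T₁ ⊔ K) _ (sup_le_sup_right h1 K) ?_ ih
    apply sup_le
    · intro s hs
      apply mem_normalizer_of_map_conj_eq
      rw [Subgroup.map_sup, map_conj_eq_of_mem_normalizer T₁ s (h2 hs),
        map_conj_eq_of_mem_normalizer K s
          (by rw [Subgroup.normalizer_eq_top K]; exact Subgroup.mem_top s)]
    · exact le_sup_right.trans Subgroup.le_normalizer

/-- `B` is minimal among the `T`-invariant subgroups of `T` properly containing `K`. -/
def MinOver (K T B : Subgroup X) : Prop :=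
  K < B ∧ B ≤ T ∧ T ≤ Subgroup.normalizer (B : Set X) ∧
    ∀ C : Subgroup X, K < C → C ≤ B → T ≤ Subgroup.normalizer (C : Set X) → C = B

theorem exists_minOver [Finite X] (K T : Subgroup X) :
    ∀ (n : ℕ) (E : Subgroup X), Nat.card E ≤ n → K < E → E ≤ T →
      T ≤ Subgroup.normalizer (E : Set X) → ∃ C, C ≤ E ∧ MinOver K T C := by
  intro n
  induction n with
  | zero =>
    intro E hE
    have := Nat.card_pos (α := E)
    omega
  | succ n ih =>
    intro E hcard hKE hET hTE
    by_cases hmin : ∀ C : Subgroup X, K < C → C ≤ E →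
        T ≤ Subgroup.normalizer (C : Set X) → C = E
    · exact ⟨E, le_rfl, hKE, hET, hTE, hmin⟩
    · push Not at hmin
      obtain ⟨C, hKC, hCE, hTC, hne⟩ := hmin
      have hcardlt : Nat.card C < Nat.card E := by
        by_contra hge
        exact hne (Subgroup.eq_of_le_of_card_ge hCE (by omega))
      obtain ⟨C', hC'C, hC'⟩ := ih C (by omega) hKC (hCE.trans hET) hTC
      exact ⟨C', hC'C.trans hCE, hC'⟩

theorem MinOver.map {K T B : Subgroup X} (h : MinOver K T B) (φ : X ≃* X) :
    MinOver (K.map φ.toMonoidHom) (T.map φ.toMonoidHom) (B.map φ.toMonoidHom) := by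
  refine ⟨(Subgroup.map_lt_map_iff_of_injective φ.injective).mpr h.1, Subgroup.map_mono h.2.1,
    (Subgroup.map_mono h.2.2.1).trans (Subgroup.le_normalizer_map _), ?_⟩
  intro C' hKC' hC'B hTC'
  have h1 : K < C'.map φ.symm.toMonoidHom := by
    have := (Subgroup.map_lt_map_iff_of_injective (f := φ.symm.toMonoidHom) φ.symm.injective).mpr hKC'
    rwa [map_symm_map] at this
  have h2 : C'.map φ.symm.toMonoidHom ≤ B := by
    have := Subgroup.map_mono (f := φ.symm.toMonoidHom) hC'B
    rwa [map_symm_map] at this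
  have h3 : T ≤ Subgroup.normalizer ((C'.map φ.symm.toMonoidHom : Subgroup X) : Set X) := by
    have := (Subgroup.map_mono (f := φ.symm.toMonoidHom) hTC').trans
      (Subgroup.le_normalizer_map _)
    rwa [map_symm_map] at this
  have h4 := h.2.2.2 _ h1 h2 h3
  rw [← h4, map_map_symm]

/-- A minimal normal subgroup (over `K`) normalizes every subnormal subgroup (containing `K`). -/
theorem minOver_le_normalizer [Finite X] (K : Subgroup X) [K.Normal] {T N : Subgroup X}
    (h : SubnIn T N) (hKN : K ≤ N) :
    ∀ B, MinOver K T B → B ≤ Subgroup.normalizer (N : Set X) := by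
  induction h with
  | refl T =>
    intro B hB
    exact hB.2.1.trans Subgroup.le_normalizer
  | step T T₁ N h1 h2 h3 ih =>
    intro B hB
    have ih' := ih hKN
    have hNT₁ : N ≤ T₁ := h3.le
    by_cases hcase : B ⊓ T₁ ≤ K
    · have key : ∀ b ∈ B, ∀ n ∈ N, b * n * b⁻¹ ∈ N := by
        intro b hb n hn
        have hnT : n ∈ T := h1 (hNT₁ hn)
        have hbT : b ∈ T := hB.2.1 hb
        have hc1 : b * n * b⁻¹ * n⁻¹ ∈ B := by
          have : n * b⁻¹ * n⁻¹ ∈ B :=
            (Subgroup.mem_normalizer_iff.mp (hB.2.2.1 hnT) b⁻¹).mp (B.inv_mem hb)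
          have h' := B.mul_mem hb this
          simpa [mul_assoc] using h'
        have hc2 : b * n * b⁻¹ * n⁻¹ ∈ T₁ := by
          have : b * n * b⁻¹ ∈ T₁ :=
            (Subgroup.mem_normalizer_iff.mp (h2 hbT) n).mp (hNT₁ hn)
          exact T₁.mul_mem this (T₁.inv_mem (hNT₁ hn))
        have hc3 : b * n * b⁻¹ * n⁻¹ ∈ N := hKN (hcase ⟨hc1, hc2⟩)
        have := N.mul_mem hc3 hn
        simpa using this
      intro b hb
      rw [Subgroup.mem_normalizer_iff]
      intro n
      constructor
      · exact key b hb n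
      · intro hn
        have := key b⁻¹ (B.inv_mem hb) _ hn
        simpa [mul_assoc] using this
    · have hKB : K ≤ B := hB.1.le
      have hKE : K < B ⊓ T₁ := lt_of_le_not_ge (le_inf hKB (hKN.trans hNT₁)) hcase
      have hTE : T₁ ≤ Subgroup.normalizer ((B ⊓ T₁ : Subgroup X) : Set X) := by
        intro s hs
        rw [Subgroup.mem_normalizer_iff]
        intro x
        have hsB := Subgroup.mem_normalizer_iff.mp (hB.2.2.1 (h1 hs)) x
        have hsT := Subgroup.mem_normalizer_iff.mp (Subgroup.le_normalizer hs) x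
        rw [Subgroup.mem_inf, Subgroup.mem_inf, hsB, hsT]
      obtain ⟨C, hCE, hC⟩ := exists_minOver K T₁ _ (B ⊓ T₁) le_rfl hKE inf_le_right hTE
      have hCt : ∀ t ∈ T, MinOver K T₁ (C.map (MulAut.conj t).toMonoidHom) := by
        intro t ht
        have := hC.map (MulAut.conj t)
        rwa [map_conj_eq_of_mem_normalizer K t
            (by rw [Subgroup.normalizer_eq_top K]; exact Subgroup.mem_top t),
          map_conj_eq_of_mem_normalizer T₁ t (h2 ht)] at this
      have hDB : (⨆ t : T, C.map (MulAut.conj (t : X)).toMonoidHom) ≤ B := by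
        apply iSup_le
        intro t
        calc C.map (MulAut.conj (t : X)).toMonoidHom
            ≤ B.map (MulAut.conj (t : X)).toMonoidHom := Subgroup.map_mono (hCE.trans inf_le_left)
          _ = B := map_conj_eq_of_mem_normalizer B t (hB.2.2.1 t.2)
      have hKD : K < (⨆ t : T, C.map (MulAut.conj (t : X)).toMonoidHom) := by
        have h1' : C ≤ (⨆ t : T, C.map (MulAut.conj (t : X)).toMonoidHom) := by
          calc C = C.map (MulAut.conj ((1 : T) : X)).toMonoidHom := by
                rw [Subgroup.coe_one, map_conj_one]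
            _ ≤ _ := le_iSup (fun t : T => C.map (MulAut.conj (t : X)).toMonoidHom) (1 : T)
        exact lt_of_lt_of_le hC.1 h1'
      have hTD : T ≤ Subgroup.normalizer
          (((⨆ t : T, C.map (MulAut.conj (t : X)).toMonoidHom) : Subgroup X) : Set X) := by
        apply le_normalizer_of_map_conj_le
        intro s hs
        rw [Subgroup.map_iSup]
        apply iSup_le
        intro t
        rw [← map_conj_mul]
        exact le_iSup (fun t : T => C.map (MulAut.conj (t : X)).toMonoidHom) (⟨s, hs⟩ * t)
      have hDN : (⨆ t : T, C.map (MulAut.conj (t : X)).toMonoidHom) ≤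
          Subgroup.normalizer (N : Set X) := iSup_le (fun t => ih' _ (hCt t t.2))
      have hDeq := hB.2.2.2 _ hKD hDB hTD
      rw [← hDeq]
      exact hDN


/-- Isaacs FGT Theorem 2.6: a minimal normal subgroup normalizes every subnormal subgroup. -/
theorem minNormal_le_normalizer [Finite X] {N B : Subgroup X} (hN : N.IsSubnormal)
    (hB : MinOver ⊥ ⊤ B) : B ≤ Subgroup.normalizer (N : Set X) :=
  minOver_le_normalizer ⊥ (subnIn_of_isSubnormal hN) bot_le B hB

universe u

theorem isSubnormal_sup_aux : ∀ (n : ℕ) (G : Type u) [Group G] [Finite G], Nat.card G = n →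
    ∀ H K : Subgroup G, H.IsSubnormal → K.IsSubnormal → (H ⊔ K).IsSubnormal := by
  intro n
  induction n using Nat.strong_induction_on with
  | _ n ih =>
    intro G _ _ hn H K hH hK
    by_cases hbt : (⊥ : Subgroup G) = ⊤
    · have : H ⊔ K = ⊤ := by
        rw [eq_top_iff, ← hbt]; exact bot_le
      rw [this]; exact Subgroup.IsSubnormal.top
    · have hlt : (⊥ : Subgroup G) < ⊤ := lt_of_le_of_ne bot_le hbt
      obtain ⟨M, -, hM⟩ := exists_minOver (⊥ : Subgroup G) ⊤ _ ⊤ le_rfl hlt le_rfl
        Subgroup.le_normalizer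
      have hMn : M.Normal := Subgroup.normalizer_eq_top_iff.mp (top_le_iff.mp hM.2.2.1)
      have hMH := minNormal_le_normalizer hH hM
      have hMK := minNormal_le_normalizer hK hM
      have hcard : Nat.card (G ⧸ M) < n := by
        rw [← hn, Subgroup.card_eq_card_quotient_mul_card_subgroup M]
        have h1 : 1 < Nat.card M := by
          rw [Subgroup.one_lt_card_iff_ne_bot]; exact hM.1.ne'
        have h2 : 0 < Nat.card (G ⧸ M) := Nat.card_pos
        nlinarith
      have hq := ih _ hcard (G ⧸ M) rfl (H.map (QuotientGroup.mk' M))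
        (K.map (QuotientGroup.mk' M)) hH.quotient hK.quotient
      rw [← Subgroup.map_sup] at hq
      have hc := hq.comap (QuotientGroup.mk' M)
      rw [Subgroup.comap_map_eq, QuotientGroup.ker_mk'] at hc
      refine Subgroup.IsSubnormal.step _ _ le_sup_left hc
        (Subgroup.normal_subgroupOf_of_le_normalizer ?_)
      refine sup_le Subgroup.le_normalizer ?_
      intro m hm
      apply mem_normalizer_of_map_conj_eq
      rw [Subgroup.map_sup, map_conj_eq_of_mem_normalizer H m (hMH hm),
        map_conj_eq_of_mem_normalizer K m (hMK hm)]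

/-- **Wielandt's join theorem**: the join of two subnormal subgroups of a finite group is
subnormal. -/
theorem isSubnormal_sup {G : Type*} [Group G] [Finite G] {H K : Subgroup G}
    (hH : H.IsSubnormal) (hK : K.IsSubnormal) : (H ⊔ K).IsSubnormal :=
  isSubnormal_sup_aux _ G rfl H K hH hK

theorem SubnIn.trans {T K N : Subgroup X} (h : SubnIn T K) (h' : SubnIn K N) : SubnIn T N := by
  induction h with
  | refl T => exact h'
  | step T T₁ K h1 h2 h3 ih => exact SubnIn.step T T₁ N h1 h2 (ih h')

theorem SubnIn.isSubnormal_of {T N : Subgroup X} (h : SubnIn T N) :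
    T.IsSubnormal → N.IsSubnormal := by
  induction h with
  | refl T => exact id
  | step T T₁ N h1 h2 h3 ih =>
    intro hT
    exact ih (Subgroup.IsSubnormal.step T₁ T h1 hT
      (Subgroup.normal_subgroupOf_of_le_normalizer h2))

theorem SubnIn.isSubnormal_subgroupOf_of {T N : Subgroup X} (h : SubnIn T N) :
    ∀ T' : Subgroup X, T ≤ T' → (T.subgroupOf T').IsSubnormal →
      (N.subgroupOf T').IsSubnormal := by
  induction h with
  | refl T => intro T' _ h; exact h
  | step T T₁ N h1 h2 h3 ih =>
    intro T' hTT' hT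
    apply ih T' (h1.trans hTT')
    refine Subgroup.IsSubnormal.step _ (T.subgroupOf T') ?_ hT
      (Subgroup.normal_subgroupOf_of_le_normalizer ?_)
    · intro x hx
      exact h1 hx
    · intro x hx
      rw [Subgroup.mem_normalizer_iff]
      intro y
      exact Subgroup.mem_normalizer_iff.mp (h2 hx) y

theorem SubnIn.isSubnormal_subgroupOf {T N : Subgroup X} (h : SubnIn T N) :
    (N.subgroupOf T).IsSubnormal := by
  apply h.isSubnormal_subgroupOf_of T le_rfl
  rw [Subgroup.subgroupOf_self]
  exact Subgroup.IsSubnormal.top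

theorem subnIn_of_isSubnormal_map {T : Subgroup X} {H : Subgroup T} (h : H.IsSubnormal) :
    SubnIn T (H.map T.subtype) := by
  induction h with
  | top =>
    rw [← MonoidHom.range_eq_map, Subgroup.range_subtype]
    exact SubnIn.refl T
  | step H K h_le hSubn hN ih =>
    refine ih.of_normal (Subgroup.map_mono h_le) ?_
    rw [Subgroup.normal_subgroupOf_iff_le_normalizer h_le] at hN
    exact (Subgroup.map_mono hN).trans (Subgroup.le_normalizer_map _)

theorem subnIn_of_isSubnormal_subgroupOf {T N : Subgroup X} (hNT : N ≤ T)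
    (h : (N.subgroupOf T).IsSubnormal) : SubnIn T N := by
  have := subnIn_of_isSubnormal_map h
  rwa [Subgroup.map_subgroupOf_eq_of_le hNT] at this

/-- The relative form of Wielandt's join theorem. -/
theorem SubnIn.join [Finite X] {T H K : Subgroup X} (hH : SubnIn T H) (hK : SubnIn T K) :
    SubnIn T (H ⊔ K) := by
  have h3 := isSubnormal_sup hH.isSubnormal_subgroupOf hK.isSubnormal_subgroupOf
  rw [← Subgroup.subgroupOf_sup hH.le hK.le] at h3
  exact subnIn_of_isSubnormal_subgroupOf (sup_le hH.le hK.le) h3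

theorem SubnIn.map {T N : Subgroup X} (h : SubnIn T N) (φ : X ≃* X) :
    SubnIn (T.map φ.toMonoidHom) (N.map φ.toMonoidHom) := by
  induction h with
  | refl T => exact SubnIn.refl _
  | step T T₁ N h1 h2 h3 ih =>
    exact SubnIn.step _ (T₁.map φ.toMonoidHom) _ (Subgroup.map_mono h1)
      ((Subgroup.map_mono h2).trans (Subgroup.le_normalizer_map _)) ih

/-- If `S` is subnormal but not normal in `T`, some conjugate of `S` by an element of `T`
differs from `S` and normalizes `S`. -/
theorem SubnIn.exists_conj {T S : Subgroup X} (h : SubnIn T S)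
    (hn : ¬ T ≤ Subgroup.normalizer (S : Set X)) :
    ∃ x ∈ T, S.map (MulAut.conj x).toMonoidHom ≠ S ∧
      S.map (MulAut.conj x).toMonoidHom ≤ Subgroup.normalizer (S : Set X) := by
  induction h with
  | refl T => exact absurd Subgroup.le_normalizer hn
  | step T T₁ S h1 h2 h3 ih =>
    by_cases hT₁ : T₁ ≤ Subgroup.normalizer (S : Set X)
    · obtain ⟨x, hxT, hx⟩ := SetLike.not_le_iff_exists.mp hn
      refine ⟨x, hxT, fun he => hx (mem_normalizer_of_map_conj_eq S x he), ?_⟩
      calc S.map (MulAut.conj x).toMonoidHom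
          ≤ T₁.map (MulAut.conj x).toMonoidHom := Subgroup.map_mono h3.le
        _ = T₁ := map_conj_eq_of_mem_normalizer T₁ x (h2 hxT)
        _ ≤ _ := hT₁
    · obtain ⟨x, hx, h⟩ := ih hT₁
      exact ⟨x, h1 hx, h⟩

theorem exists_max_lt [Finite X] {H₀ K : Subgroup X} (h : H₀ < K) :
    ∃ M, H₀ ≤ M ∧ M < K ∧ ∀ H, M ≤ H → H < K → H = M := by
  obtain ⟨M, hM, hmax⟩ := Finite.exists_le_maximal (p := fun H : Subgroup X => H < K) h
  exact ⟨M, hM, hmax.1, fun H hMH hHK => le_antisymm (hmax.2 hHK hMH) hMH⟩

theorem card_lt_of_lt [Finite X] {H K : Subgroup X} (h : H < K) : Nat.card H < Nat.card K := by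
  by_contra hge
  exact h.ne (Subgroup.eq_of_le_of_card_ge h.le (by omega))

theorem map_conj_inv_map_conj (H : Subgroup X) (x : X) :
    (H.map (MulAut.conj x).toMonoidHom).map (MulAut.conj x⁻¹).toMonoidHom = H := by
  rw [← map_conj_mul, inv_mul_cancel, map_conj_one]

theorem map_conj_map_conj_inv (H : Subgroup X) (x : X) :
    (H.map (MulAut.conj x⁻¹).toMonoidHom).map (MulAut.conj x).toMonoidHom = H := by
  rw [← map_conj_mul, mul_inv_cancel, map_conj_one]

theorem map_conj_lt_of_mem {H K : Subgroup X} (h : H < K) {x : X} (hx : x ∈ K) :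
    H.map (MulAut.conj x).toMonoidHom < K := by
  have := (Subgroup.map_lt_map_iff_of_injective (f := (MulAut.conj x).toMonoidHom)
    (MulAut.conj x).injective).mpr h
  rwa [map_conj_eq_of_mem_normalizer K x (Subgroup.le_normalizer hx)] at this

theorem map_conj_le_of_mem {H K : Subgroup X} (h : H ≤ K) {x : X} (hx : x ∈ K) :
    H.map (MulAut.conj x).toMonoidHom ≤ K :=
  (Subgroup.map_mono h).trans (map_conj_eq_of_mem_normalizer K x (Subgroup.le_normalizer hx)).le

/-- **Wielandt's zipper lemma** (relative form): if `S` is subnormal in every proper subgroup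
of `K` containing it but not in `K`, then `S` lies in a unique maximal subgroup of `K`. -/
theorem zipper [Finite X] (K : Subgroup X) : ∀ (n : ℕ) (S : Subgroup X), S ≤ K →
    Nat.card K - Nat.card S ≤ n → (∀ H, S ≤ H → H < K → SubnIn H S) → ¬ SubnIn K S →
    ∃ M, M < K ∧ ∀ H, S ≤ H → H < K → H ≤ M := by
  intro n
  induction n with
  | zero =>
    intro S hSK hcard _ hns
    exfalso; apply hns
    have : S = K := Subgroup.eq_of_le_of_card_ge hSK (by omega)
    rw [this]; exact SubnIn.refl K
  | succ n ih =>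
    intro S hSK hcard hall hns
    have hnotnormal : ¬ K ≤ Subgroup.normalizer (S : Set X) :=
      fun h => hns (SubnIn.step K S S hSK h (SubnIn.refl S))
    have hNK : Subgroup.normalizer (S : Set X) ⊓ K < K :=
      lt_of_le_of_ne inf_le_right (fun h => hnotnormal (inf_eq_right.mp h))
    obtain ⟨M, hNM, hMK, hMmax⟩ := exists_max_lt hNK
    refine ⟨M, hMK, ?_⟩
    intro H hSH hHK
    obtain ⟨K', hHK', hK'K, hK'max⟩ := exists_max_lt hHK
    suffices K' = M by rw [← this]; exact hHK'
    have hSK' : S ≤ K' := hSH.trans hHK'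
    have hsub : SubnIn K' S := hall K' hSK' hK'K
    by_cases hnorm : K' ≤ Subgroup.normalizer (S : Set X)
    · exact (hK'max M ((le_inf hnorm hK'K.le).trans hNM) hMK).symm
    · obtain ⟨x, hxK', hxne, hxN⟩ := hsub.exists_conj hnorm
      have hxK : x ∈ K := hK'K.le hxK'
      have hSxK' : S.map (MulAut.conj x).toMonoidHom ≤ K' := map_conj_le_of_mem hSK' hxK'
      have hST : S < S ⊔ S.map (MulAut.conj x).toMonoidHom := by
        refine lt_of_le_of_ne le_sup_left (fun h => hxne ?_)
        have hle : S.map (MulAut.conj x).toMonoidHom ≤ S := le_sup_right.trans h.symm.le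
        exact Subgroup.eq_of_le_of_card_ge hle
          (by rw [Subgroup.card_map_of_injective (MulAut.conj x).injective])
      have hTK' : S ⊔ S.map (MulAut.conj x).toMonoidHom ≤ K' := sup_le hSK' hSxK'
      have hTN : S ⊔ S.map (MulAut.conj x).toMonoidHom ≤ Subgroup.normalizer (S : Set X) :=
        sup_le Subgroup.le_normalizer hxN
      have hTM : S ⊔ S.map (MulAut.conj x).toMonoidHom ≤ M :=
        (le_inf hTN (hTK'.trans hK'K.le)).trans hNM
      have hTall : ∀ H, S ⊔ S.map (MulAut.conj x).toMonoidHom ≤ H → H < K →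
          SubnIn H (S ⊔ S.map (MulAut.conj x).toMonoidHom) := by
        intro H hTH hHK
        have h1 : SubnIn H S := hall H (le_sup_left.trans hTH) hHK
        have h2 : SubnIn H (S.map (MulAut.conj x).toMonoidHom) := by
          have hS' : S ≤ H.map (MulAut.conj x⁻¹).toMonoidHom := by
            have := Subgroup.map_mono (f := (MulAut.conj x⁻¹).toMonoidHom)
              (le_sup_right.trans hTH)
            rwa [map_conj_inv_map_conj] at this
          have hH' : H.map (MulAut.conj x⁻¹).toMonoidHom < K :=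
            map_conj_lt_of_mem hHK (K.inv_mem hxK)
          have := (hall _ hS' hH').map (MulAut.conj x)
          rwa [map_conj_map_conj_inv] at this
        exact h1.join h2
      have hTns : ¬ SubnIn K (S ⊔ S.map (MulAut.conj x).toMonoidHom) :=
        fun h => hns (h.of_normal le_sup_left hTN)
      have hcardT : Nat.card K - Nat.card (S ⊔ S.map (MulAut.conj x).toMonoidHom : Subgroup X) ≤ n := by
        have h1 := card_lt_of_lt hST
        have h2 := Subgroup.card_le_of_le (hTK'.trans hK'K.le)
        omega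
      obtain ⟨M', hM'K, hM'⟩ := ih _ (hTK'.trans hK'K.le) hcardT hTall hTns
      have e1 : M' = M := hMmax M' (hM' M hTM hMK) hM'K
      have e2 : M' = K' := hK'max M' (hM' K' hTK' hK'K) hM'K
      rw [← e2, e1]

/-- **Wielandt's subnormality criterion**, in the sharpened form where only conjugates of `A` by
conjugates of elements of `A` are used (relative form). -/
theorem subnIn_of_forall_conj [Finite X] (A : Subgroup X) : ∀ (n : ℕ) (K : Subgroup X),
    Nat.card K ≤ n → A ≤ K →
    (∀ a ∈ A, ∀ g ∈ K, SubnIn (A ⊔ A.map (MulAut.conj (g⁻¹ * a * g)).toMonoidHom) A) →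
    SubnIn K A := by
  intro n
  induction n with
  | zero =>
    intro K hK
    have := Nat.card_pos (α := K)
    omega
  | succ n ih =>
    intro K hcard hAK hyp
    by_contra hns
    have hall : ∀ H, A ≤ H → H < K → SubnIn H A := by
      intro H hAH hHK
      refine ih H ?_ hAH (fun a ha g hg => hyp a ha g (hHK.le hg))
      have := card_lt_of_lt hHK
      omega
    obtain ⟨M, hMK, hM⟩ := zipper K _ A hAK le_rfl hall hns
    have hAltK : A < K := lt_of_le_of_ne hAK (fun h => hns (h ▸ SubnIn.refl _))
    have hAM : A ≤ M := hM A le_rfl hAltK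
    have hconj : ∀ a ∈ A, ∀ g ∈ K, g⁻¹ * a * g ∈ Subgroup.normalizer (M : Set X) := by
      intro a ha g hg
      have hxK : g⁻¹ * a * g ∈ K := K.mul_mem (K.mul_mem (K.inv_mem hg) (hAK ha)) hg
      have hJK : A ⊔ A.map (MulAut.conj (g⁻¹ * a * g)).toMonoidHom ≤ K :=
        sup_le hAK (map_conj_le_of_mem hAK hxK)
      have hJlt : A ⊔ A.map (MulAut.conj (g⁻¹ * a * g)).toMonoidHom < K :=
        lt_of_le_of_ne hJK (fun h => hns (h ▸ hyp a ha g hg))
      have hAxM : A.map (MulAut.conj (g⁻¹ * a * g)).toMonoidHom ≤ M :=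
        le_sup_right.trans (hM _ le_sup_left hJlt)
      have h1 : A ≤ M.map (MulAut.conj (g⁻¹ * a * g)⁻¹).toMonoidHom := by
        have := Subgroup.map_mono (f := (MulAut.conj (g⁻¹ * a * g)⁻¹).toMonoidHom) hAxM
        rwa [map_conj_inv_map_conj] at this
      have h2 : M.map (MulAut.conj (g⁻¹ * a * g)⁻¹).toMonoidHom < K :=
        map_conj_lt_of_mem hMK (K.inv_mem hxK)
      have h3 : M.map (MulAut.conj (g⁻¹ * a * g)⁻¹).toMonoidHom ≤ M := hM _ h1 h2
      have h4 : M.map (MulAut.conj (g⁻¹ * a * g)⁻¹).toMonoidHom = M :=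
        Subgroup.eq_of_le_of_card_ge h3
          (by rw [Subgroup.card_map_of_injective (MulAut.conj (g⁻¹ * a * g)⁻¹).injective])
      have h5 := mem_normalizer_of_map_conj_eq M _ h4
      have h6 := (Subgroup.normalizer (M : Set X)).inv_mem h5
      rwa [inv_inv] at h6
    by_cases hMn : K ≤ Subgroup.normalizer (M : Set X)
    · exact hns (SubnIn.step K M A hMK.le hMn (hall M hAM hMK))
    · have hNM : Subgroup.normalizer (M : Set X) ⊓ K ≤ M :=
        hM _ (le_inf (hAM.trans Subgroup.le_normalizer) hAK)
          (lt_of_le_of_ne inf_le_right (fun h => hMn (inf_eq_right.mp h)))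
      have hCM : Subgroup.closure {y | ∃ a ∈ A, ∃ g ∈ K, y = g⁻¹ * a * g} ≤ M := by
        rw [Subgroup.closure_le]
        rintro y ⟨a, ha, g, hg, rfl⟩
        exact hNM ⟨hconj a ha g hg, K.mul_mem (K.mul_mem (K.inv_mem hg) (hAK ha)) hg⟩
      have hAC : A ≤ Subgroup.closure {y | ∃ a ∈ A, ∃ g ∈ K, y = g⁻¹ * a * g} := by
        intro a ha
        apply Subgroup.subset_closure
        exact ⟨a, ha, 1, K.one_mem, by simp⟩
      have hKC : K ≤ Subgroup.normalizer
          ((Subgroup.closure {y | ∃ a ∈ A, ∃ g ∈ K, y = g⁻¹ * a * g} : Subgroup X) : Set X) := by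
        apply le_normalizer_of_map_conj_le
        intro s hs
        rw [MonoidHom.map_closure, Subgroup.closure_le]
        rintro _ ⟨y, ⟨a, ha, g, hg, rfl⟩, rfl⟩
        apply Subgroup.subset_closure
        refine ⟨a, ha, g * s⁻¹, K.mul_mem hg (K.inv_mem hs), ?_⟩
        simp [MulAut.conj_apply, mul_assoc]
      exact hns (SubnIn.step K _ A (hCM.trans hMK.le) hKC
        (hall _ hAC (lt_of_le_of_lt hCM hMK)))

end Cfsg.Agent.Helper72
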