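/-
CALL S1437 (helper2), piece DN (double by helper72): a `K`-invariant complement `D₀` of
`Q ⊇ K*` in `M_σ` is nilpotent (Thompson, via a fixed-point-free element of prime order of `K`).
-/
import Mathlib
import Cfsg.Agent.S1430
import Cfsg.Agent.Helper25.BG15T1

set_option autoImplicit false

namespace Cfsg.Agent.Helper72.BG15b

open Cfsg Subgroup

universe u

variable {G : Type u} [Group G] [Finite G]

/-- DN. A `K`-invariant complement `D₀` of `Q ⊇ K*` is nilpotent. -/
theorem bg15b_D0_nilpotent (hG : IsMinSimpleOddOrder G) {M K U Q D₀ : Subgroup G}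
    (hM : IsCoatom M) (hKU : IsSigmaDecomposition M K U) (hK1 : K ≠ ⊥)
    (hKsQ : sigmaCore M ⊓ centralizer (K : Set G) ≤ Q) (hD₀ : IsComplIn Q D₀ (sigmaCore M))
    (hKD : K ≤ normalizer (D₀ : Set G)) : Group.IsNilpotent ↥D₀ := by
  classical
  have h30 := (Cfsg.Agent.S1430.result hG M hM K hKU.hall hK1).1
  -- a prime dividing |K|
  have hcard : Nat.card K ≠ 1 := by
    intro h
    exact hK1 ((Subgroup.card_eq_one).mp h)
  obtain ⟨p, hp, hpd⟩ := Nat.exists_prime_and_dvd hcard
  have hpF : Fact p.Prime := ⟨hp⟩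
  obtain ⟨k, hk⟩ := exists_prime_orderOf_dvd_card' (G := ↥K) p hpd
  have hk1 : (k : G) ≠ 1 := by
    intro h
    have : k = 1 := Subtype.ext h
    rw [this, orderOf_one] at hk
    exact hp.one_lt.ne hk
  have hkp : (k : G) ^ p = 1 := by
    have : k ^ p = 1 := by rw [← hk]; exact pow_orderOf_eq_one k
    exact_mod_cast congrArg Subtype.val this
  refine Cfsg.Agent.Helper25.bg15_fpf_nilpotent D₀ hp (hKD k.2) hkp ?_
  intro a ha hka
  have haS : a ∈ sigmaCore M := hD₀.2.1 ha
  have hac : a ∈ centralizer ({(k : G)} : Set G) := by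
    rw [Subgroup.mem_centralizer_iff]
    intro y hy
    rw [Set.mem_singleton_iff] at hy
    rw [hy]
    exact hka
  have h1 : a ∈ sigmaCore M ⊓ centralizer ({(k : G)} : Set G) := ⟨haS, hac⟩
  rw [h30 (k : G) k.2 hk1] at h1
  have haQ : a ∈ Q := hKsQ h1
  have : a ∈ Q ⊓ D₀ := ⟨haQ, ha⟩
  rw [hD₀.2.2.1] at this
  exact Subgroup.mem_bot.mp this

end Cfsg.Agent.Helper72.BG15b
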