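/-
CALL BG17 (helper25), piece SN13 (helper72): the easy clauses of `IsSelfNormalizingCyclic K K*`.
-/
import Cfsg.Agent.S1354
import Cfsg.Agent.S1366
import Cfsg.Agent.S1368
import Cfsg.Agent.Helper49.BG14U

set_option autoImplicit false

namespace Cfsg.Agent.Helper72

open Cfsg Subgroup

universe u

variable {G : Type u} [Group G] [Finite G]

/-- SN13. The easy clauses of `IsSelfNormalizingCyclic K K*`
(`K* ≠ 1`: S1354; `K ∩ M_σ = 1`; `K K*` cyclic: S1366 + S1368). -/
theorem bg17_snc_basic (hG : IsMinSimpleOddOrder G) {M K U : Subgroup G} (hM : IsCoatom M)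
    (hKU : IsSigmaDecomposition M K U) (hK1 : K ≠ ⊥) :
    sigmaCore M ⊓ centralizer (K : Set G) ≠ ⊥ ∧
      K ⊓ (sigmaCore M ⊓ centralizer (K : Set G)) = ⊥ ∧
      (∀ a ∈ K, ∀ b ∈ sigmaCore M ⊓ centralizer (K : Set G), a * b = b * a) ∧
      IsCyclic ↥(K ⊔ (sigmaCore M ⊓ centralizer (K : Set G))) ∧
      ∀ X : Set G, X ⊆ (↑(K ⊔ (sigmaCore M ⊓ centralizer (K : Set G))) : Set G) →
        K ⊔ (sigmaCore M ⊓ centralizer (K : Set G)) ≤ normalizer X := by
  classical
  have h54 := (Cfsg.Agent.S1354.result hG M hM K hKU.cyclic hKU.hall).1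
  have hKσ : K ⊓ sigmaCore M = ⊥ := Cfsg.Agent.Helper49.bg14u_kappa_inf_sigma hKU.hall.2.1
  obtain ⟨Mstar, ⟨hMs, hKst, hKstH⟩, -⟩ := Cfsg.Agent.S1366.result hG M hM K U hKU hK1
  have hcyc := (Cfsg.Agent.S1368.result hG M hM K U hKU hK1 Mstar hMs hKst hKstH).2
  refine ⟨h54, ?_, ?_, hcyc, ?_⟩
  · apply le_bot_iff.mp
    rw [← hKσ]
    exact le_inf inf_le_left (inf_le_right.trans inf_le_left)
  · intro a ha b hb
    exact (Subgroup.mem_centralizer_iff.mp hb.2 a ha)
  · intro X hX g hg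
    have hcomm : ∀ x ∈ (K ⊔ (sigmaCore M ⊓ centralizer (K : Set G)) : Subgroup G),
        g * x = x * g := by
      intro x hx
      have hc : IsCyclic ↥(K ⊔ (sigmaCore M ⊓ centralizer (K : Set G))) := hcyc
      have hmc : IsMulCommutative ↥(K ⊔ (sigmaCore M ⊓ centralizer (K : Set G))) :=
        hc.isMulCommutative
      have h1 := mul_comm' (⟨g, hg⟩ : ↥(K ⊔ (sigmaCore M ⊓ centralizer (K : Set G))))
        ⟨x, hx⟩
      exact congrArg Subtype.val h1
    rw [Subgroup.mem_set_normalizer_iff]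
    intro n
    constructor
    · intro hn
      have h1 := hcomm n (hX hn)
      have h2 : g * n * g⁻¹ = n := by rw [h1]; group
      rw [h2]
      exact hn
    · intro hn
      have h1 := hcomm _ (hX hn)
      have h2 : g * n * g⁻¹ = n := by
        have h3 : g * (g * n * g⁻¹) = g * n := by rw [h1]; group
        exact mul_left_cancel h3
      rw [← h2]
      exact hn

end Cfsg.Agent.Helper72
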