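/-
CALL BG38 (helper22, row S1538), piece NF (double by helper72): a maximal subgroup with
`κ(M) ≠ ∅` and `M_F = M_σ` is not of Frobenius type.
-/
import Mathlib
import Cfsg.Agent.Helper23.FittingHall
import Cfsg.Agent.Helper23.Trans

set_option autoImplicit false

namespace Cfsg.Agent.Helper72

open Cfsg Subgroup

universe u

variable {G : Type u} [Group G] [Finite G]

set_option linter.unusedVariables false in
/-- NF. -/
theorem bg38_not_typeF (hG : IsMinSimpleOddOrder G) {M : Subgroup G} (hM : IsCoatom M) {r : ℕ}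
    (hr : r ∈ kappa M) (hF : fittingHallOf M = sigmaCore M)
    (hexp : ∀ {A B : Subgroup ↥M}, Monoid.exponent ↥A = Monoid.exponent ↥B → ∀ {r : ℕ}, r.Prime →
      r ∣ Nat.card B → ∃ u ∈ A, orderOf u = r)
    (hcyc : ∀ {r : ℕ}, r.Prime → ∀ {P : Subgroup ↥M}, IsPGroup r P → IsCyclic ↥P →
      ∀ {u x : ↥M}, u ∈ P → orderOf u = r → x ∈ P → x ≠ 1 → u ∈ zpowers x) :
    ¬ IsOfTypeF ↥M := by
  classical
  rintro ⟨-, -, -, -, Uc, -, hcompl, -, U₀, hU₀, hexpU, hfpf⟩
  have hrp : r.Prime := hr.1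
  have hrF : Fact r.Prime := ⟨hrp⟩
  have hcard : Nat.card (fittingHall ↥M) * Nat.card Uc = Nat.card M := hcompl.card_mul_card
  have hrnF : ¬ r ∣ Nat.card (fittingHall ↥M) := by
    intro h
    rw [← Cfsg.Agent.Helper23.card_fittingHallOf M, hF] at h
    exact hr.2.2.1 (Cfsg.Agent.Helper23.mem_of_dvd_card_piCoreOf (sigma M) M hrp h)
  have hrU : r ∣ Nat.card Uc := by
    have h1 : r ∣ Nat.card (fittingHall ↥M) * Nat.card Uc := by
      rw [hcard]
      exact hr.2.1
    exact (hrp.dvd_mul.mp h1).resolve_left hrnF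
  obtain ⟨u, huU₀, huo⟩ := hexp (A := U₀) (B := Uc) hexpU hrp hrU
  have hu1 : u ≠ 1 := by
    intro h
    rw [h, orderOf_one] at huo
    exact hrp.one_lt.ne huo
  have hzp : IsPGroup r (zpowers u) := by
    refine IsPGroup.of_card (n := 1) ?_
    rw [Nat.card_zpowers, huo, pow_one]
  obtain ⟨P, hP⟩ := hzp.exists_le_sylow
  obtain ⟨hPc, x, hxP, hx1, y, hy, hy1, hxy⟩ := hr.2.2.2 P
  have huP : u ∈ (P : Subgroup ↥M) := hP (mem_zpowers u)
  have hux : u ∈ zpowers x := hcyc hrp (P := (P : Subgroup ↥M)) P.isPGroup' hPc huP huo hxP hx1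
  obtain ⟨k, hk⟩ := mem_zpowers_iff.mp hux
  rw [← hF] at hy
  obtain ⟨y', hy', hyy'⟩ := hy
  have hcomm : x * y' = y' * x := by
    apply Subtype.ext
    have h1 : ((x * y' : ↥M) : G) = (x : G) * y := by
      rw [← hyy']
      rfl
    have h2 : ((y' * x : ↥M) : G) = y * (x : G) := by
      rw [← hyy']
      rfl
    rw [h1, h2]
    exact hxy
  have hcomm2 : u * y' = y' * u := by
    rw [← hk]
    exact ((Commute.zpow_left (show Commute x y' from hcomm) k)).eq
  have hy'1 : y' = 1 := hfpf u huU₀ hu1 y' hy' hcomm2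
  apply hy1
  rw [← hyy', hy'1]
  rfl

end Cfsg.Agent.Helper72
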