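import Mathlib
import Cfsg.Agent.Helper69.E4STRUCT

set_option autoImplicit false

/-!
# Piece STRUCT2 of S6002 (CALL of helper69), by helper72: a group of order 32 and exponent 4 with
centre of order 2 in which every characteristic abelian subgroup is cyclic has central squares
and central commutators.
-/

namespace Cfsg.Agent.Helper72

/-- The centre of the second centre is the centre (the case `|A| = 4` is contradictory). -/
theorem e5s_AZ {G : Type*} [Group G] [Finite G]
    (hexp4 : ∀ g : G, g ^ 4 = 1) (hcard : Nat.card G = 32)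
    (hZ : Nat.card (Subgroup.center G) = 2)
    (hchar : ∀ A : Subgroup G, A.Characteristic → IsMulCommutative A → IsCyclic A)
    (hcm : ∀ x y : G, x * y * x⁻¹ * y⁻¹ ∈
      Subgroup.centralizer (Subgroup.upperCentralSeries G 2 : Set G)) :
    Subgroup.upperCentralSeries G 2 ⊓
      Subgroup.centralizer (Subgroup.upperCentralSeries G 2 : Set G) = Subgroup.center G := by
  classical
  have : Fact (Nat.Prime 2) := ⟨Nat.prime_two⟩
  set Z2 : Subgroup G := Subgroup.upperCentralSeries G 2 with hZ2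
  have hZ2mem : ∀ u : G, u ∈ Z2 ↔ ∀ y : G, u * y * u⁻¹ * y⁻¹ ∈ Subgroup.center G := by
    intro u
    rw [hZ2, show (2 : ℕ) = 1 + 1 from rfl, Subgroup.mem_upperCentralSeries_succ_iff,
      Subgroup.upperCentralSeries_one]
    rfl
  have hZle : Subgroup.center G ≤ Z2 := by
    rw [hZ2, ← Subgroup.upperCentralSeries_one]
    exact Subgroup.upperCentralSeries_mono G (by norm_num)
  set A : Subgroup G := Z2 ⊓ Subgroup.centralizer (Z2 : Set G) with hA
  have hAchar : A.Characteristic := by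
    rw [hA, hZ2]
    infer_instance
  have hAcomm : IsMulCommutative A := by
    refine ⟨⟨fun a b => ?_⟩⟩
    apply Subtype.ext
    have ha : (a : G) ∈ Z2 ⊓ Subgroup.centralizer (Z2 : Set G) := a.2
    have hb : (b : G) ∈ Z2 ⊓ Subgroup.centralizer (Z2 : Set G) := b.2
    have ha' := Subgroup.mem_inf.mp ha
    have hb' := Subgroup.mem_inf.mp hb
    have := (Subgroup.mem_centralizer_iff.mp hb'.2) (a : G) ha'.1
    show (a : G) * (b : G) = (b : G) * (a : G)
    exact this
  have hAcyc : IsCyclic A := hchar A hAchar hAcomm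
  have hcard_le : ∀ B : Subgroup G, IsCyclic B → Nat.card B ≤ 4 := by
    intro B hB
    have h1 : Monoid.exponent B = Nat.card B := IsCyclic.exponent_eq_card
    have h2 : Monoid.exponent B ∣ 4 := by
      apply Monoid.exponent_dvd_of_forall_pow_eq_one
      intro a
      apply Subtype.ext
      rw [Subgroup.coe_pow, hexp4]
      rfl
    rw [h1] at h2
    exact Nat.le_of_dvd (by norm_num) h2
  have hAcard : Nat.card A ≤ 4 := hcard_le A hAcyc
  have hZA : Subgroup.center G ≤ A := by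
    rw [hA]
    refine le_inf hZle ?_
    intro z hz
    rw [Subgroup.mem_centralizer_iff]
    intro k _
    exact Subgroup.mem_center_iff.mp hz k
  by_contra hne
  have hA4 : Nat.card A = 4 := by
    have h1 : Nat.card (Subgroup.center G) ∣ Nat.card A := Subgroup.card_dvd_of_le hZA
    rw [hZ] at h1
    have h2 : Nat.card A ≠ 2 := by
      intro h2
      apply hne
      symm
      exact Subgroup.eq_of_le_of_card_ge hZA (by rw [hZ, h2])
    have h3 : 0 < Nat.card A := Nat.card_pos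
    obtain ⟨k, hk⟩ := h1
    omega
  -- the central involution
  obtain ⟨z, hzZ, hz1, hzall⟩ : ∃ z : G, z ∈ Subgroup.center G ∧ z ≠ 1 ∧
      ∀ x ∈ Subgroup.center G, x = 1 ∨ x = z := by
    obtain ⟨y, hy, hyu⟩ := (Nat.card_eq_two_iff' (1 : Subgroup.center G)).mp hZ
    refine ⟨y, y.2, fun h => hy (Subtype.ext h), fun x hx => ?_⟩
    by_cases hx1 : x = 1
    · exact Or.inl hx1
    · right
      have := hyu ⟨x, hx⟩ (fun h => hx1 (congrArg Subtype.val h))
      exact congrArg Subtype.val this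
  have hz2 : z ^ 2 = 1 := by
    rcases hzall (z ^ 2) (Subgroup.pow_mem _ hzZ 2) with h | h
    · exact h
    · exfalso
      apply hz1
      rw [pow_two] at h
      exact mul_left_cancel (h.trans (mul_one z).symm)
  -- elements of order at most two of A are central
  have hstar : ∀ y ∈ A, y ^ 2 = 1 → y ∈ Subgroup.center G := by
    intro y hyA hy2
    by_contra hyZ
    have : Fintype A := Fintype.ofFinite A
    have hle := IsCyclic.card_pow_eq_one_le (α := A) (n := 2) (by norm_num)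
    have hsub : ({(1 : A), ⟨z, hZA hzZ⟩, ⟨y, hyA⟩} : Finset A) ⊆
        Finset.univ.filter (fun a : A => a ^ 2 = 1) := by
      intro x hx
      simp only [Finset.mem_insert, Finset.mem_singleton] at hx
      rw [Finset.mem_filter]
      refine ⟨Finset.mem_univ _, ?_⟩
      rcases hx with rfl | rfl | rfl
      · simp
      · exact Subtype.ext hz2
      · exact Subtype.ext hy2
    have hcard3 : ({(1 : A), ⟨z, hZA hzZ⟩, ⟨y, hyA⟩} : Finset A).card = 3 := by
      rw [Finset.card_insert_of_notMem, Finset.card_insert_of_notMem, Finset.card_singleton]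
      · rw [Finset.mem_singleton]
        intro h
        have hy' : z = y := congrArg Subtype.val h
        exact hyZ (hy' ▸ hzZ)
      · rw [Finset.mem_insert, Finset.mem_singleton]
        rintro (h | h)
        · exact hz1 (congrArg Subtype.val h).symm
        · have hy' : (1 : G) = y := congrArg Subtype.val h
          exact hyZ (hy' ▸ Subgroup.one_mem _)
    have := Finset.card_le_card hsub
    omega
  -- a generator of A
  obtain ⟨a, haA, haZ⟩ : ∃ a, a ∈ A ∧ a ∉ Subgroup.center G := by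
    by_contra hcon
    push Not at hcon
    exact hne (le_antisymm hcon hZA)
  have haU : a ∈ Z2 := (Subgroup.mem_inf.mp haA).1
  have haCU : ∀ u ∈ Z2, u * a = a * u := fun u hu =>
    Subgroup.mem_centralizer_iff.mp (Subgroup.mem_inf.mp haA).2 u hu
  have ha2 : a ^ 2 ≠ 1 := fun h => haZ (hstar a haA h)
  have hord : orderOf a = 4 := by
    have := orderOf_eq_prime_pow (p := 2) (n := 1) (x := a) (by simpa using ha2)
      (by simpa using hexp4 a)
    simpa using this
  have hAz : A = Subgroup.zpowers a := by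
    symm
    apply Subgroup.eq_of_le_of_card_ge (by rw [Subgroup.zpowers_le]; exact haA)
    rw [Nat.card_zpowers, hord, hA4]
  -- the centraliser of A
  set C : Subgroup G := Subgroup.centralizer (A : Set G) with hCdef
  have hCmem : ∀ g : G, g ∈ C ↔ a * g = g * a := by
    intro g
    rw [hCdef, Subgroup.mem_centralizer_iff]
    constructor
    · intro h; exact h a haA
    · intro h x hx
      have hx' : x ∈ Subgroup.zpowers a := by rw [← hAz]; exact hx
      obtain ⟨k, rfl⟩ := Subgroup.mem_zpowers_iff.mp hx'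
      exact (Commute.zpow_left (show Commute a g from h) k).eq
  have hmulA : ∀ x y : G, a * (x * y) * a⁻¹ * (x * y)⁻¹ =
      (a * x * a⁻¹ * x⁻¹) * (a * y * a⁻¹ * y⁻¹) := by
    intro x y
    have hb : a * y * a⁻¹ * y⁻¹ ∈ Subgroup.center G := (hZ2mem a).mp haU y
    have hc := Subgroup.mem_center_iff.mp hb x⁻¹
    calc a * (x * y) * a⁻¹ * (x * y)⁻¹ = (a * x * a⁻¹) * ((a * y * a⁻¹ * y⁻¹) * x⁻¹) := by group
      _ = (a * x * a⁻¹) * (x⁻¹ * (a * y * a⁻¹ * y⁻¹)) := by rw [hc]
      _ = (a * x * a⁻¹ * x⁻¹) * (a * y * a⁻¹ * y⁻¹) := by group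
  let φ : G →* Subgroup.center G :=
    { toFun := fun g => ⟨a * g * a⁻¹ * g⁻¹, (hZ2mem a).mp haU g⟩
      map_one' := by apply Subtype.ext; simp
      map_mul' := fun x y => by apply Subtype.ext; exact hmulA x y }
  have hφval : ∀ g, ((φ g : Subgroup.center G) : G) = a * g * a⁻¹ * g⁻¹ := fun g => rfl
  have hker : φ.ker = C := by
    ext g
    rw [MonoidHom.mem_ker, hCmem]
    constructor
    · intro h
      have h1 : a * g * a⁻¹ * g⁻¹ = 1 := by rw [← hφval, h]; rfl
      calc a * g = (a * g * a⁻¹ * g⁻¹) * (g * a) := by group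
        _ = g * a := by rw [h1, one_mul]
    · intro h
      apply Subtype.ext
      rw [hφval, h]
      simp
  have hCφ : ∀ g, g ∈ C ↔ φ g = 1 := by
    intro g; rw [← hker, MonoidHom.mem_ker]
  have hφz : ∀ g, g ∉ C → φ g = ⟨z, hzZ⟩ := by
    intro g hg
    rcases hzall (φ g : G) (φ g).2 with h | h
    · exact absurd ((hCφ g).mpr (Subtype.ext h)) hg
    · exact Subtype.ext h
  obtain ⟨g₀, hg₀⟩ : ∃ g₀, g₀ ∉ C := by
    by_contra hcon
    push Not at hcon
    apply haZ
    rw [Subgroup.mem_center_iff]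
    intro g
    exact ((hCmem g).mp (hcon g)).symm
  have hCidx : C.index = 2 := by
    rw [← hker, Subgroup.index_ker]
    have h1 : Nat.card φ.range ∣ 2 := by
      rw [← hZ]; exact Subgroup.card_subgroup_dvd_card _
    have h2 : Nat.card φ.range ≠ 1 := by
      intro h
      have hbot : φ.range = ⊥ := Subgroup.card_eq_one.mp h
      have hmem : φ g₀ ∈ φ.range := ⟨g₀, rfl⟩
      rw [hbot, Subgroup.mem_bot] at hmem
      exact hg₀ ((hCφ g₀).mpr hmem)
    rcases (Nat.dvd_prime Nat.prime_two).mp h1 with h | h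
    · exact absurd h h2
    · exact h
  have hC16 : Nat.card C = 16 := by
    have := Subgroup.card_mul_index C
    rw [hCidx, hcard] at this
    omega
  have hquot : ∀ y, y ∉ C → g₀⁻¹ * y ∈ C := by
    intro y hy
    rw [hCφ, map_mul, map_inv, hφz g₀ hg₀, hφz y hy, inv_mul_cancel]
  have he : g₀ * g₀ ∈ C := by
    rw [hCφ, map_mul, hφz g₀ hg₀]
    apply Subtype.ext
    show z * z = 1
    rw [← pow_two]; exact hz2
  -- the centre of C is A
  have := hAchar
  set ZC : Subgroup G := C ⊓ Subgroup.centralizer (C : Set G) with hZCdef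
  have hZCchar : ZC.Characteristic := by
    rw [hZCdef, hCdef]
    infer_instance
  have hZCcomm : IsMulCommutative ZC := by
    refine ⟨⟨fun x y => ?_⟩⟩
    apply Subtype.ext
    have hx : (x : G) ∈ C ⊓ Subgroup.centralizer (C : Set G) := x.2
    have hy : (y : G) ∈ C ⊓ Subgroup.centralizer (C : Set G) := y.2
    have hx' := Subgroup.mem_inf.mp hx
    have hy' := Subgroup.mem_inf.mp hy
    have := (Subgroup.mem_centralizer_iff.mp hy'.2) (x : G) hx'.1
    show (x : G) * (y : G) = (y : G) * (x : G)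
    exact this
  have hZCcard : Nat.card ZC ≤ 4 := hcard_le ZC (hchar ZC hZCchar hZCcomm)
  have hAC : A ≤ C := by
    intro x hx
    rw [hCdef, Subgroup.mem_centralizer_iff]
    intro y hy
    exact Subgroup.mem_centralizer_iff.mp (Subgroup.mem_inf.mp hx).2 y (Subgroup.mem_inf.mp hy).1
  have hAZC : A ≤ ZC := by
    intro x hx
    refine Subgroup.mem_inf.mpr ⟨hAC hx, ?_⟩
    rw [Subgroup.mem_centralizer_iff]
    intro c hc
    have hc' : c ∈ Subgroup.centralizer (A : Set G) := hc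
    exact (Subgroup.mem_centralizer_iff.mp hc' x hx).symm
  have hZCA : ZC = A := by
    symm
    exact Subgroup.eq_of_le_of_card_ge hAZC (by rw [hA4]; exact hZCcard)
  have hstar2 : ∀ c ∈ C, (∀ c' ∈ C, c' * c = c * c') → c ∈ A := by
    intro c hc h
    rw [← hZCA]
    exact Subgroup.mem_inf.mpr ⟨hc, Subgroup.mem_centralizer_iff.mpr h⟩
  -- squares of C are central
  have hsqC : ∀ c ∈ C, c ^ 2 ∈ Subgroup.center G := by
    intro c hc
    have hcA : c ^ 2 ∈ A := by
      by_contra hcA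
      have hAn : A.Normal := Subgroup.normal_of_characteristic A
      have hNn : (A.subgroupOf C).Normal := inferInstance
      have hNcard : Nat.card (A.subgroupOf C) = 4 := by
        rw [Nat.card_congr (Subgroup.subgroupOfEquivOfLe hAC).toEquiv, hA4]
      have hQcard : Nat.card (C ⧸ A.subgroupOf C) = 4 := by
        have := Subgroup.card_eq_card_quotient_mul_card_subgroup (A.subgroupOf C)
        rw [hC16, hNcard] at this
        omega
      have h1 : ¬ (QuotientGroup.mk ⟨c, hc⟩ : C ⧸ A.subgroupOf C) ^ 2 ^ 1 = 1 := by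
        intro h
        apply hcA
        rw [pow_one, ← QuotientGroup.mk_pow, QuotientGroup.eq_one_iff,
          Subgroup.mem_subgroupOf] at h
        exact h
      have h2 : (QuotientGroup.mk ⟨c, hc⟩ : C ⧸ A.subgroupOf C) ^ 2 ^ (1 + 1) = 1 := by
        rw [← QuotientGroup.mk_pow]
        have : (⟨c, hc⟩ : C) ^ 2 ^ (1 + 1) = 1 := Subtype.ext (by simpa using hexp4 c)
        rw [this]; rfl
      have hordc : orderOf (QuotientGroup.mk ⟨c, hc⟩ : C ⧸ A.subgroupOf C)
          = Nat.card (C ⧸ A.subgroupOf C) := by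
        rw [hQcard]
        have := orderOf_eq_prime_pow h1 h2
        simpa using this
      have : IsCyclic (C ⧸ A.subgroupOf C) := isCyclic_of_orderOf_eq_card _ hordc
      have hcommC : ∀ x y : C, x * y = y * x := by
        apply commutative_of_cyclic_center_quotient (QuotientGroup.mk' (A.subgroupOf C))
        rw [QuotientGroup.ker_mk']
        intro x hx
        rw [Subgroup.mem_center_iff]
        intro y
        apply Subtype.ext
        have hxA : (x : G) ∈ A := Subgroup.mem_subgroupOf.mp hx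
        have hy : (y : G) ∈ Subgroup.centralizer (A : Set G) := y.2
        exact (Subgroup.mem_centralizer_iff.mp hy (x : G) hxA).symm
      have hCA : C ≤ A := by
        intro c' hc'
        apply hstar2 c' hc'
        intro c'' hc''
        exact congrArg Subtype.val (hcommC ⟨c'', hc''⟩ ⟨c', hc'⟩)
      have := Subgroup.card_le_of_le hCA
      rw [hC16, hA4] at this
      omega
    apply hstar _ hcA
    rw [← pow_mul]; exact hexp4 c
  -- commutators of C are central
  have hcommC : ∀ c ∈ C, ∀ c' ∈ C, c' * c * c'⁻¹ * c⁻¹ ∈ Subgroup.center G := by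
    intro c hc c' hc'
    have h1 := hsqC c hc
    have h2 := hsqC c' hc'
    have h3 := hsqC (c' * c) (Subgroup.mul_mem _ hc' hc)
    have hcen : c * (c' ^ 2)⁻¹ = (c' ^ 2)⁻¹ * c :=
      Subgroup.mem_center_iff.mp (Subgroup.inv_mem _ h2) c
    have e : c' * c * c'⁻¹ * c⁻¹ = (c' * c) ^ 2 * (c' ^ 2)⁻¹ * (c ^ 2)⁻¹ := by
      calc c' * c * c'⁻¹ * c⁻¹ = c' * c * c' * ((c' ^ 2)⁻¹ * c) * (c ^ 2)⁻¹ := by group
        _ = c' * c * c' * (c * (c' ^ 2)⁻¹) * (c ^ 2)⁻¹ := by rw [hcen]
        _ = (c' * c) ^ 2 * (c' ^ 2)⁻¹ * (c ^ 2)⁻¹ := by rw [pow_two (c' * c)]; group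
    rw [e]
    exact Subgroup.mul_mem _ (Subgroup.mul_mem _ h3 (Subgroup.inv_mem _ h2))
      (Subgroup.inv_mem _ h1)
  have hCn : C.Normal := by
    rw [hCdef]
    infer_instance
  have hZn : (Subgroup.center G).Normal := inferInstance
  -- commutators with g₀ of elements of C are central
  have hkey : ∀ c ∈ C, g₀ * c * g₀⁻¹ * c⁻¹ ∈ Subgroup.center G := by
    intro c hc
    obtain ⟨d, hd⟩ : ∃ d : G, d = g₀ * c * g₀⁻¹ * c⁻¹ := ⟨_, rfl⟩
    rw [← hd]
    have hdC : d ∈ C := by
      rw [hd]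
      exact Subgroup.mul_mem _ (hCn.conj_mem c hc g₀) (Subgroup.inv_mem _ hc)
    have hdcent : d ∈ Subgroup.centralizer (Z2 : Set G) := by
      rw [hd]; exact hcm g₀ c
    have hζ : (g₀ * g₀) * c * (g₀ * g₀)⁻¹ * c⁻¹ ∈ Subgroup.center G := hcommC c hc _ he
    have hd2 : d ^ 2 ∈ Subgroup.center G := hsqC d hdC
    have hg₀d : g₀ * d * g₀⁻¹ * d⁻¹ ∈ Subgroup.center G := by
      have e : g₀ * d * g₀⁻¹ * d⁻¹ = ((g₀ * g₀) * c * (g₀ * g₀)⁻¹ * c⁻¹) * (d ^ 2)⁻¹ := by
        rw [hd, pow_two]; group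
      rw [e]; exact Subgroup.mul_mem _ hζ (Subgroup.inv_mem _ hd2)
    have hdU : d ∈ Z2 := by
      rw [hZ2mem]
      intro y
      by_cases hy : y ∈ C
      · exact hcommC y hy d hdC
      · have hc'' : g₀⁻¹ * y ∈ C := hquot y hy
        have h1 : d * (g₀⁻¹ * y) * d⁻¹ * (g₀⁻¹ * y)⁻¹ ∈ Subgroup.center G :=
          hcommC _ hc'' d hdC
        have h2 : d * g₀ * d⁻¹ * g₀⁻¹ ∈ Subgroup.center G := by
          have : d * g₀ * d⁻¹ * g₀⁻¹ = (g₀ * d * g₀⁻¹ * d⁻¹)⁻¹ := by group
          rw [this]; exact Subgroup.inv_mem _ hg₀d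
        have e : d * y * d⁻¹ * y⁻¹ = (d * g₀ * d⁻¹ * g₀⁻¹) *
            (g₀ * (d * (g₀⁻¹ * y) * d⁻¹ * (g₀⁻¹ * y)⁻¹) * g₀⁻¹) := by group
        rw [e]
        exact Subgroup.mul_mem _ h2 (hZn.conj_mem _ h1 g₀)
    have hdA : d ∈ A := Subgroup.mem_inf.mpr ⟨hdU, hdcent⟩
    have hdc : d * c = c * d := by
      have hc' : c ∈ Subgroup.centralizer (A : Set G) := hc
      exact Subgroup.mem_centralizer_iff.mp hc' d hdA
    have hc2 : c ^ 2 ∈ Subgroup.center G := hsqC c hc
    have hd1 : d ^ 2 = 1 := by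
      have e1 : g₀ * c * g₀⁻¹ = d * c := by rw [hd]; group
      have e2 : (g₀ * c * g₀⁻¹) ^ 2 = c ^ 2 := by
        have : (g₀ * c * g₀⁻¹) ^ 2 = g₀ * c ^ 2 * g₀⁻¹ := by rw [pow_two, pow_two]; group
        rw [this, Subgroup.mem_center_iff.mp hc2 g₀, mul_inv_cancel_right]
      have e3 : (d * c) ^ 2 = d ^ 2 * c ^ 2 := by
        rw [pow_two, pow_two, pow_two]
        calc d * c * (d * c) = d * (c * d) * c := by group
          _ = d * (d * c) * c := by rw [hdc]
          _ = d * d * (c * c) := by group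
      rw [e1, e3] at e2
      exact mul_right_cancel (e2.trans (one_mul _).symm)
    exact hstar d hdA hd1
  have hg₀U : g₀ ∈ Z2 := by
    rw [hZ2mem]
    intro y
    by_cases hy : y ∈ C
    · exact hkey y hy
    · have hc'' : g₀⁻¹ * y ∈ C := hquot y hy
      have h1 := hkey _ hc''
      have e : g₀ * y * g₀⁻¹ * y⁻¹ =
          g₀ * (g₀ * (g₀⁻¹ * y) * g₀⁻¹ * (g₀⁻¹ * y)⁻¹) * g₀⁻¹ := by group
      rw [e]
      exact hZn.conj_mem _ h1 g₀
  exact hg₀ ((hCmem g₀).mpr (haCU g₀ hg₀U).symm)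

/-! ### STRUCT2 -/

theorem e5_struct {G : Type*} [Group G] [Finite G] (hp : IsPGroup 2 G)
    (hexp : Monoid.exponent G = 4) (hcard : Nat.card G = 32)
    (hZ : Nat.card (Subgroup.center G) = 2)
    (hchar : ∀ A : Subgroup G, A.Characteristic → IsMulCommutative A → IsCyclic A) (g h : G) :
    g ^ 2 ∈ Subgroup.center G ∧ g * h * g⁻¹ * h⁻¹ ∈ Subgroup.center G := by
  classical
  have : Fact (Nat.Prime 2) := ⟨Nat.prime_two⟩
  have hexp4 : ∀ g : G, g ^ 4 = 1 := by
    intro g
    rw [← hexp]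
    exact Monoid.pow_exponent_eq_one g
  set Z2 : Subgroup G := Subgroup.upperCentralSeries G 2 with hZ2
  have hZ2mem : ∀ u : G, u ∈ Z2 ↔ ∀ y : G, u * y * u⁻¹ * y⁻¹ ∈ Subgroup.center G := by
    intro u
    rw [hZ2, show (2 : ℕ) = 1 + 1 from rfl, Subgroup.mem_upperCentralSeries_succ_iff,
      Subgroup.upperCentralSeries_one]
    rfl
  -- for u ∈ Z2 the map x ↦ [u, x] is a homomorphism into the centre, with values of order ≤ 2
  have hmul : ∀ u ∈ Z2, ∀ a b : G, u * (a * b) * u⁻¹ * (a * b)⁻¹ =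
      (u * a * u⁻¹ * a⁻¹) * (u * b * u⁻¹ * b⁻¹) := by
    intro u hu a b
    have hb : u * b * u⁻¹ * b⁻¹ ∈ Subgroup.center G := (hZ2mem u).mp hu b
    have hc := Subgroup.mem_center_iff.mp hb a⁻¹
    calc u * (a * b) * u⁻¹ * (a * b)⁻¹ = (u * a * u⁻¹) * ((u * b * u⁻¹ * b⁻¹) * a⁻¹) := by group
      _ = (u * a * u⁻¹) * (a⁻¹ * (u * b * u⁻¹ * b⁻¹)) := by rw [hc]
      _ = (u * a * u⁻¹ * a⁻¹) * (u * b * u⁻¹ * b⁻¹) := by group
  have hcomm_of : ∀ u x : G, u * x * u⁻¹ * x⁻¹ = 1 → u * x = x * u := by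
    intro u x h1
    have : u * x = (u * x * u⁻¹ * x⁻¹) * (x * u) := by group
    rw [this, h1, one_mul]
  -- membership in the centraliser: squares
  have hsq : ∀ x : G, x ^ 2 ∈ Subgroup.centralizer (Z2 : Set G) := by
    intro x
    rw [Subgroup.mem_centralizer_iff]
    intro u hu
    apply hcomm_of
    rw [pow_two, hmul u hu x x, ← pow_two]
    exact Cfsg.Agent.Helper69.e4s_comm_sq hexp4 u x ((hZ2mem u).mp hu x)
  -- membership in the centraliser: commutators
  have hcm : ∀ x y : G, x * y * x⁻¹ * y⁻¹ ∈ Subgroup.centralizer (Z2 : Set G) := by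
    intro x y
    rw [Subgroup.mem_centralizer_iff]
    intro u hu
    apply hcomm_of
    have hx : u * x * u⁻¹ * x⁻¹ ∈ Subgroup.center G := (hZ2mem u).mp hu x
    have hy : u * y * u⁻¹ * y⁻¹ ∈ Subgroup.center G := (hZ2mem u).mp hu y
    have hxi : u * x⁻¹ * u⁻¹ * x⁻¹⁻¹ = (u * x * u⁻¹ * x⁻¹)⁻¹ := by
      have h1 := hmul u hu x x⁻¹
      rw [mul_inv_cancel] at h1
      have h2 : u * 1 * u⁻¹ * (1 : G)⁻¹ = 1 := by group
      rw [h2] at h1
      exact (inv_eq_of_mul_eq_one_right h1.symm).symm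
    have hyi : u * y⁻¹ * u⁻¹ * y⁻¹⁻¹ = (u * y * u⁻¹ * y⁻¹)⁻¹ := by
      have h1 := hmul u hu y y⁻¹
      rw [mul_inv_cancel] at h1
      have h2 : u * 1 * u⁻¹ * (1 : G)⁻¹ = 1 := by group
      rw [h2] at h1
      exact (inv_eq_of_mul_eq_one_right h1.symm).symm
    rw [hmul u hu (x * y * x⁻¹) y⁻¹, hmul u hu (x * y) x⁻¹, hmul u hu x y, hxi, hyi]
    have hc := Subgroup.mem_center_iff.mp hy (u * x * u⁻¹ * x⁻¹)
    calc (u * x * u⁻¹ * x⁻¹) * (u * y * u⁻¹ * y⁻¹) * (u * x * u⁻¹ * x⁻¹)⁻¹ *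
          (u * y * u⁻¹ * y⁻¹)⁻¹
        = ((u * x * u⁻¹ * x⁻¹) * (u * y * u⁻¹ * y⁻¹)) * (u * x * u⁻¹ * x⁻¹)⁻¹ *
          (u * y * u⁻¹ * y⁻¹)⁻¹ := by group
      _ = ((u * y * u⁻¹ * y⁻¹) * (u * x * u⁻¹ * x⁻¹)) * (u * x * u⁻¹ * x⁻¹)⁻¹ *
          (u * y * u⁻¹ * y⁻¹)⁻¹ := by rw [hc]
      _ = 1 := by group
  have hAZ : Z2 ⊓ Subgroup.centralizer (Z2 : Set G) = Subgroup.center G :=
    e5s_AZ hexp4 hcard hZ hchar hcm
  -- the centraliser of Z2 is the centre
  have hCnormal : (Subgroup.centralizer (Z2 : Set G)).Normal := by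
    rw [hZ2]
    infer_instance
  have hnil : Group.IsNilpotent G := hp.isNilpotent
  have hC : ∀ k : ℕ, ∀ c ∈ Subgroup.centralizer (Z2 : Set G),
      c ∈ Subgroup.upperCentralSeries G (k + 1) → c ∈ Subgroup.center G := by
    intro k
    induction k with
    | zero =>
      intro c _ hc
      rw [zero_add, Subgroup.upperCentralSeries_one] at hc
      exact hc
    | succ k ih =>
      intro c hcC hc
      have h1 : ∀ y : G, c * y * c⁻¹ * y⁻¹ ∈ Subgroup.center G := by
        intro y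
        apply ih
        · have h2 : c * y * c⁻¹ * y⁻¹ = c * (y * c⁻¹ * y⁻¹) := by group
          rw [h2]
          exact Subgroup.mul_mem _ hcC
            (hCnormal.conj_mem _ (Subgroup.inv_mem _ hcC) y)
        · exact (Subgroup.mem_upperCentralSeries_succ_iff.mp hc) y
      have h3 : c ∈ Z2 ⊓ Subgroup.centralizer (Z2 : Set G) :=
        ⟨(hZ2mem c).mpr h1, hcC⟩
      rw [hAZ] at h3
      exact h3
  have hCZ : ∀ c ∈ Subgroup.centralizer (Z2 : Set G), c ∈ Subgroup.center G := by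
    intro c hc
    obtain ⟨n, hn⟩ := hnil.nilpotent
    apply hC n c hc
    have : Subgroup.upperCentralSeries G n ≤ Subgroup.upperCentralSeries G (n + 1) :=
      Subgroup.upperCentralSeries_mono G (Nat.le_succ n)
    apply this
    rw [hn]
    exact Subgroup.mem_top c
  exact ⟨hCZ _ (hsq g), hCZ _ (hcm g h)⟩

end Cfsg.Agent.Helper72
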