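import Mathlib

/-!
# Maschke's theorem for coprime actions on elementary abelian groups (helper72)

Group-theoretic form (no module structure): a finite group `V` which is commutative of prime
exponent `p`, a family `α : A → V →* V` of endomorphisms forming an action of a finite group
`A` with `p ∤ |A|`, and an `α`-invariant subgroup `S`: there is an `α`-invariant subgroup `W`
with `S ⊓ W = ⊥` and `V = S W`.
-/

set_option autoImplicit false

namespace Cfsg.Agent.Helper72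

section comm
variable {V : Type*} [CommGroup V] [Finite V]

/-- A subgroup of a finite abelian group of prime exponent has a complement. -/
theorem elemAb_exists_compl {p : ℕ} (hp : p.Prime) (hV : ∀ v : V, v ^ p = 1) (S : Subgroup V) :
    ∃ W : Subgroup V, S ⊓ W = ⊥ ∧ S ⊔ W = ⊤ := by
  obtain ⟨W, hW, hmax⟩ := Set.exists_max_image {W : Subgroup V | S ⊓ W = ⊥}
    (fun W => Nat.card W) (Set.toFinite _) ⟨⊥, by simp⟩
  have hW' : S ⊓ W = ⊥ := hW
  refine ⟨W, hW', ?_⟩
  by_contra hne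
  obtain ⟨v, hv⟩ : ∃ v : V, v ∉ S ⊔ W := by
    by_contra h
    push Not at h
    exact hne (eq_top_iff.mpr fun x _ => h x)
  have hnew : S ⊓ (W ⊔ Subgroup.zpowers v) = ⊥ := by
    rw [eq_bot_iff]
    intro x hx
    obtain ⟨hxS, hxW⟩ := Subgroup.mem_inf.mp hx
    obtain ⟨w, hw, y, hy, rfl⟩ := Subgroup.mem_sup.mp hxW
    obtain ⟨k, rfl⟩ := Subgroup.mem_zpowers_iff.mp hy
    have hvk : v ^ k ∈ S ⊔ W := by
      have e : v ^ k = (w * v ^ k) * w⁻¹ := by
        rw [mul_comm w, mul_inv_cancel_right]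
      rw [e]
      exact Subgroup.mul_mem _ (Subgroup.mem_sup_left hxS)
        (Subgroup.mem_sup_right (Subgroup.inv_mem _ hw))
    by_cases hk : (p : ℤ) ∣ k
    · obtain ⟨j, rfl⟩ := hk
      have e : v ^ ((p : ℤ) * j) = 1 := by
        rw [zpow_mul, zpow_natCast, hV, one_zpow]
      rw [e, mul_one] at hxS ⊢
      have hmem : w ∈ S ⊓ W := ⟨hxS, hw⟩
      rw [hW'] at hmem
      exact hmem
    · exfalso
      have hcop : IsCoprime (p : ℤ) k :=
        (Nat.prime_iff_prime_int.mp hp).coprime_iff_not_dvd.mpr hk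
      obtain ⟨a, b, hab⟩ := hcop
      have e : v = (v ^ k) ^ b := by
        have h1 : v ^ (a * (p : ℤ) + b * k) = v := by rw [hab, zpow_one]
        have h2 : v ^ (a * (p : ℤ)) = 1 := by
          rw [mul_comm, zpow_mul, zpow_natCast, hV, one_zpow]
        rw [zpow_add, h2, one_mul, mul_comm b k, zpow_mul] at h1
        exact h1.symm
      exact hv (e ▸ Subgroup.zpow_mem _ hvk b)
  have hle : Nat.card (W ⊔ Subgroup.zpowers v : Subgroup V) ≤ Nat.card W := hmax _ hnew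
  have heq : W = W ⊔ Subgroup.zpowers v := Subgroup.eq_of_le_of_card_ge le_sup_left hle
  apply hv
  apply Subgroup.mem_sup_right
  rw [heq]
  exact Subgroup.mem_sup_right (Subgroup.mem_zpowers v)

omit [Finite V] in
/-- A complemented subgroup of an abelian group is the image of an idempotent endomorphism. -/
theorem exists_retraction_of_compl (S W : Subgroup V) (h1 : S ⊓ W = ⊥) (h2 : S ⊔ W = ⊤) :
    ∃ φ : V →* V, (∀ v, φ v ∈ S) ∧ (∀ s ∈ S, φ s = s) := by
  have key : ∀ v : V, ∃ s : V, s ∈ S ∧ v * s⁻¹ ∈ W := by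
    intro v
    have hv : v ∈ S ⊔ W := h2 ▸ Subgroup.mem_top v
    obtain ⟨s, hs, w, hw, rfl⟩ := Subgroup.mem_sup.mp hv
    exact ⟨s, hs, by rwa [mul_comm s w, mul_inv_cancel_right]⟩
  have uniq : ∀ v s s' : V, s ∈ S → v * s⁻¹ ∈ W → s' ∈ S → v * s'⁻¹ ∈ W → s = s' := by
    intro v s s' hs hw hs' hw'
    have h3 : s * s'⁻¹ ∈ S ⊓ W := by
      refine ⟨S.mul_mem hs (S.inv_mem hs'), ?_⟩
      have e : s * s'⁻¹ = (v * s'⁻¹) * (v * s⁻¹)⁻¹ := by
        rw [mul_inv, inv_inv, mul_mul_mul_comm, mul_inv_cancel, one_mul, mul_comm]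
      rw [e]
      exact W.mul_mem hw' (W.inv_mem hw)
    rw [h1, Subgroup.mem_bot] at h3
    exact mul_inv_eq_one.mp h3
  choose f hfS hfW using key
  refine ⟨{ toFun := f, map_one' := ?_, map_mul' := ?_ }, hfS, ?_⟩
  · exact uniq 1 _ _ (hfS 1) (hfW 1) S.one_mem (by simp)
  · intro x y
    refine uniq (x * y) _ _ (hfS _) (hfW _) (S.mul_mem (hfS x) (hfS y)) ?_
    have e : x * y * (f x * f y)⁻¹ = (x * (f x)⁻¹) * (y * (f y)⁻¹) := by
      rw [mul_inv, mul_mul_mul_comm]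
    rw [e]
    exact W.mul_mem (hfW x) (hfW y)
  · intro s hs
    exact uniq s _ _ (hfS s) (hfW s) hs (by simp)

/-- Maschke's theorem, commutative-group form. -/
theorem maschke_elemAb_comm {A : Type*} [Group A] [Finite A] {p : ℕ} (hp : p.Prime)
    (hV : ∀ v : V, v ^ p = 1) (hcop : (Nat.card A).Coprime p)
    (α : A → V →* V) (hα1 : ∀ v, α 1 v = v) (hαm : ∀ a b v, α (a * b) v = α a (α b v))
    (S : Subgroup V) (hS : ∀ a, ∀ v ∈ S, α a v ∈ S) :
    ∃ W : Subgroup V, (∀ a, ∀ v ∈ W, α a v ∈ W) ∧ S ⊓ W = ⊥ ∧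
      ∀ v : V, ∃ s ∈ S, ∃ w ∈ W, v = s * w := by
  classical
  have := Fintype.ofFinite A
  obtain ⟨W₀, h1, h2⟩ := elemAb_exists_compl hp hV S
  obtain ⟨φ, hφS, hφid⟩ := exists_retraction_of_compl S W₀ h1 h2
  let ψ : V →* V := ∏ a : A, (α a).comp (φ.comp (α a⁻¹))
  have hψ : ∀ v, ψ v = ∏ a : A, α a (φ (α a⁻¹ v)) := by
    intro v
    simp [ψ]
  have hψS : ∀ v, ψ v ∈ S := by
    intro v
    rw [hψ]
    exact Subgroup.prod_mem _ (fun a _ => hS a _ (hφS _))
  have hψid : ∀ s ∈ S, ψ s = s ^ (Nat.card A) := by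
    intro s hs
    rw [hψ]
    have e : ∀ a : A, α a (φ (α a⁻¹ s)) = s := by
      intro a
      rw [hφid _ (hS a⁻¹ s hs), ← hαm, mul_inv_cancel, hα1]
    simp [e, Finset.prod_const, Nat.card_eq_fintype_card]
  have hψeq : ∀ b v, ψ (α b v) = α b (ψ v) := by
    intro b v
    rw [hψ, hψ, map_prod]
    rw [← Equiv.prod_comp (Equiv.mulLeft b)]
    refine Finset.prod_congr rfl fun a _ => ?_
    simp only [Equiv.coe_mulLeft]
    rw [hαm b a, mul_inv_rev, ← hαm _ b v, inv_mul_cancel_right]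
  refine ⟨ψ.ker, ?_, ?_, ?_⟩
  · intro a v hv
    rw [MonoidHom.mem_ker] at hv ⊢
    rw [hψeq, hv, map_one]
  · rw [eq_bot_iff]
    intro s hsk
    obtain ⟨hs, hk⟩ := Subgroup.mem_inf.mp hsk
    rw [MonoidHom.mem_ker, hψid s hs] at hk
    have h3 : orderOf s ∣ Nat.card A := orderOf_dvd_of_pow_eq_one hk
    have h4 : orderOf s ∣ p := orderOf_dvd_of_pow_eq_one (hV s)
    have h5 : orderOf s = 1 := Nat.eq_one_of_dvd_coprimes hcop h3 h4
    exact orderOf_eq_one_iff.mp h5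
  · intro v
    obtain ⟨n', -, hn'⟩ := Nat.exists_mul_mod_eq_one_of_coprime hcop hp.one_lt
    have hsS : (ψ v) ^ n' ∈ S := S.pow_mem (hψS v) n'
    have hker : v * ((ψ v) ^ n')⁻¹ ∈ ψ.ker := by
      rw [MonoidHom.mem_ker, map_mul, map_inv, hψid _ hsS, ← pow_mul, mul_comm n' _]
      have e : (ψ v) ^ (Nat.card A * n') = ψ v := by
        rw [pow_eq_pow_mod _ (hV (ψ v)), hn', pow_one]
      rw [e, mul_inv_cancel]
    refine ⟨(ψ v) ^ n', hsS, _, hker, ?_⟩
    rw [mul_comm v, mul_inv_cancel_left]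

end comm

/-- Maschke's theorem for a coprime action on an elementary abelian group, stated for a `Group`
with commutativity as a hypothesis (convenient for quotient groups). -/
theorem maschke_elemAb {V : Type*} [Group V] [Finite V] (hcomm : ∀ x y : V, x * y = y * x)
    {A : Type*} [Group A] [Finite A] {p : ℕ} (hp : p.Prime)
    (hV : ∀ v : V, v ^ p = 1) (hcop : (Nat.card A).Coprime p)
    (α : A → V →* V) (hα1 : ∀ v, α 1 v = v) (hαm : ∀ a b v, α (a * b) v = α a (α b v))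
    (S : Subgroup V) (hS : ∀ a, ∀ v ∈ S, α a v ∈ S) :
    ∃ W : Subgroup V, (∀ a, ∀ v ∈ W, α a v ∈ W) ∧ S ⊓ W = ⊥ ∧
      ∀ v : V, ∃ s ∈ S, ∃ w ∈ W, v = s * w := by
  let _ : CommGroup V := { ‹Group V› with mul_comm := hcomm }
  exact maschke_elemAb_comm hp hV hcop α hα1 hαm S hS

end Cfsg.Agent.Helper72
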