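import Mathlib
import Cfsg.Agent.Helper21.PEDefs

/-!
# CALL S2276 (helper21), piece CLS (helper72)
-/

set_option autoImplicit false

namespace Cfsg.Agent.Helper72.PECLS

open Equiv Cfsg.Agent.Helper21.PE

theorem pe_cls : ClsStmt := by
  intro p b ν hp hb hν hin
  by_cases hall : ∀ x ∈ ν, x = p ^ b
  · right
    rw [Multiset.eq_replicate]
    refine ⟨?_, hall⟩
    symm
    rw [Multiset.count_eq_card]
    intro x hx
    exact (hall x hx).symm
  · left
    obtain ⟨x, hx'⟩ := not_forall.mp hall
    obtain ⟨hx, hxne⟩ := Classical.not_imp.mp hx'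
    obtain ⟨c, hc1, hcb, rfl⟩ := hν x hx
    have hcb' : c < b := by
      rcases Nat.lt_or_ge c b with h | h
      · exact h
      · exfalso
        apply hxne
        have : c = b := by omega
        rw [this]
    refine ⟨c, (ν.erase (p ^ c)).filter (fun a => ¬ a = p ^ b), hc1, hcb', ?_, ?_⟩
    · have h1 : ν = p ^ c ::ₘ ν.erase (p ^ c) := (Multiset.cons_erase hx).symm
      have h2 : (ν.erase (p ^ c)).filter (fun a => a = p ^ b) =
          Multiset.replicate (ν.count (p ^ b)) (p ^ b) := by
        rw [Multiset.filter_eq', Multiset.count_erase_of_ne (fun h => hxne h.symm)]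
      rw [← h2, Multiset.filter_add_not]
      exact h1
    · intro y hy
      rw [Multiset.mem_filter] at hy
      obtain ⟨i, hi1, hib, rfl⟩ := hν y (Multiset.mem_of_mem_erase hy.1)
      refine ⟨i, hi1, ?_, rfl⟩
      rcases Nat.lt_or_ge i b with h | h
      · exact h
      · exfalso
        apply hy.2
        have : i = b := by omega
        rw [this]

end Cfsg.Agent.Helper72.PECLS
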