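import Mathlib
import Cfsg.Agent.Helper21.PEDefs

/-!
# CALL S2276 (helper21), piece CYC (helper72)
-/

set_option autoImplicit false

namespace Cfsg.Agent.Helper72.PECYC

open Equiv Cfsg.Agent.Helper21.PE

theorem pe_cyc : CycStmt := by
  intro p X _ _ u k hp hu hord
  have hk : 1 ≤ k := by
    by_contra hk0
    have hk0' : k = 0 := by omega
    rw [hk0', pow_zero] at hord
    exact hu (orderOf_eq_one_iff.mp hord)
  have hmem : ∀ x ∈ u.cycleType, ∃ i, 1 ≤ i ∧ i ≤ k ∧ x = p ^ i := by
    intro x hx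
    have hd : x ∣ p ^ k := hord ▸ Perm.dvd_of_mem_cycleType hx
    have h2 : 2 ≤ x := Perm.two_le_of_mem_cycleType hx
    obtain ⟨i, hik, rfl⟩ := (Nat.dvd_prime_pow hp).mp hd
    refine ⟨i, ?_, hik, rfl⟩
    by_contra hi0
    have hi0' : i = 0 := by omega
    rw [hi0', pow_zero] at h2
    omega
  have hin : p ^ k ∈ u.cycleType := by
    by_contra hnot
    have hdvd : u.cycleType.lcm ∣ p ^ (k - 1) := by
      rw [Multiset.lcm_dvd]
      intro x hx
      obtain ⟨i, hi1, hik, rfl⟩ := hmem x hx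
      have hne : i ≠ k := by
        rintro rfl
        exact hnot hx
      exact pow_dvd_pow p (by omega)
    rw [Perm.lcm_cycleType, hord] at hdvd
    have hle := Nat.le_of_dvd (Nat.pow_pos hp.pos) hdvd
    have hlt : p ^ (k - 1) < p ^ k := Nat.pow_lt_pow_right hp.one_lt (by omega)
    omega
  have hsum : u.cycleType.sum ≤ Fintype.card X := Perm.sum_cycleType_le u
  have hle : p ^ k ≤ u.cycleType.sum := Multiset.le_sum_of_mem hin
  refine ⟨hk, hin, hle.trans hsum, hsum, ?_, hmem⟩
  intro hcard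
  obtain ⟨t, ht⟩ := Multiset.exists_cons_of_mem hin
  have hsum' : u.cycleType.sum = p ^ k + t.sum := by rw [ht, Multiset.sum_cons]
  have ht0 : t = 0 := by
    by_contra hne
    obtain ⟨y, hy⟩ := Multiset.exists_mem_of_ne_zero hne
    have hy2 : 2 ≤ y := Perm.two_le_of_mem_cycleType (by rw [ht]; exact Multiset.mem_cons_of_mem hy)
    have := Multiset.le_sum_of_mem hy
    omega
  rw [ht, ht0, hcard]
  rfl

end Cfsg.Agent.Helper72.PECYC
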