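import Mathlib
import Cfsg.Agent.Helper21.PEDefs

/-!
# CALL S2276 (helper21), piece FIN (helper72)
-/

set_option autoImplicit false

namespace Cfsg.Agent.Helper72.PEFIN

open Equiv Cfsg.Agent.Helper21.PE

theorem pe_fin : FinStmt := by
  intro n p hT u w hu hw hu' hw'
  have hu1 : IsPE p (u : Perm (Fin n)) := by
    refine ⟨fun h => hu (Subtype.ext h), ?_⟩
    obtain ⟨k, hk⟩ := hu'
    exact ⟨k, by rw [Subgroup.orderOf_coe]; exact hk⟩
  have hw1 : IsPE p (w : Perm (Fin n)) := by
    refine ⟨fun h => hw (Subtype.ext h), ?_⟩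
    obtain ⟨k, hk⟩ := hw'
    exact ⟨k, by rw [Subgroup.orderOf_coe]; exact hk⟩
  obtain ⟨g, hg, hgood1, hgood2⟩ := hT (u : Perm (Fin n)) (w : Perm (Fin n)) hu1 hw1
  refine ⟨⟨g, Perm.mem_alternatingGroup.mpr hg⟩, ?_, ?_⟩
  · rintro ⟨k, hk⟩
    apply hgood1
    refine ⟨k, ?_⟩
    rw [← hk, ← Subgroup.orderOf_coe]
    rfl
  · intro hsol
    apply hgood2
    set C : Subgroup (alternatingGroup (Fin n)) :=
      Subgroup.closure ({u, (⟨g, Perm.mem_alternatingGroup.mpr hg⟩ : alternatingGroup (Fin n)) *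
        w * (⟨g, Perm.mem_alternatingGroup.mpr hg⟩ : alternatingGroup (Fin n))⁻¹} :
        Set (alternatingGroup (Fin n))) with hC
    have hmap : C.map (alternatingGroup (Fin n)).subtype =
        Subgroup.closure ({(u : Perm (Fin n)), g * (w : Perm (Fin n)) * g⁻¹} :
          Set (Perm (Fin n))) := by
      rw [hC, MonoidHom.map_closure, Set.image_pair]
      rfl
    rw [← hmap]
    have hsurj : Function.Surjective ((alternatingGroup (Fin n)).subtype.subgroupMap C) :=
      MonoidHom.subgroupMap_surjective _ _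
    exact Group.isSolvable_of_surjective hsurj

end Cfsg.Agent.Helper72.PEFIN
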