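import Mathlib
import Cfsg.Agent.Helper21.PEDefs

/-!
# CALL S2276 (helper21), piece LIFTA (helper72)
-/

set_option autoImplicit false

namespace Cfsg.Agent.Helper72.PELIFTA

open Equiv Cfsg.Agent.Helper21.PE

theorem pe_lifta : LiftaStmt := by
  intro p X Y f u v u' v' hp hf hu hv hgood
  obtain ⟨hg1, hg2⟩ := hgood
  constructor
  · rintro ⟨k, hk⟩
    apply hg1
    have hsemi : ∀ m : ℕ, ∀ x, f (((u * v) ^ m) x) = ((u' * v') ^ m) (f x) := by
      intro m
      induction m with
      | zero => intro x; simp
      | succ m ih =>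
        intro x
        rw [pow_succ', pow_succ', Perm.mul_apply, Perm.mul_apply, Perm.mul_apply, Perm.mul_apply,
          hu, hv, ih]
    have hpow : (u' * v') ^ (p ^ k) = 1 := by
      ext y
      obtain ⟨x, rfl⟩ := hf y
      rw [← hsemi, ← hk, pow_orderOf_eq_one]
      rfl
    have hd : orderOf (u' * v') ∣ p ^ k := orderOf_dvd_of_pow_eq_one hpow
    obtain ⟨j, -, hj⟩ := (Nat.dvd_prime_pow hp).mp hd
    exact ⟨j, hj⟩
  · intro hsol
    apply hg2
    let D : Subgroup (Perm X × Perm Y) := Subgroup.closure {(u, u'), (v, v')}
    have hT : ∀ d ∈ D, ∀ x, f (d.1 x) = d.2 (f x) := by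
      intro d hd
      induction hd using Subgroup.closure_induction with
      | mem d hd =>
        rcases hd with rfl | rfl
        · exact hu
        · exact hv
      | one => intro x; rfl
      | mul a b _ _ ha hb =>
        intro x
        simp only [Prod.fst_mul, Prod.snd_mul, Perm.mul_apply]
        rw [ha, hb]
      | inv a _ ha =>
        intro x
        have h := ha (a.1⁻¹ x)
        simp only [Prod.fst_inv, Prod.snd_inv]
        have e1 : a.1 (a.1⁻¹ x) = x := by
          rw [← Perm.mul_apply, mul_inv_cancel, Perm.one_apply]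
        calc f (a.1⁻¹ x) = a.2⁻¹ (a.2 (f (a.1⁻¹ x))) := by
              rw [← Perm.mul_apply, inv_mul_cancel, Perm.one_apply]
          _ = a.2⁻¹ (f (a.1 (a.1⁻¹ x))) := by rw [h]
          _ = a.2⁻¹ (f x) := by rw [e1]
    have hfst : D.map (MonoidHom.fst (Perm X) (Perm Y)) = Subgroup.closure {u, v} := by
      rw [MonoidHom.map_closure, Set.image_pair]
      rfl
    have hsnd : D.map (MonoidHom.snd (Perm X) (Perm Y)) = Subgroup.closure {u', v'} := by
      rw [MonoidHom.map_closure, Set.image_pair]
      rfl
    have hDsol : Group.IsSolvable D := by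
      let φ : D →* Subgroup.closure ({u, v} : Set (Perm X)) :=
        ((MonoidHom.fst (Perm X) (Perm Y)).comp D.subtype).codRestrict _ (fun d => by
          rw [← hfst]
          exact Subgroup.mem_map_of_mem _ d.2)
      have hinj : Function.Injective φ := by
        rw [injective_iff_map_eq_one]
        intro d hd
        have h1 : (d : Perm X × Perm Y).1 = 1 := congrArg Subtype.val hd
        have h2 : (d : Perm X × Perm Y).2 = 1 := by
          ext y
          obtain ⟨x, rfl⟩ := hf y
          rw [← hT d d.2 x, h1]
          rfl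
        exact Subtype.ext (Prod.ext h1 h2)
      exact Group.isSolvable_of_isSolvable_injective hinj
    rw [← hsnd]
    exact Group.isSolvable_of_surjective
      (MonoidHom.subgroupMap_surjective (MonoidHom.snd (Perm X) (Perm Y)) D)

end Cfsg.Agent.Helper72.PELIFTA
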