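import Mathlib
import Cfsg.Agent.Helper21.PEDefs

/-!
# CALL S2276 (helper21): toolkit for the transfer pieces TR / TR2 (helper72)

* `good_mulEquiv` : `Good` is reflected by a group isomorphism of the symmetric groups;
* `good_conj` : `Good` is invariant under simultaneous conjugation;
* `cycleType_permCongr` : `Equiv.permCongr` preserves the cycle type;
* `concl_of_equiv` : transport of the conclusion along an equivalence of the underlying types.
-/

set_option autoImplicit false

namespace Cfsg.Agent.Helper72.PETRK

open Equiv Cfsg.Agent.Helper21.PE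

theorem good_mulEquiv {p : ℕ} {X Y : Type} (φ : Perm X ≃* Perm Y) (u v : Perm X)
    (h : Good p (φ u) (φ v)) : Good p u v := by
  obtain ⟨h1, h2⟩ := h
  constructor
  · rintro ⟨k, hk⟩
    apply h1
    refine ⟨k, ?_⟩
    rw [← map_mul, MulEquiv.orderOf_eq]
    exact hk
  · intro hsol
    apply h2
    have hmap : (Subgroup.closure ({u, v} : Set (Perm X))).map φ.toMonoidHom =
        Subgroup.closure {φ u, φ v} := by
      rw [MonoidHom.map_closure, Set.image_pair]
      rfl
    rw [← hmap]
    exact Group.isSolvable_of_surjective (MonoidHom.subgroupMap_surjective φ.toMonoidHom _)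

theorem good_conj {p : ℕ} {Y : Type} (a u v : Perm Y)
    (h : Good p (a * u * a⁻¹) (a * v * a⁻¹)) : Good p u v :=
  good_mulEquiv (MulAut.conj a) u v h

theorem cycleType_permCongr {X Y : Type} [Fintype X] [DecidableEq X] [Fintype Y] [DecidableEq Y]
    (e : X ≃ Y) (g : Perm X) : (e.permCongr g).cycleType = g.cycleType := by
  have h := Perm.cycleType_extendDomain
    (e.trans (Equiv.subtypeUnivEquiv (p := fun _ : Y => True) (fun _ => trivial)).symm) (g := g)
  rw [← h]
  congr 1

theorem concl_of_equiv {p : ℕ} {X Y : Type} [Fintype X] [DecidableEq X] [Fintype Y]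
    [DecidableEq Y] (e : X ≃ Y) (u w : Perm X) (g : Perm Y) (hs : Perm.sign g = 1)
    (hG : Good p (e.permCongr u) (g * e.permCongr w * g⁻¹)) : Concl p u w := by
  refine ⟨e.symm.permCongr g, ?_, ?_⟩
  · rw [Perm.sign_permCongr]
    exact hs
  · apply good_mulEquiv e.permCongrHom
    have h2 : e.permCongrHom (e.symm.permCongr g) = g := by
      ext y
      simp [Equiv.permCongrHom, Equiv.permCongr_apply]
    have h1 : e.permCongrHom (e.symm.permCongr g * w * (e.symm.permCongr g)⁻¹) =
        g * e.permCongr w * g⁻¹ := by
      rw [map_mul, map_mul, map_inv, h2]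
      rfl
    rw [h1]
    exact hG

end Cfsg.Agent.Helper72.PETRK
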