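import Mathlib
import Cfsg.Agent.Helper21.PEDefs
import Cfsg.Agent.Helper72.PETRK

/-!
# CALL S2276 (helper21), piece TR (helper72)
-/

set_option autoImplicit false

namespace Cfsg.Agent.Helper72.PETR

open Equiv Cfsg.Agent.Helper21.PE Cfsg.Agent.Helper72.PETRK

theorem pe_tr : TrStmt := by
  intro p X Y _ _ _ _ u w u₀ v₀ hcard hu hw hgood hc
  obtain ⟨c, hc, hcc⟩ := hc
  let e : X ≃ Y := Fintype.equivOfCardEq hcard
  have hu' : (e.permCongr u).cycleType = u₀.cycleType := by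
    rw [hu]
    exact cycleType_permCongr e u
  have hw' : (e.permCongr w).cycleType = v₀.cycleType := by
    rw [hw]
    exact cycleType_permCongr e w
  obtain ⟨h1, hh1⟩ := isConj_iff.mp (Perm.isConj_iff_cycleType_eq.mpr hu')
  obtain ⟨h2, hh2⟩ := isConj_iff.mp (Perm.isConj_iff_cycleType_eq.mpr hw')
  obtain ⟨k1, k2, hk1, hk2, hsgn⟩ : ∃ k1 k2 : Perm Y, k1 * e.permCongr u * k1⁻¹ = u₀ ∧
      k2 * e.permCongr w * k2⁻¹ = v₀ ∧ Perm.sign (k1⁻¹ * k2) = 1 := by
    rcases Int.units_eq_one_or (Perm.sign (h1⁻¹ * h2)) with hs | hs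
    · exact ⟨h1, h2, hh1, hh2, hs⟩
    · rcases hcc with hcv | hcu
      · refine ⟨h1, c * h2, hh1, ?_, ?_⟩
        · calc c * h2 * e.permCongr w * (c * h2)⁻¹
              = c * (h2 * e.permCongr w * h2⁻¹) * c⁻¹ := by group
            _ = c * v₀ * c⁻¹ := by rw [hh2]
            _ = v₀ := by rw [hcv]; group
        · have h3 : Perm.sign (h1⁻¹ * (c * h2)) = Perm.sign c * Perm.sign (h1⁻¹ * h2) := by
            simp only [Perm.sign_mul]
            rw [mul_left_comm]
          rw [h3, hc, hs]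
          rfl
      · refine ⟨c * h1, h2, ?_, hh2, ?_⟩
        · calc c * h1 * e.permCongr u * (c * h1)⁻¹
              = c * (h1 * e.permCongr u * h1⁻¹) * c⁻¹ := by group
            _ = c * u₀ * c⁻¹ := by rw [hh1]
            _ = u₀ := by rw [hcu]; group
        · have h3 : Perm.sign ((c * h1)⁻¹ * h2) = Perm.sign c * Perm.sign (h1⁻¹ * h2) := by
            simp only [Perm.sign_mul, Perm.sign_inv, mul_inv_rev]
            rw [mul_comm (Perm.sign h1) (Perm.sign c), mul_assoc]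
          rw [h3, hc, hs]
          rfl
  apply concl_of_equiv e u w (k1⁻¹ * k2) hsgn
  apply good_conj k1
  have h3 : k1 * (k1⁻¹ * k2 * e.permCongr w * (k1⁻¹ * k2)⁻¹) * k1⁻¹ = v₀ := by
    rw [← hk2]
    group
  rw [hk1, h3]
  exact hgood

end Cfsg.Agent.Helper72.PETR
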