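import Mathlib
import Cfsg.Agent.Helper21.PEDefs
import Cfsg.Agent.Helper72.PETRK

/-!
# CALL S2276 (helper21), piece TR2 (helper72)
-/

set_option autoImplicit false

namespace Cfsg.Agent.Helper72.PETR2

open Equiv Cfsg.Agent.Helper21.PE Cfsg.Agent.Helper72.PETRK

theorem pe_tr2 : Tr2Stmt := by
  intro p n X _ _ u w π₁ π₂ hcard hu hw hs1 hs2 hg1 hg2
  have hn2 : 2 ≤ n :=
    Perm.two_le_of_mem_cycleType (σ := u) (by rw [hu]; exact Multiset.mem_singleton_self n)
  let e : X ≃ Fin n := Fintype.equivOfCardEq (by rw [hcard, Fintype.card_fin])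
  have hσ : (finRotate n).cycleType = {n} := cycleType_finRotate_of_le hn2
  have hu' : (e.permCongr u).cycleType = (finRotate n).cycleType := by
    rw [hσ, ← hu]
    exact cycleType_permCongr e u
  have hw' : (e.permCongr w).cycleType = (finRotate n).cycleType := by
    rw [hσ, ← hw]
    exact cycleType_permCongr e w
  obtain ⟨h1, hh1⟩ := isConj_iff.mp (Perm.isConj_iff_cycleType_eq.mpr hu')
  obtain ⟨h2, hh2⟩ := isConj_iff.mp (Perm.isConj_iff_cycleType_eq.mpr hw')
  obtain ⟨π, hπ, hgπ⟩ : ∃ π : Perm (Fin n), Perm.sign (h1⁻¹ * π * h2) = 1 ∧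
      Good p (finRotate n) (π * finRotate n * π⁻¹) := by
    have h3 : ∀ π : Perm (Fin n),
        Perm.sign (h1⁻¹ * π * h2) = Perm.sign π * Perm.sign (h1⁻¹ * h2) := by
      intro π
      simp only [Perm.sign_mul]
      rw [mul_comm (Perm.sign h1⁻¹) (Perm.sign π), mul_assoc]
    rcases Int.units_eq_one_or (Perm.sign (h1⁻¹ * h2)) with hs | hs
    · refine ⟨π₁, ?_, hg1⟩
      rw [h3, hs1, hs]
      rfl
    · refine ⟨π₂, ?_, hg2⟩
      rw [h3, hs2, hs]
      rfl
  apply concl_of_equiv e u w (h1⁻¹ * π * h2) hπ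
  apply good_conj h1
  have h3 : h1 * (h1⁻¹ * π * h2 * e.permCongr w * (h1⁻¹ * π * h2)⁻¹) * h1⁻¹ =
      π * finRotate n * π⁻¹ := by
    rw [← hh2]
    group
  rw [hh1, h3]
  exact hgπ

end Cfsg.Agent.Helper72.PETR2
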