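import Mathlib

set_option autoImplicit false

namespace Cfsg.Agent.Helper72

open Subgroup

universe u

variable {Γ : Type u} [Group Γ] [Finite Γ]

/-- PIECE G4 of CALL SL2L (fixed line). -/
theorem sl2l_fixed_line {p s : ℕ} (hp : p.Prime) (hs : s.Prime) (hs2 : s ≠ 2) (hsp : s ∣ p - 1)
    {P Z : Subgroup Γ}
    (hlines : Nat.card {L : Subgroup Γ // Z ≤ L ∧ L ≤ P ∧ Nat.card L = p ^ 2} = p + 1)
    {k : Γ} (hks : orderOf k = s) (hkP : ∀ a ∈ P, k * a * k⁻¹ ∈ P)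
    (hkZ : ∀ z ∈ Z, k * z = z * k) :
    ∃ L : Subgroup Γ, Z ≤ L ∧ L ≤ P ∧ Nat.card L = p ^ 2 ∧ ∀ a ∈ L, k * a * k⁻¹ ∈ L := by
  classical
  have hfin : Finite {L : Subgroup Γ // Z ≤ L ∧ L ≤ P ∧ Nat.card L = p ^ 2} :=
    Nat.finite_of_card_ne_zero (by rw [hlines]; omega)
  have hmapZ : ∀ n : ℕ, ∀ z ∈ Z, k ^ n * z * (k ^ n)⁻¹ = z := by
    intro n z hz
    have h1 : Commute k z := hkZ z hz
    have h2 : Commute (k ^ n) z := h1.pow_left n
    rw [h2.eq, mul_inv_cancel_right]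
  have hmapP : ∀ n : ℕ, ∀ a ∈ P, k ^ n * a * (k ^ n)⁻¹ ∈ P := by
    intro n
    induction n with
    | zero => intro a ha; simpa using ha
    | succ n ih =>
      intro a ha
      have h3 := hkP _ (ih a ha)
      have e : k ^ (n + 1) * a * (k ^ (n + 1))⁻¹ = k * (k ^ n * a * (k ^ n)⁻¹) * k⁻¹ := by
        rw [pow_succ']; group
      rw [e]; exact h3
  let F : ℕ → {L : Subgroup Γ // Z ≤ L ∧ L ≤ P ∧ Nat.card L = p ^ 2} →
      {L : Subgroup Γ // Z ≤ L ∧ L ≤ P ∧ Nat.card L = p ^ 2} := fun n L =>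
    ⟨L.1.map (MulAut.conj (k ^ n)).toMonoidHom, by
      obtain ⟨L, hZL, hLP, hLc⟩ := L
      refine ⟨?_, ?_, ?_⟩
      · intro z hz
        exact ⟨z, hZL hz, hmapZ n z hz⟩
      · rintro _ ⟨a, ha, rfl⟩
        exact hmapP n a (hLP ha)
      · exact (Nat.card_congr
          (L.equivMapOfInjective _ (MulAut.conj (k ^ n)).injective).toEquiv).symm.trans hLc⟩
  have hF1inj : Function.Injective (F 1) := by
    intro L L' h
    have h' : L.1.map (MulAut.conj (k ^ 1)).toMonoidHom = L'.1.map (MulAut.conj (k ^ 1)).toMonoidHom :=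
      congrArg Subtype.val h
    exact Subtype.ext (Subgroup.map_injective (MulAut.conj (k ^ 1)).injective h')
  have hFsucc : ∀ n : ℕ, ∀ L, F (n + 1) L = F 1 (F n L) := by
    intro n L
    apply Subtype.ext
    show L.1.map (MulAut.conj (k ^ (n + 1))).toMonoidHom =
      (L.1.map (MulAut.conj (k ^ n)).toMonoidHom).map (MulAut.conj (k ^ 1)).toMonoidHom
    rw [Subgroup.map_map]
    congr 1
    ext a
    simp [pow_succ', mul_assoc]
  have hF0 : ∀ L, F 0 L = L := by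
    intro L
    apply Subtype.ext
    show L.1.map (MulAut.conj (k ^ 0)).toMonoidHom = L.1
    ext a
    simp
  let σ : Equiv.Perm {L : Subgroup Γ // Z ≤ L ∧ L ≤ P ∧ Nat.card L = p ^ 2} :=
    Equiv.ofBijective (F 1) (Finite.injective_iff_bijective.mp hF1inj)
  have hσn : ∀ n : ℕ, ∀ L, (σ ^ n) L = F n L := by
    intro n
    induction n with
    | zero => intro L; simp [hF0]
    | succ n ih =>
      intro L
      rw [pow_succ' σ n, Equiv.Perm.mul_apply, ih, hFsucc]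
      rfl
  have hσs : σ ^ s ^ 1 = 1 := by
    refine Equiv.ext fun L => ?_
    rw [pow_one s, hσn]
    apply Subtype.ext
    show L.1.map (MulAut.conj (k ^ s)).toMonoidHom = L.1
    rw [← hks, pow_orderOf_eq_one]
    ext a
    simp
  have hnd : ¬ s ∣ p + 1 := by
    intro h
    have hp2 := hp.two_le
    have h2 : s ∣ 2 := by
      have : p + 1 = (p - 1) + 2 := by omega
      rw [this] at h
      exact (Nat.dvd_add_right hsp).mp h
    exact hs2 ((Nat.prime_dvd_prime_iff_eq hs Nat.prime_two).mp h2)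
  have := Fintype.ofFinite {L : Subgroup Γ // Z ≤ L ∧ L ≤ P ∧ Nat.card L = p ^ 2}
  have hs' : Fact s.Prime := ⟨hs⟩
  have hcard : ¬ s ∣ Fintype.card {L : Subgroup Γ // Z ≤ L ∧ L ≤ P ∧ Nat.card L = p ^ 2} := by
    rw [← Nat.card_eq_fintype_card, hlines]; exact hnd
  obtain ⟨L, hL⟩ := Equiv.Perm.exists_fixed_point_of_prime hcard hσs
  refine ⟨L.1, L.2.1, L.2.2.1, L.2.2.2, ?_⟩
  intro a ha
  have h1 : (F 1 L).1 = L.1 := congrArg Subtype.val hL
  have h2 : k * a * k⁻¹ ∈ (F 1 L).1 := ⟨a, ha, by simp⟩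
  rw [h1] at h2
  exact h2

end Cfsg.Agent.Helper72
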