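import Mathlib
import Cfsg.Agent.Helper71.SQDefs
import Cfsg.Agent.Helper58.SOTools
import Cfsg.Agent.Helper72.SQZB1

/-!
# CALL S5867 (helper71), PIECE ZB2: `levi_lift` (helper72)

A graded `k` (output of `levi_graded`) is `(A ⊗ B) ρ` with `A` a similarity of `J` and `ρ` in the
unipotent radical `Q_a`.
-/

set_option autoImplicit false
set_option linter.unusedVariables false

namespace Cfsg.Agent.Helper72.SQZB2

open Matrix Cfsg.Agent.Helper71.T4 Cfsg.Agent.Helper71.SO Cfsg.Agent.Helper71.SQ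
open Cfsg.Agent.Helper96.T5 Cfsg.Agent.Helper58.SOT
open scoped Kronecker

variable {F : Type*} [Field F] {m n : ℕ}

/-- the explicit lift of `A₁` -/
theorem lift_exists (J : Matrix (Fin m) (Fin m) F) (a a₁ : Fin m → F)
    (A₁ : Matrix (Fin m) (Fin m) F) (ν : F) :
    ∃ A : Matrix (Fin m) (Fin m) F, ∀ x : Fin m → F,
      A *ᵥ x = A₁ *ᵥ (x - bl J a x • a₁)
        + (bl J (x - bl J a x • a₁) a₁ - bl J (A₁ *ᵥ (x - bl J a x • a₁)) a₁) • a
        + (ν * bl J a x) • a₁ := by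
  let φ : (Fin m → F) →ₗ[F] F := IsLinearMap.mk' (fun x => bl J a x)
    ⟨fun x y => bl_add_right J a x y, fun c x => by simp [bl_smul_right]⟩
  let ψ : (Fin m → F) →ₗ[F] F := IsLinearMap.mk' (fun x => bl J x a₁)
    ⟨fun x y => bl_add_left J x y a₁, fun c x => by simp [bl_smul_left]⟩
  let Alin : (Fin m → F) →ₗ[F] (Fin m → F) :=
    (Matrix.toLin' A₁ + (ψ - ψ ∘ₗ Matrix.toLin' A₁).smulRight a) ∘ₗ
      (LinearMap.id - φ.smulRight a₁) + (ν • φ).smulRight a₁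
  refine ⟨LinearMap.toMatrix' Alin, fun x => ?_⟩
  rw [LinearMap.toMatrix'_mulVec]
  simp [Alin, φ, ψ]

/-! ## Piece ZB2 -/
theorem levi_lift (hn : 0 < n) (h2 : (2 : F) ≠ 0) (J : Matrix (Fin m) (Fin m) F)
    (hJ : Jᵀ = -J) (hdetJ : J.det ≠ 0) (S : Matrix (Fin n) (Fin n) F) (hS : Sᵀ = S)
    (hdetS : S.det ≠ 0) (a a₁ : Fin m → F) (ha : a ≠ 0) (haa₁ : bl J a a₁ = 1)
    (k : Matrix (Fin m × Fin n) (Fin m × Fin n) F)
    (B : Matrix (Fin n) (Fin n) F) (A₁ : Matrix (Fin m) (Fin m) F) (μ ν : F)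
    (hνμ : ν * μ = 1) (hB : Bᵀ * S * B = μ • S)
    (hk0 : ∀ b : Fin n → F, k *ᵥ pt a b = pt a (B *ᵥ b))
    (hk1 : ∀ y : Fin m → F, bl J a y = 0 → bl J a (A₁ *ᵥ y) = 0)
    (hk2 : ∀ y y' : Fin m → F, bl J a y = 0 → bl J a y' = 0 →
      bl J (A₁ *ᵥ y) (A₁ *ᵥ y') = ν * bl J y y')
    (hk3 : ∀ (y : Fin m → F) (b : Fin n → F), bl J a y = 0 → ∃ d : Fin n → F,
      k *ᵥ pt y b = pt (A₁ *ᵥ y) (B *ᵥ b) + pt a d) :
    ∃ (A : Matrix (Fin m) (Fin m) F) (ρ : Matrix (Fin m × Fin n) (Fin m × Fin n) F),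
      Aᵀ * J * A = ν • J ∧ k = (A ⊗ₖ B) * ρ ∧
      (∀ b : Fin n → F, ρ *ᵥ pt a b = pt a b) ∧
      (∀ (y : Fin m → F) (b : Fin n → F), bl J a y = 0 → ∃ b' : Fin n → F,
        ρ *ᵥ pt y b = pt y b + pt a b') := by
  classical
  have hJsw : ∀ x y : Fin m → F, bl J x y = - bl J y x := by
    intro x y
    unfold bl
    rw [Matrix.dotProduct_mulVec, ← Matrix.mulVec_transpose, hJ, Matrix.neg_mulVec,
      neg_dotProduct, dotProduct_comm]
  have hJalt : ∀ x : Fin m → F, bl J x x = 0 := by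
    intro x
    have e1 := hJsw x x
    have e2 : (2 : F) * bl J x x = 0 := by linear_combination e1
    rcases mul_eq_zero.mp e2 with h | h
    · exact absurd h h2
    · exact h
  have haa : bl J a a = 0 := hJalt a
  have ha₁a₁ : bl J a₁ a₁ = 0 := hJalt a₁
  have hν0 : ν ≠ 0 := left_ne_zero_of_mul_eq_one hνμ
  have hμ0 : μ ≠ 0 := right_ne_zero_of_mul_eq_one hνμ
  -- `B` is invertible
  have hdetB : B.det ≠ 0 := by
    intro h
    have h1 := congrArg Matrix.det hB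
    rw [Matrix.det_mul, Matrix.det_mul, Matrix.det_transpose, h, Matrix.det_smul] at h1
    exact mul_ne_zero (pow_ne_zero _ hμ0) hdetS (by rw [← h1]; ring)
  have hBi : B⁻¹ * B = 1 := Matrix.nonsing_inv_mul B (isUnit_iff_ne_zero.mpr hdetB)
  have hBi' : B * B⁻¹ = 1 := Matrix.mul_nonsing_inv B (isUnit_iff_ne_zero.mpr hdetB)
  -- the lift
  obtain ⟨A, hA⟩ := lift_exists J a a₁ A₁ ν
  have hAy : ∀ y : Fin m → F, bl J a y = 0 →
      A *ᵥ y = A₁ *ᵥ y + (bl J y a₁ - bl J (A₁ *ᵥ y) a₁) • a := by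
    intro y hy
    rw [hA, hy]
    simp
  have hAa₁ : A *ᵥ a₁ = ν • a₁ := by
    rw [hA, haa₁]
    simp [bl_zero_left]
  have hpy : ∀ x : Fin m → F, bl J a (x - bl J a x • a₁) = 0 := by
    intro x
    rw [bl_sub_right, bl_smul_right, haa₁]
    ring
  have hAx : ∀ x : Fin m → F,
      A *ᵥ x = A *ᵥ (x - bl J a x • a₁) + bl J a x • ν • a₁ := by
    intro x
    have h : A *ᵥ ((x - bl J a x • a₁) + bl J a x • a₁)
        = A *ᵥ (x - bl J a x • a₁) + bl J a x • ν • a₁ := by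
      rw [Matrix.mulVec_add, Matrix.mulVec_smul, hAa₁]
    rwa [sub_add_cancel] at h
  have hs1 : ∀ y y' : Fin m → F, bl J a y = 0 → bl J a y' = 0 →
      bl J (A *ᵥ y) (A *ᵥ y') = ν * bl J y y' := by
    intro y y' hy hy'
    rw [hAy y hy, hAy y' hy']
    simp only [bl_add_left, bl_add_right, bl_smul_left, bl_smul_right, hk2 y y' hy hy',
      hk1 y' hy', haa, hJsw (A₁ *ᵥ y) a, hk1 y hy]
    ring
  have hs2 : ∀ y : Fin m → F, bl J a y = 0 → bl J (A *ᵥ y) a₁ = bl J y a₁ := by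
    intro y hy
    rw [hAy y hy, bl_add_left, bl_smul_left, haa₁]
    ring
  have hsim : ∀ x x' : Fin m → F, bl J (A *ᵥ x) (A *ᵥ x') = ν * bl J x x' := by
    intro x x'
    have e1 := hs1 _ _ (hpy x) (hpy x')
    have e2 := hs2 _ (hpy x)
    have e3 : bl J a₁ (A *ᵥ (x' - bl J a x' • a₁)) = - bl J (x' - bl J a x' • a₁) a₁ := by
      rw [hJsw, hs2 _ (hpy x')]
    have hx : bl J x x' = bl J (x - bl J a x • a₁) (x' - bl J a x' • a₁)
        + bl J a x' * bl J (x - bl J a x • a₁) a₁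
        - bl J a x * bl J (x' - bl J a x' • a₁) a₁ := by
      simp only [bl_sub_left, bl_sub_right, bl_smul_left, bl_smul_right, ha₁a₁, hJsw a₁ x']
      ring
    rw [hAx x, hAx x']
    simp only [bl_add_left, bl_add_right, bl_smul_left, bl_smul_right]
    rw [e1, e2, e3, ha₁a₁, hx]
    ring
  have hAmat : Aᵀ * J * A = ν • J := by
    apply mat_eq_of_bl
    intro x y
    have e : x ⬝ᵥ (Aᵀ * J * A) *ᵥ y = bl J (A *ᵥ x) (A *ᵥ y) := by
      unfold bl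
      rw [Matrix.mul_assoc, ← Matrix.mulVec_mulVec, Matrix.dotProduct_mulVec,
        Matrix.vecMul_transpose, ← Matrix.mulVec_mulVec]
    rw [e, hsim, Matrix.smul_mulVec, dotProduct_smul, smul_eq_mul]
    rfl
  have hdetA : A.det ≠ 0 := by
    intro h
    have h1 := congrArg Matrix.det hAmat
    rw [Matrix.det_mul, Matrix.det_mul, Matrix.det_transpose, h, Matrix.det_smul] at h1
    exact mul_ne_zero (pow_ne_zero _ hν0) hdetJ (by rw [← h1]; ring)
  have hAi : A⁻¹ * A = 1 := Matrix.nonsing_inv_mul A (isUnit_iff_ne_zero.mpr hdetA)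
  have hAi' : A * A⁻¹ = 1 := Matrix.mul_nonsing_inv A (isUnit_iff_ne_zero.mpr hdetA)
  -- `A a = a`
  obtain ⟨b₀, l₀, hb₀⟩ : ∃ (b₀ : Fin n → F) (l₀ : Fin n), (B *ᵥ b₀) l₀ ≠ 0 := by
    by_contra hcon
    push Not at hcon
    have h0 : (Pi.single (⟨0, hn⟩ : Fin n) (1 : F) : Fin n → F) = 0 := by
      have h1 : B *ᵥ (Pi.single (⟨0, hn⟩ : Fin n) (1 : F) : Fin n → F) = 0 :=
        funext fun l => hcon _ l
      have h3 := congrArg (fun v => B⁻¹ *ᵥ v) h1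
      simp only [Matrix.mulVec_mulVec, hBi, Matrix.one_mulVec, Matrix.mulVec_zero] at h3
      exact h3
    have h4 := congrFun h0 ⟨0, hn⟩
    simp at h4
  have hAa : A *ᵥ a = a := by
    obtain ⟨d, hd⟩ := hk3 a b₀ haa
    rw [hk0] at hd
    have hc : A₁ *ᵥ a = (((B *ᵥ b₀) l₀ - d l₀) / (B *ᵥ b₀) l₀) • a := by
      ext i
      have h3 := congrFun hd (i, l₀)
      simp only [pt, Pi.add_apply, Pi.smul_apply, smul_eq_mul] at h3 ⊢
      field_simp
      linear_combination -h3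
    rw [hAy a haa, hc, bl_smul_left, haa₁]
    ext i
    simp only [Pi.add_apply, Pi.smul_apply, smul_eq_mul]
    field_simp
    ring
  have hAia : A⁻¹ *ᵥ a = a := by
    have h3 := congrArg (fun v => A⁻¹ *ᵥ v) hAa
    simp only [Matrix.mulVec_mulVec, hAi, Matrix.one_mulVec] at h3
    exact h3.symm
  refine ⟨A, (A⁻¹ ⊗ₖ B⁻¹) * k, hAmat, ?_, ?_, ?_⟩
  · rw [← Matrix.mul_assoc, ← Matrix.mul_kronecker_mul, hAi', hBi', Matrix.one_kronecker_one,
      Matrix.one_mul]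
  · intro b
    rw [← Matrix.mulVec_mulVec, hk0, kron_mulVec_pt, hAia, Matrix.mulVec_mulVec, hBi,
      Matrix.one_mulVec]
  · intro y b hy
    obtain ⟨d, hd⟩ := hk3 y b hy
    obtain ⟨g, hg⟩ : ∃ g : F, A₁ *ᵥ y = A *ᵥ y - g • a :=
      ⟨_, by rw [hAy y hy, add_sub_cancel_right]⟩
    refine ⟨B⁻¹ *ᵥ d - g • b, ?_⟩
    rw [← Matrix.mulVec_mulVec, hd, Matrix.mulVec_add, kron_mulVec_pt, kron_mulVec_pt, hg,
      Matrix.mulVec_sub, Matrix.mulVec_smul, Matrix.mulVec_mulVec, hAi, Matrix.one_mulVec, hAia,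
      Matrix.mulVec_mulVec, hBi, Matrix.one_mulVec]
    ext ⟨i, l⟩
    simp only [pt, Pi.add_apply, Pi.sub_apply, Pi.smul_apply, smul_eq_mul]
    ring

end Cfsg.Agent.Helper72.SQZB2
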