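import Mathlib
import Cfsg.Prelude.Def_GeometricClasses

/-!
# CALL S5981 (helper98): toolkit for the diagonal pieces DBA / DBB / DBC (helper72)

* `dg d hd` : the element `diagonal d` of `GL (Fin n) F` (all `d i ≠ 0`);
* `cnt d l` : the multiplicity of `l` among the values of `d`, with `cnt_cons`, `cnt_const`;
* `count_symm` : if a conjugate of `dg d` lies in a subgroup all of whose elements satisfy
  `rank (y - l) = rank (y - c / l)`, then the multiplicities of `d` are symmetric under `l ↦ c / l`.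
-/

set_option autoImplicit false
open Matrix Polynomial

namespace Cfsg.Agent.Helper72.THDBK

variable {F : Type*} [Field F]

/-- The diagonal element of `GL (Fin n) F` with entries `d`. -/
noncomputable def dg {n : ℕ} (d : Fin n → F) (hd : ∀ i, d i ≠ 0) : GL (Fin n) F :=
  ⟨Matrix.diagonal d, Matrix.diagonal (fun i => (d i)⁻¹), by
    rw [Matrix.diagonal_mul_diagonal, ← Matrix.diagonal_one]
    congr 1
    funext i
    exact mul_inv_cancel₀ (hd i), by
    rw [Matrix.diagonal_mul_diagonal, ← Matrix.diagonal_one]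
    congr 1
    funext i
    exact inv_mul_cancel₀ (hd i)⟩

theorem dg_val {n : ℕ} (d : Fin n → F) (hd : ∀ i, d i ≠ 0) :
    ((dg d hd : GL (Fin n) F) : Matrix (Fin n) (Fin n) F) = Matrix.diagonal d := rfl

theorem dg_mem_sl {n : ℕ} (d : Fin n → F) (hd : ∀ i, d i ≠ 0) (h : ∏ i, d i = 1) :
    dg d hd ∈ Cfsg.Geo.specialLinear (Fin n) F := by
  show Matrix.GeneralLinearGroup.det (dg d hd) = 1
  apply Units.ext
  rw [Matrix.GeneralLinearGroup.val_det_apply, dg_val, Matrix.det_diagonal, h]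
  rfl

theorem dg_pow_val {n : ℕ} (d : Fin n → F) (hd : ∀ i, d i ≠ 0) (r : ℕ) :
    ((dg d hd ^ r : GL (Fin n) F) : Matrix (Fin n) (Fin n) F) =
      Matrix.diagonal (fun i => d i ^ r) := by
  rw [Units.val_pow_eq_pow_val, dg_val, Matrix.diagonal_pow]
  rfl

theorem dg_pow_one {n : ℕ} (d : Fin n → F) (hd : ∀ i, d i ≠ 0) (r : ℕ) (h : ∀ i, d i ^ r = 1) :
    dg d hd ^ r = 1 := by
  apply Units.ext
  rw [dg_pow_val, Units.val_one, ← Matrix.diagonal_one]
  congr 1
  funext i
  exact h i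

theorem dg_pow_scalar {n : ℕ} (d : Fin n → F) (hd : ∀ i, d i ≠ 0) (r : ℕ) (z : F)
    (h : ∀ i, d i ^ r = z) :
    ((dg d hd ^ r : GL (Fin n) F) : Matrix (Fin n) (Fin n) F) =
      z • (1 : Matrix (Fin n) (Fin n) F) := by
  rw [dg_pow_val, Matrix.smul_one_eq_diagonal]
  congr 1
  funext i
  exact h i

theorem dg_not_scalar {n : ℕ} (d : Fin n → F) (hd : ∀ i, d i ≠ 0) (i j : Fin n)
    (hij : d i ≠ d j) (z : F) :
    ((dg d hd : GL (Fin n) F) : Matrix (Fin n) (Fin n) F) ≠ z • (1 : Matrix (Fin n) (Fin n) F) := by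
  intro h
  rw [dg_val] at h
  have h1 := congrFun (congrFun h i) i
  have h2 := congrFun (congrFun h j) j
  simp only [Matrix.diagonal_apply_eq, Matrix.smul_apply, Matrix.one_apply_eq, smul_eq_mul,
    mul_one] at h1 h2
  exact hij (h1.trans h2.symm)

omit [Field F] in
theorem cons_all {p : F → Prop} {n : ℕ} (a : F) (d : Fin n → F) (ha : p a) (hd : ∀ i, p (d i)) :
    ∀ i, p (Matrix.vecCons a d i) := by
  intro i
  refine Fin.cases ?_ (fun j => ?_) i
  · rw [Matrix.cons_val_zero]; exact ha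
  · rw [Matrix.cons_val_succ]; exact hd j

theorem prod_cons {n : ℕ} (a : F) (d : Fin n → F) :
    ∏ i, Matrix.vecCons a d i = a * ∏ i, d i := by
  rw [Fin.prod_univ_succ]
  simp only [Matrix.cons_val_zero, Matrix.cons_val_succ]

section cnt

open Classical

/-- The multiplicity of `l` among the values of `d`. -/
noncomputable def cnt {n : ℕ} (d : Fin n → F) (l : F) : ℕ :=
  (Finset.univ.filter (fun j => d j = l)).card

omit [Field F] in
theorem cnt_cons {n : ℕ} (a : F) (d : Fin n → F) (l : F) :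
    cnt (Matrix.vecCons a d) l = (if a = l then 1 else 0) + cnt d l := by
  unfold cnt
  rw [Finset.card_filter, Finset.card_filter, Fin.sum_univ_succ]
  simp only [Matrix.cons_val_zero, Matrix.cons_val_succ]
  congr 1

omit [Field F] in
theorem cnt_const (n : ℕ) (a : F) (l : F) :
    cnt (fun _ : Fin n => a) l = if a = l then n else 0 := by
  unfold cnt
  split_ifs with h
  · simp [h]
  · simp [h]

theorem cnt_add_card {n : ℕ} (d : Fin n → F) (l : F) :
    cnt d l + Fintype.card {i : Fin n // d i - l ≠ 0} = n := by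
  unfold cnt
  rw [Fintype.card_subtype]
  have h1 : (Finset.univ.filter (fun i : Fin n => d i - l ≠ 0)) =
      Finset.univ.filter (fun i : Fin n => ¬ d i = l) := by
    apply Finset.filter_congr
    intro x _
    exact sub_ne_zero
  rw [h1, Finset.card_filter_add_card_filter_not, Finset.card_univ, Fintype.card_fin]

theorem rank_conj_dg {n : ℕ} (d : Fin n → F) (hd : ∀ i, d i ≠ 0) (g : GL (Fin n) F) (l : F) :
    cnt d l + (((g⁻¹ * dg d hd * g : GL (Fin n) F) : Matrix (Fin n) (Fin n) F) -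
      l • (1 : Matrix (Fin n) (Fin n) F)).rank = n := by
  have h1 : ((g⁻¹ * dg d hd * g : GL (Fin n) F) : Matrix (Fin n) (Fin n) F) -
      l • (1 : Matrix (Fin n) (Fin n) F) =
      ((g⁻¹ : GL (Fin n) F) : Matrix (Fin n) (Fin n) F) *
        Matrix.diagonal (fun i => d i - l) * (g : Matrix (Fin n) (Fin n) F) := by
    have h2 : Matrix.diagonal (fun i => d i - l) =
        Matrix.diagonal d - l • (1 : Matrix (Fin n) (Fin n) F) := by
      rw [Matrix.smul_one_eq_diagonal, Matrix.diagonal_sub]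
    have h3 : ((g⁻¹ : GL (Fin n) F) : Matrix (Fin n) (Fin n) F) *
        (g : Matrix (Fin n) (Fin n) F) = 1 := by
      rw [← Units.val_mul, inv_mul_cancel, Units.val_one]
    rw [h2, Matrix.mul_sub, Matrix.sub_mul, Units.val_mul, Units.val_mul, dg_val,
      Matrix.mul_smul, Matrix.smul_mul, Matrix.mul_one, h3]
  have hg : IsUnit (g : Matrix (Fin n) (Fin n) F).det :=
    (Matrix.isUnit_iff_isUnit_det _).mp g.isUnit
  have hg' : IsUnit ((g⁻¹ : GL (Fin n) F) : Matrix (Fin n) (Fin n) F).det :=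
    (Matrix.isUnit_iff_isUnit_det _).mp (g⁻¹).isUnit
  rw [h1, Matrix.rank_mul_eq_left_of_isUnit_det _ _ hg,
    Matrix.rank_mul_eq_right_of_isUnit_det _ _ hg', Matrix.rank_diagonal]
  exact cnt_add_card d l

/-- Symmetry of the multiplicities. -/
theorem count_symm {n : ℕ} (d : Fin n → F) (hd : ∀ i, d i ≠ 0) (H : Subgroup (GL (Fin n) F))
    (hH : ∀ y ∈ H, ∃ c : F, c ≠ 0 ∧ ∀ l : F, l ≠ 0 →
      ((y : Matrix (Fin n) (Fin n) F) - l • (1 : Matrix (Fin n) (Fin n) F)).rank =
        ((y : Matrix (Fin n) (Fin n) F) - (c / l) • (1 : Matrix (Fin n) (Fin n) F)).rank)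
    (g : GL (Fin n) F) (hg : g⁻¹ * dg d hd * g ∈ H) :
    ∃ c : F, c ≠ 0 ∧ ∀ l : F, l ≠ 0 → cnt d l = cnt d (c / l) := by
  obtain ⟨c, hc, hrk⟩ := hH _ hg
  refine ⟨c, hc, fun l hl => ?_⟩
  have h1 := rank_conj_dg d hd g l
  have h2 := rank_conj_dg d hd g (c / l)
  have h3 := hrk l hl
  omega

end cnt

end Cfsg.Agent.Helper72.THDBK
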