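import Mathlib
import Cfsg.Prelude.Def_GeometricClasses
import Cfsg.Agent.Helper72.THDBK

/-!
# CALL S5981 (helper98), piece DBA (helper72)
-/

set_option autoImplicit false
open Matrix Polynomial

namespace Cfsg.Agent.Helper72.THDBA

open Cfsg.Agent.Helper72.THDBK

variable {F : Type*} [Field F] [Fintype F]

omit [Fintype F] in
/-- The counting contradiction for `diag(ω, ω, ω', 1, ..., 1)`, `ω' = ω⁻²`, `ω` of prime order
`r ≥ 5`, `(k, r) ≠ (2, 5)`. -/
theorem dba_count (k r : ℕ) (hr : r.Prime) (hr5 : 5 ≤ r) (hkr : ¬ (k = 2 ∧ r = 5)) (ω ω' : F)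
    (hω1 : ω ≠ 1) (hωr : ω ^ r = 1) (hω' : ω' * ω ^ 2 = 1) (c : F)
    (hsym : ∀ l : F, l ≠ 0 →
      cnt (Matrix.vecCons ω (Matrix.vecCons ω (Matrix.vecCons ω' (fun _ : Fin k => (1 : F))))) l =
      cnt (Matrix.vecCons ω (Matrix.vecCons ω (Matrix.vecCons ω' (fun _ : Fin k => (1 : F)))))
        (c / l)) : False := by
  classical
  simp only [cnt_cons, cnt_const] at hsym
  have : Fact r.Prime := ⟨hr⟩
  have hord : orderOf ω = r := orderOf_eq_prime hωr hω1
  have hdvd : ∀ j, ω ^ j = 1 → r ∣ j := fun j hj => hord ▸ orderOf_dvd_of_pow_eq_one hj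
  have hsmall : ∀ j, 0 < j → j < 5 → ω ^ j ≠ 1 := by
    intro j h0 h5 hj
    have := Nat.le_of_dvd h0 (hdvd j hj)
    omega
  have h6 : ω ^ 6 ≠ 1 := by
    intro hj
    have h := hdvd 6 hj
    have hle := Nat.le_of_dvd (by norm_num) h
    interval_cases r
    · omega
    · exact absurd hr (by norm_num)
  have h5 : r ≠ 5 → ω ^ 5 ≠ 1 := by
    intro hne hj
    have h := hdvd 5 hj
    have hle := Nat.le_of_dvd (by norm_num) h
    omega
  have hω0 : ω ≠ 0 := by
    rintro rfl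
    rw [zero_pow hr.ne_zero] at hωr
    exact zero_ne_one hωr
  have hω'0 : ω' ≠ 0 := by
    rintro rfl
    rw [zero_mul] at hω'
    exact zero_ne_one hω'
  have hinv : ω'⁻¹ = ω ^ 2 := inv_eq_of_mul_eq_one_right hω'
  have hne1 : ω ≠ ω' := by
    intro h
    rw [← h] at hω'
    exact hsmall 3 (by norm_num) (by norm_num) (by rw [← hω']; ring)
  have hne2 : (1 : F) ≠ ω' := by
    intro h
    rw [← h, one_mul] at hω'
    exact hsmall 2 (by norm_num) (by norm_num) hω'
  have hne3 : (1 : F) ≠ ω := fun h => hω1 h.symm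
  have h1 := hsym ω hω0
  have h2 := hsym ω' hω'0
  rw [if_pos rfl, if_neg hne1.symm, if_neg hne3] at h1
  rw [if_neg hne1, if_pos rfl, if_neg hne2] at h2
  by_cases hA : ω = c / ω
  · have hc2 : c = ω * ω := (div_eq_iff hω0).mp hA.symm
    have hc4 : c / ω' = ω ^ 4 := by
      rw [div_eq_mul_inv, hinv, hc2]; ring
    rw [hc4] at h2
    have e1 : ω ≠ ω ^ 4 := by
      intro h
      apply hsmall 3 (by norm_num) (by norm_num)
      have h' : ω * 1 = ω * ω ^ 3 := by
        calc ω * 1 = ω := mul_one _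
          _ = ω ^ 4 := h
          _ = ω * ω ^ 3 := by ring
      exact (mul_left_cancel₀ hω0 h').symm
    have e2 : ω' ≠ ω ^ 4 := by
      intro h
      apply h6
      rw [h] at hω'
      rw [← hω']; ring
    have e3 : (1 : F) ≠ ω ^ 4 := fun h => hsmall 4 (by norm_num) (by norm_num) h.symm
    rw [if_neg e1, if_neg e2, if_neg e3] at h2
    omega
  · rw [if_neg hA] at h1
    by_cases hB : (1 : F) = c / ω
    · have hc1 : c = ω := by
        have := (div_eq_iff hω0).mp hB.symm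
        rw [one_mul] at this
        exact this
      rw [if_pos hB] at h1
      have hC : ¬ ω' = c / ω := fun h => hne2 (hB.trans h.symm)
      rw [if_neg hC] at h1
      have hk2 : k = 2 := by omega
      have hr5' : r ≠ 5 := fun h => hkr ⟨hk2, h⟩
      have hc3 : c / ω' = ω ^ 3 := by
        rw [div_eq_mul_inv, hinv, hc1]; ring
      rw [hc3] at h2
      have e1 : ω ≠ ω ^ 3 := by
        intro h
        apply hsmall 2 (by norm_num) (by norm_num)
        have h' : ω * 1 = ω * ω ^ 2 := by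
          calc ω * 1 = ω := mul_one _
            _ = ω ^ 3 := h
            _ = ω * ω ^ 2 := by ring
        exact (mul_left_cancel₀ hω0 h').symm
      have e2 : ω' ≠ ω ^ 3 := by
        intro h
        apply h5 hr5'
        rw [h] at hω'
        rw [← hω']; ring
      have e3 : (1 : F) ≠ ω ^ 3 := fun h => hsmall 3 (by norm_num) (by norm_num) h.symm
      rw [if_neg e1, if_neg e2, if_neg e3] at h2
      omega
    · rw [if_neg hB] at h1
      split_ifs at h1 <;> omega

/-- DBA -/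
theorem bad_diag_a {n : ℕ} (hn : 3 ≤ n) (r : ℕ) (hr : r.Prime) (hr5 : 5 ≤ r) (hnr : ¬ (n = 5 ∧ r = 5))
    (ω : F) (hω1 : ω ≠ 1) (hωr : ω ^ r = 1) (H : Subgroup (GL (Fin n) F))
    (hH : ∀ y ∈ H, ∃ c : F, c ≠ 0 ∧ ∀ l : F, l ≠ 0 →
      ((y : Matrix (Fin n) (Fin n) F) - l • (1 : Matrix (Fin n) (Fin n) F)).rank =
        ((y : Matrix (Fin n) (Fin n) F) - (c / l) • (1 : Matrix (Fin n) (Fin n) F)).rank) :
    ∃ x : GL (Fin n) F, x ∈ Cfsg.Geo.specialLinear (Fin n) F ∧ x ^ r = 1 ∧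
      (∀ z : F, (x : Matrix (Fin n) (Fin n) F) ≠ z • (1 : Matrix (Fin n) (Fin n) F)) ∧
      ∀ g : GL (Fin n) F, g⁻¹ * x * g ∉ H := by
  obtain ⟨k, rfl⟩ : ∃ k, n = k + 3 := ⟨n - 3, by omega⟩
  have hω0 : ω ≠ 0 := by
    rintro rfl
    rw [zero_pow hr.ne_zero] at hωr
    exact zero_ne_one hωr
  have hω' : ω ^ (r - 2) * ω ^ 2 = 1 := by
    rw [← pow_add, Nat.sub_add_cancel (by omega), hωr]
  have hω'0 : ω ^ (r - 2) ≠ 0 := pow_ne_zero _ hω0
  have hd : ∀ i, Matrix.vecCons ω (Matrix.vecCons ω (Matrix.vecCons (ω ^ (r - 2))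
      (fun _ : Fin k => (1 : F)))) i ≠ 0 :=
    cons_all (p := fun a => a ≠ 0) _ _ hω0 (cons_all (p := fun a => a ≠ 0) _ _ hω0
      (cons_all (p := fun a => a ≠ 0) _ _ hω'0 (fun _ => one_ne_zero)))
  refine ⟨dg _ hd, ?_, ?_, ?_, ?_⟩
  · apply dg_mem_sl
    rw [prod_cons, prod_cons, prod_cons, Finset.prod_const_one, mul_one]
    rw [← hω']; ring
  · apply dg_pow_one
    refine cons_all (p := fun a => a ^ r = 1) _ _ hωr (cons_all (p := fun a => a ^ r = 1) _ _ hωr
      (cons_all (p := fun a => a ^ r = 1) _ _ ?_ (fun _ => one_pow r)))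
    rw [← pow_mul, mul_comm, pow_mul, hωr, one_pow]
  · intro z
    refine dg_not_scalar _ hd 0 (Fin.succ (Fin.succ 0)) ?_ z
    rw [Matrix.cons_val_zero, Matrix.cons_val_succ, Matrix.cons_val_succ, Matrix.cons_val_zero]
    intro h
    have : Fact r.Prime := ⟨hr⟩
    have hord : orderOf ω = r := orderOf_eq_prime hωr hω1
    have h3 : ω ^ 3 = 1 := by
      rw [← hω', ← h]; ring
    have hd3 : r ∣ 3 := hord ▸ orderOf_dvd_of_pow_eq_one h3
    have := Nat.le_of_dvd (by norm_num) hd3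
    omega
  · intro g hg
    obtain ⟨c, -, hsym⟩ := count_symm _ hd H hH g hg
    exact dba_count k r hr hr5 (fun h => hnr ⟨by omega, h.2⟩) ω _ hω1 hωr hω' c hsym

end Cfsg.Agent.Helper72.THDBA
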