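import Mathlib
import Cfsg.Prelude.Def_GeometricClasses
import Cfsg.Agent.Helper72.THDBK

/-!
# CALL S5981 (helper98), piece DBB (helper72)
-/

set_option autoImplicit false
open Matrix Polynomial

namespace Cfsg.Agent.Helper72.THDBB

open Cfsg.Agent.Helper72.THDBK

variable {F : Type*} [Field F] [Fintype F]

omit [Fintype F] in
/-- The counting contradiction for `diag(μ', μ, ..., μ)`, `μ' ^ r = μ ^ r`, `μ' ≠ μ`, `r` odd. -/
theorem dbb_count (h2 : (2 : F) ≠ 0) (k : ℕ) (hk2 : 2 ≤ k) (r : ℕ) (hr : Odd r) (μ μ' : F)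
    (hμ0 : μ ≠ 0) (hμ'0 : μ' ≠ 0) (hne : μ' ≠ μ) (hpow : μ' ^ r = μ ^ r) (c : F)
    (hsym : ∀ l : F, l ≠ 0 →
      cnt (Matrix.vecCons μ' (fun _ : Fin k => μ)) l =
      cnt (Matrix.vecCons μ' (fun _ : Fin k => μ)) (c / l)) : False := by
  classical
  simp only [cnt_cons, cnt_const] at hsym
  have h1 := hsym μ hμ0
  by_cases hA : μ = c / μ
  · have hc2 : c = μ * μ := (div_eq_iff hμ0).mp hA.symm
    have h3 := hsym μ' hμ'0
    have hne' : μ ≠ μ' := fun h => hne h.symm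
    rw [if_pos rfl, if_neg hne'] at h3
    by_cases hB : μ = c / μ'
    · rw [if_pos hB] at h3
      split_ifs at h3 <;> omega
    · rw [if_neg hB] at h3
      have hC : μ' = c / μ' := by
        by_contra hC
        rw [if_neg hC] at h3
        omega
      have hc3 : c = μ' * μ' := (div_eq_iff hμ'0).mp hC.symm
      have hsq : (μ' - μ) * (μ' + μ) = 0 := by
        have : μ' * μ' = μ * μ := hc3.symm.trans hc2
        linear_combination this
      rcases mul_eq_zero.mp hsq with h | h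
      · exact hne (sub_eq_zero.mp h)
      · have hneg : μ' = -μ := eq_neg_of_add_eq_zero_left h
        rw [hneg, hr.neg_pow] at hpow
        have h4 : (2 : F) * μ ^ r = 0 := by linear_combination -hpow
        rcases mul_eq_zero.mp h4 with h5 | h5
        · exact h2 h5
        · exact hμ0 (pow_eq_zero_iff (by rintro rfl; simp at hr) |>.mp h5)
  · rw [if_neg hne, if_pos rfl, if_neg hA] at h1
    split_ifs at h1 <;> omega

/-- DBB -/
theorem bad_diag_b (h2 : (2 : F) ≠ 0) {n : ℕ} (hn : 3 ≤ n) (r : ℕ) (hr : r.Prime) (hr2 : r ≠ 2)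
    (μ : F) (hμ : μ ^ (n * r) = 1) (hμn : μ ^ n ≠ 1) (H : Subgroup (GL (Fin n) F))
    (hH : ∀ y ∈ H, ∃ c : F, c ≠ 0 ∧ ∀ l : F, l ≠ 0 →
      ((y : Matrix (Fin n) (Fin n) F) - l • (1 : Matrix (Fin n) (Fin n) F)).rank =
        ((y : Matrix (Fin n) (Fin n) F) - (c / l) • (1 : Matrix (Fin n) (Fin n) F)).rank) :
    ∃ x : GL (Fin n) F, x ∈ Cfsg.Geo.specialLinear (Fin n) F ∧
      (∃ z : F, ((x ^ r : GL (Fin n) F) : Matrix (Fin n) (Fin n) F) = z • (1 : Matrix (Fin n) (Fin n) F)) ∧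
      (∀ z : F, (x : Matrix (Fin n) (Fin n) F) ≠ z • (1 : Matrix (Fin n) (Fin n) F)) ∧
      ∀ g : GL (Fin n) F, g⁻¹ * x * g ∉ H := by
  obtain ⟨k, rfl⟩ : ∃ k, n = k + 1 + 1 := ⟨n - 2, by omega⟩
  have hμ0 : μ ≠ 0 := by
    rintro rfl
    rw [zero_pow (Nat.mul_ne_zero (by omega) hr.ne_zero)] at hμ
    exact zero_ne_one hμ
  have hμ'0 : (μ ^ (k + 1))⁻¹ ≠ 0 := inv_ne_zero (pow_ne_zero _ hμ0)
  have hne : (μ ^ (k + 1))⁻¹ ≠ μ := by
    intro h
    apply hμn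
    have h1 : (μ ^ (k + 1))⁻¹ * μ ^ (k + 1) = 1 := inv_mul_cancel₀ (pow_ne_zero _ hμ0)
    rw [h] at h1
    rw [pow_succ', h1]
  have hpow : ((μ ^ (k + 1))⁻¹) ^ r = μ ^ r := by
    rw [inv_pow]
    apply inv_eq_of_mul_eq_one_right
    rw [← pow_mul, ← pow_add, ← hμ]
    congr 1
    ring
  have hd : ∀ i, Matrix.vecCons ((μ ^ (k + 1))⁻¹) (fun _ : Fin (k + 1) => μ) i ≠ 0 :=
    cons_all (p := fun a => a ≠ 0) _ _ hμ'0 (fun _ => hμ0)
  refine ⟨dg _ hd, ?_, ⟨μ ^ r, ?_⟩, ?_, ?_⟩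
  · apply dg_mem_sl
    rw [prod_cons, Finset.prod_const, Finset.card_univ, Fintype.card_fin]
    exact inv_mul_cancel₀ (pow_ne_zero _ hμ0)
  · apply dg_pow_scalar
    exact cons_all (p := fun a => a ^ r = μ ^ r) _ _ hpow (fun _ => rfl)
  · intro z
    refine dg_not_scalar _ hd 0 (Fin.succ 0) ?_ z
    rw [Matrix.cons_val_zero, Matrix.cons_val_succ]
    exact hne
  · intro g hg
    obtain ⟨c, -, hsym⟩ := count_symm _ hd H hH g hg
    exact dbb_count h2 (k + 1) (by omega) r (hr.eq_two_or_odd'.resolve_left hr2) μ _ hμ0 hμ'0 hne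
      hpow c hsym

end Cfsg.Agent.Helper72.THDBB
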