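import Mathlib
import Cfsg.Prelude.Def_GeometricClasses
import Cfsg.Agent.Helper72.THDBK

/-!
# CALL S5981 (helper98), piece DBC (helper72)
-/

set_option autoImplicit false
open Matrix Polynomial

namespace Cfsg.Agent.Helper72.THDBC

open Cfsg.Agent.Helper72.THDBK

variable {F : Type*} [Field F] [Fintype F]

omit [Fintype F] in
/-- The counting contradiction for `diag(ω, ω, ω, 1, ..., 1)`. -/
theorem dbc_count (k : ℕ) (hk1 : 1 ≤ k) (hk3 : k ≠ 3) (ω : F) (hω1 : ω ≠ 1) (hω3 : ω ^ 3 = 1)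
    (c : F)
    (hsym : ∀ l : F, l ≠ 0 →
      cnt (Matrix.vecCons ω (Matrix.vecCons ω (Matrix.vecCons ω (fun _ : Fin k => (1 : F))))) l =
      cnt (Matrix.vecCons ω (Matrix.vecCons ω (Matrix.vecCons ω (fun _ : Fin k => (1 : F)))))
        (c / l)) : False := by
  classical
  simp only [cnt_cons, cnt_const] at hsym
  have hω0 : ω ≠ 0 := by
    rintro rfl
    simp at hω3
  have h1 := hsym ω hω0
  by_cases hA : ω = c / ω
  · have hc2 : c = ω * ω := (div_eq_iff hω0).mp hA.symm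
    have e1 : ω ≠ ω * ω := by
      intro h
      apply hω1
      have h' : ω * 1 = ω * ω := by rw [mul_one]; exact h
      exact (mul_left_cancel₀ hω0 h').symm
    have e2 : (1 : F) ≠ ω * ω := by
      intro h
      apply hω1
      have h3 : ω ^ 3 = ω * (ω * ω) := by ring
      rw [← h, mul_one] at h3
      exact h3.symm.trans hω3
    have h2 := hsym 1 one_ne_zero
    rw [div_one, hc2] at h2
    simp only [hω1, e1, e2, if_false, if_true, zero_add] at h2
    omega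
  · have hne : (1 : F) ≠ ω := fun h => hω1 h.symm
    simp only [hA, hne, if_false, if_true, zero_add, add_zero] at h1
    split_ifs at h1 <;> omega

/-- DBC -/
theorem bad_diag_c {n : ℕ} (hn : 4 ≤ n) (hn6 : n ≠ 6) (ω : F) (hω1 : ω ≠ 1) (hω3 : ω ^ 3 = 1)
    (H : Subgroup (GL (Fin n) F))
    (hH : ∀ y ∈ H, ∃ c : F, c ≠ 0 ∧ ∀ l : F, l ≠ 0 →
      ((y : Matrix (Fin n) (Fin n) F) - l • (1 : Matrix (Fin n) (Fin n) F)).rank =
        ((y : Matrix (Fin n) (Fin n) F) - (c / l) • (1 : Matrix (Fin n) (Fin n) F)).rank) :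
    ∃ x : GL (Fin n) F, x ∈ Cfsg.Geo.specialLinear (Fin n) F ∧ x ^ 3 = 1 ∧
      (∀ z : F, (x : Matrix (Fin n) (Fin n) F) ≠ z • (1 : Matrix (Fin n) (Fin n) F)) ∧
      ∀ g : GL (Fin n) F, g⁻¹ * x * g ∉ H := by
  obtain ⟨k, rfl⟩ : ∃ k, n = k + 1 + 3 := ⟨n - 4, by omega⟩
  have hω0 : ω ≠ 0 := by
    rintro rfl
    simp at hω3
  have hd : ∀ i, Matrix.vecCons ω (Matrix.vecCons ω (Matrix.vecCons ω
      (fun _ : Fin (k + 1) => (1 : F)))) i ≠ 0 :=
    cons_all (p := fun a => a ≠ 0) _ _ hω0 (cons_all (p := fun a => a ≠ 0) _ _ hω0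
      (cons_all (p := fun a => a ≠ 0) _ _ hω0 (fun _ => one_ne_zero)))
  refine ⟨dg _ hd, ?_, ?_, ?_, ?_⟩
  · apply dg_mem_sl
    rw [prod_cons, prod_cons, prod_cons, Finset.prod_const_one, mul_one]
    rw [← hω3]; ring
  · apply dg_pow_one
    exact cons_all (p := fun a => a ^ 3 = 1) _ _ hω3 (cons_all (p := fun a => a ^ 3 = 1) _ _ hω3
      (cons_all (p := fun a => a ^ 3 = 1) _ _ hω3 (fun _ => one_pow 3)))
  · intro z
    refine dg_not_scalar _ hd 0 (Fin.succ (Fin.succ (Fin.succ 0))) ?_ z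
    rw [Matrix.cons_val_zero, Matrix.cons_val_succ, Matrix.cons_val_succ, Matrix.cons_val_succ]
    exact hω1
  · intro g hg
    obtain ⟨c, -, hsym⟩ := count_symm _ hd H hH g hg
    exact dbc_count (k + 1) (by omega) (by omega) ω hω1 hω3 c hsym

end Cfsg.Agent.Helper72.THDBC
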