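import Mathlib
import Cfsg.Agent.Helper13.TKDefs
import Cfsg.Agent.Helper52.TKMODEL1
import Cfsg.Agent.Helper37.TKMODEL2
import Cfsg.Agent.Helper37.TKMODELSUM
import Cfsg.Agent.Helper72.TKMODELALL0

/-!
# CALL S5956 (helper13), piece MODELALL (helper72)

`model_all`, verbatim from the skeleton: `model_all_of` fed with `model_one` (helper52),
`model_two` and `model_sum` (helper37).
-/

set_option autoImplicit false

namespace Cfsg.Agent.Helper72.TI5956

open Module Polynomial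
open Cfsg.Agent.Helper42.SpForm Cfsg.Agent.Helper42.SpGroup Cfsg.Agent.Helper42.SpModels
open Cfsg.Agent.Helper13.TIsp

section sp

variable {F : Type*} [Field F]

/-- MODELALL (case a): induction on `μ.card`: remove an even part (`model_one`) or two equal odd
parts (`model_two`), `model_sum`. -/
theorem model_all (p : ℕ) [Fact p.Prime] [CharP F p] (h2 : (2 : F) ≠ 0) (μ : Multiset ℕ)
    (hμ : ∀ a ∈ μ, 0 < a ∧ a ≤ p) (hodd : ∀ a : ℕ, Odd a → Even (μ.count a)) (d : ℕ)
    (hsum : μ.sum = 2 * d) :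
    ∃ g : Matrix.symplecticGroup (Fin d) F, toEnd g ^ p = 1 ∧ JT (toEnd g - 1) ⊤ μ :=
  model_all_of p
    (fun n hn hnp => Cfsg.Agent.Helper52.TI5956.model_one p h2 n hn hnp)
    (fun a ha hap => Cfsg.Agent.Helper37.TI5956.model_two p h2 a ha hap)
    (fun n₁ n₂ g₁ g₂ h₁ h₂ l₁ l₂ hl₁ hl₂ =>
      Cfsg.Agent.Helper37.TI5956.model_sum p n₁ n₂ g₁ g₂ h₁ h₂ l₁ l₂ hl₁ hl₂)
    μ hμ hodd d hsum

end sp

end Cfsg.Agent.Helper72.TI5956
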