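import Mathlib
import Cfsg.Agent.Helper13.TKDefs
import Cfsg.Agent.Helper13.TKATOMP
import Cfsg.Agent.Helper37.TKJTADD
import Cfsg.Agent.Helper72.TKSTRUCT0

/-!
# CALL S5956 (helper13), piece STRUCT (helper72)

`struct_p`, verbatim from the skeleton: `struct_p_of` fed with `atom_p` (helper13) and `jt_add`
(helper37).
-/

set_option autoImplicit false

namespace Cfsg.Agent.Helper72.TI5956

open Module Polynomial
open Cfsg.Agent.Helper42.SpForm Cfsg.Agent.Helper42.SpGroup Cfsg.Agent.Helper42.SpModels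
open Cfsg.Agent.Helper13.TIsp

section geom2

variable {F : Type*} [Field F] {V : Type*} [AddCommGroup V] [Module F V] [FiniteDimensional F V]
  (B : LinearMap.BilinForm F V)

/-- STRUCT (case a): orthogonal decomposition into atoms, with selection. -/
theorem struct_p (halt : ∀ v, B v v = 0) (h2 : (2 : F) ≠ 0) (T : Module.End F V)
    (hT : Preserves B T) (n : ℕ) (hn : 0 < n) (hTn : T ^ n = 1) (p : ℕ)
    (hNp : (T - 1) ^ p = 0) :
    ∀ (E : Submodule F V), E.map T ≤ E → NondegOn B E →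
      ∃ μ : Multiset ℕ, JT (T - 1) E μ ∧ (∀ a ∈ μ, 0 < a ∧ a ≤ p) ∧
        (∀ a : ℕ, Odd a → Even (μ.count a)) ∧
        ∀ ν : Multiset ℕ, ν ≤ μ → (∀ a : ℕ, Odd a → Even (ν.count a)) →
          ∃ W : Submodule F V, W ≤ E ∧ W.map T ≤ W ∧ NondegOn B W ∧ finrank F W = ν.sum :=
  struct_p_of B halt T hT n hn hTn p hNp
    (fun E hET hE hE0 =>
      Cfsg.Agent.Helper13.TIsp.atom_p B halt h2 T hT n hn hTn p hNp E hET hE hE0)
    (fun Z₁ Z₂ h1 h2' hd l₁ l₂ hl₁ hl₂ =>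
      Cfsg.Agent.Helper37.TI5956.jt_add (T - 1) Z₁ Z₂ h1 h2' hd l₁ l₂ hl₁ hl₂)

end geom2

end Cfsg.Agent.Helper72.TI5956
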