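/-
Sub-CALL TSR2 (helper90), piece SKTYPE (double by helper72), verbatim statement: SKBASIS (helper6)
plus `r2_skew_type_of_basis`.
-/
import Mathlib
import Cfsg.Prelude.Def_GeometricClasses
import Cfsg.Prelude.Def_Classical
import Cfsg.Agent.Helper58.TSDefs
import Cfsg.Agent.Helper6.TSR2SKBASIS
import Cfsg.Agent.Helper72.TSR2SKTYPE

set_option autoImplicit false

namespace Cfsg.Agent.Helper72.TSR2

open Module Cfsg Cfsg.Geo Cfsg.Agent.Helper58.TS
open scoped MatrixGroups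

section pieces

variable {ι : Type} [Fintype ι] [DecidableEq ι] {F : Type*} [Field F] [Fintype F]

/-- SKTYPE: an isometry with `M² = -1`, `-1` a nonsquare, exists only in plus type iff `d` even. -/
theorem r2_skew_type (Q : (ι → F) → F) (hQ : IsNondegenerateQuadraticForm Q) (h2 : (2 : F) ≠ 0)
    (d : ℕ) (hd : 1 ≤ d) (hcard : Fintype.card ι = 2 * d) (M : Matrix ι ι F)
    (hM : ∀ v, Q (M.mulVec v) = Q v) (hM2 : M * M = -1) (hm1 : ¬ IsSquare (-1 : F)) :
    IsPlusTypeOn Q ⊤ ↔ Even d := by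
  obtain ⟨v, hv, hvo⟩ := Cfsg.Agent.Helper6.TSR2.r2_skew_basis Q hQ h2 d hcard M hM hM2 hm1
  exact r2_skew_type_of_basis Q hQ h2 d hd hcard M hM hM2 hm1 v hv hvo

end pieces

end Cfsg.Agent.Helper72.TSR2
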